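import Groth.Agent.GitQuot.KeelMori.UnifModuli
import Groth.Agent.GitQuot.StkPieces.OverMap
import Groth.Agent.StkGerb.UnivClosedCalc
import Groth.Agent.StkGerb.GerbeApps
import Groth.Agent.AlgStLift.Diag
import Groth.Agent.AlgSp2.FiniteTfae

/-!
# The affine quotient of a chart groupoid is a separated universal homeomorphism
-/

set_option autoImplicit false
set_option backward.isDefEq.respectTransparency false
set_option backward.isDefEq.respectTransparency.types false

universe u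

open CategoryTheory CategoryTheory.Limits AlgebraicGeometry Opposite
open Groth.StkBase Groth.AlgSpBasic Groth.AlgStBasic

noncomputable section

namespace Groth.KeelMori

variable {S : Scheme.{u}} {𝒳 : AlgSt.Cat S} {U R : Over S} {x : FibCat.overCat U ⥤ᵇ 𝒳}

/-- Vertically related images have the same value. -/
theorem homOf_eq_of_vert {M : AlgSp.Sp S} (π : 𝒳 ⥤ᵇ AlgSt.ofSp M) {a₁ a₂ : 𝒳.obj} {T : Over S}
    (h₁ : 𝒳.p.obj a₁ = T) (h₂ : 𝒳.p.obj a₂ = T) (β : π.obj a₁ ⟶ π.obj a₂)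
    (hβ : IsVert (AlgSt.ofSp M).p β) :
    (AlgSp.yon S).map (eqToHom h₁.symm) ≫ homOf π a₁ =
      (AlgSp.yon S).map (eqToHom h₂.symm) ≫ homOf π a₂ := by
  rw [yon_map_yEquiv_symm, yon_map_yEquiv_symm]
  refine congrArg yEquiv.symm ?_
  rw [secOf, secOf]
  refine (map_op_comp M.obj _ _ _).trans (Eq.trans ?_ (map_op_comp M.obj _ _ _).symm)
  refine Eq.trans (congrArg _ β.2.symm) ((map_op_comp M.obj _ _ _).trans ?_)
  refine congrArg (fun t : T ⟶ (π.obj a₂).base => M.obj.map t.op (π.obj a₂).sec) ?_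
  rw [show β.hom = eqToHom hβ.obj_eq from hβ.map_eq]
  simp

section Chart

variable {hX : FibCat.IsFibGrpd 𝒳.p} {ω : StkSlice.Arr x R} (hω : StkSlice.Univ hX ω)
  [IsAffine U.left] [IsAffine R.left] [IsFinite ω.src.left] [Flat ω.src.left]
  [LocallyOfFinitePresentation ω.src.left] (hx : AlgSt.RepByAlgSpWith (FinCov S) x)

theorem homOf_ofSpMap {M N : AlgSp.Sp S} (v : M ⟶ N) (z : (AlgSt.ofSp M).obj) :
    homOf (AlgSt.ofSpMap v) z = yEquiv.symm z.sec ≫ v :=
  (congrArg yEquiv.symm (map_op_id N.obj _ rfl _)).trans (yEquiv_symm_comp _ _).symm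

/-- The composite with the chart. -/
theorem nonempty_iso_chart :
    Nonempty (BasedFunctor.comp x (toModuli hω hx) ≅ BasedFunctor.comp (AlgSt.ofOverCat U)
      (AlgSt.ofSpMap ((AlgSp.yon S).map (chartQuot hω)))) :=
  nonempty_iso_of_homOf fun z => by
    rw [homOf_comp_left, homOf_comp_left]
    have h := toModuli_chart hω hx z.hom
    refine h.trans ?_
    rw [homOf_ofSpMap, Functor.map_comp]
    rfl

theorem repWith_chart_of_stable {P : MorphismProperty (AlgSp.Sp S)} (hb : StableBaseChange P)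
    (hP : P ((AlgSp.yon S).map (chartQuot hω))) :
    AlgSt.RepByAlgSpWith P (BasedFunctor.comp x (toModuli hω hx)) :=
  repWith_of_iso (nonempty_iso_chart hω hx).some.symm
    ((repWith_precomp_equiv (isEquivOver_ofOverCat U) _).2
      (repWith_ofPshMap_of_stable (F := ⟨_, AlgSp.IsAlgSpace.yon_obj U⟩)
        (G := ⟨_, AlgSp.IsAlgSpace.yon_obj (Mo (StkSlice.groupoid hω))⟩) hb _ hP))

include hω in
/-- Two objects over an algebraically closed field with the same image are isomorphic. -/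
theorem exists_vert_of_algClosed (k : Type u) [Field k] [IsAlgClosed k]
    (s : Spec (CommRingCat.of k) ⟶ S) (a₁ a₂ : 𝒳.obj) (h₁ : 𝒳.p.obj a₁ = Over.mk s)
    (h₂ : 𝒳.p.obj a₂ = Over.mk s)
    (he : (AlgSp.yon S).map (eqToHom h₁.symm) ≫ homOf (toModuli hω hx) a₁ =
      (AlgSp.yon S).map (eqToHom h₂.symm) ≫ homOf (toModuli hω hx) a₂) :
    ∃ α : a₁ ⟶ a₂, IsVert 𝒳.p α := by
  have lift : ∀ (a : 𝒳.obj) (h : 𝒳.p.obj a = Over.mk s),
      ∃ (u : Over.mk s ⟶ U) (φ : x.obj (Over.mk u) ⟶ a),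
        𝒳.p.map φ = eqToHom (x.w_obj (Over.mk u)) ≫ eqToHom h.symm := fun a h => by
    obtain ⟨P, u, c, φ, hφ, hc, -, -, hcs⟩ := exists_cover hX hx a
    let d : P.left ⟶ Spec (CommRingCat.of k) := (c ≫ eqToHom h).left
    have : IsFinite d := by
      show IsFinite (c.left ≫ (eqToHom h).left)
      infer_instance
    have : Surjective d := by
      show Surjective (c.left ≫ (eqToHom h).left)
      infer_instance
    have : Nonempty P.left := ⟨(d.surjective (IsLocalRing.closedPoint k)).choose⟩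
    obtain ⟨σ, hσ⟩ := AlgStLift.exists_point d
    let σ' : Over.mk s ⟶ P := Over.homMk σ (by
      show σ ≫ P.hom = s
      rw [← Over.w (c ≫ eqToHom h)]
      exact (reassoc_of% hσ) s)
    have hc' : σ' ≫ c ≫ eqToHom h = 𝟙 _ := Over.OverMorphism.ext hσ
    refine ⟨σ' ≫ u, StkSlice.Arr.xMap x σ' u ≫ φ, (map_xMap_comp φ hφ σ').trans ?_⟩
    rw [show σ' ≫ c = eqToHom h.symm from by
      rw [← cancel_mono (eqToHom h), Category.assoc, hc', eqToHom_trans, eqToHom_refl]]
  obtain ⟨u₁, φ₁, hφ₁⟩ := lift a₁ h₁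
  obtain ⟨u₂, φ₂, hφ₂⟩ := lift a₂ h₂
  have e : u₁ ≫ chartQuot hω = u₂ ≫ chartQuot hω := by
    apply (AlgSp.yon S).map_injective
    rw [← toModuli_spec hω hx φ₁ hφ₁, ← toModuli_spec hω hx φ₂ hφ₂, he]
  obtain ⟨r, hr₂, hr₁⟩ := (AffGpd.point_eq_iff (StkSlice.groupoid hω) k u₂.left u₁.left).1
    (congrArg Over.Hom.left e).symm
  let r' : Over.mk s ⟶ R := Over.homMk r (by
    show r ≫ R.hom = s
    rw [← Over.w ω.src, ← Category.assoc]
    exact (congrArg (· ≫ U.hom) hr₁).trans (Over.w u₁))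
  have e₁ : r' ≫ ω.src = u₁ := Over.OverMorphism.ext hr₁
  have e₂ : r' ≫ ω.tgt = u₂ := Over.OverMorphism.ext hr₂
  let A := ω.pull hX r'
  have v₁ : IsVert 𝒳.p φ₁ :=
    ⟨(x.w_obj _).trans h₁.symm, hφ₁.trans (eqToHom_trans _ _)⟩
  have v₂ : IsVert 𝒳.p φ₂ :=
    ⟨(x.w_obj _).trans h₂.symm, hφ₂.trans (eqToHom_trans _ _)⟩
  have := v₁.isIso hX
  exact ⟨inv φ₁ ≫ eqToHom (congrArg (fun a => x.obj (Over.mk a)) e₁.symm) ≫ A.hom ≫
    eqToHom (congrArg (fun a => x.obj (Over.mk a)) e₂) ≫ φ₂,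
    (IsVert.inv (φ := asIso φ₁) v₁).comp ((isVert_eqToHom _).comp (A.vert.comp
      ((isVert_eqToHom _).comp v₂)))⟩

/-- The diagonal of the quotient is surjective. -/
theorem isSurjective_diag_toModuli : AlgSt.IsSurjective (FibCat.diag (toModuli hω hx)) := by
  refine AlgStLift.isSurjective_diag_of_lift_hom hX (isFibSetoid_ofPsh _).1 _
    fun k _ _ s a₁ a₂ h₁ h₂ β hβ => ?_
  obtain ⟨α, hα⟩ := exists_vert_of_algClosed hω hx k s a₁ a₂ h₁ h₂
    (homOf_eq_of_vert _ h₁ h₂ β hβ)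
  exact ⟨α, elt_hom_ext_p ((isVert_map hα).map_eq.trans hβ.map_eq.symm)⟩

omit [IsAffine U.left] in
include hx hX in
theorem isSurjective_chart : AlgSt.IsSurjective x :=
  (isSurjective_iff_repWith (isFibGrpd_overCat U) hX (repWith_repByAlgSp1 hx)).2
    (repWith_mono (fun _ _ _ _ _ h => h.1.1.1) hx)

theorem surjective_chartQuot : Surjective (chartQuot hω).left :=
  ⟨(AffGpd.isQuot_toQuot (StkSlice.groupoid hω)).surj⟩

theorem isUnivClosedMor_chartQuot :
    AlgSp.IsUnivClosedMor ((AlgSp.yon S).map (chartQuot hω)) := by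
  have : IsIntegralHom (chartQuot hω).left := isIntegralHom_toQuot (StkSlice.groupoid hω)
  exact (AlgSp2.repWith_universallyClosed_iff
    (representable_of_diag (AlgSp.IsAlgSpace.yon_obj _).diag _)).1
      ((AlgSp.repWith_yon_map_iff @UniversallyClosed _).2 inferInstance)

theorem isSeparatedMor_chartQuot :
    AlgSp.IsSeparatedMor ((AlgSp.yon S).map (chartQuot hω)) := by
  have : IsIntegralHom (chartQuot hω).left := isIntegralHom_toQuot (StkSlice.groupoid hω)
  exact (AlgSp.isSeparatedMor_yon_map_iff _).2 inferInstance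

theorem isSurjective_toModuli : AlgSt.IsSurjective (toModuli hω hx) := by
  have hs : AlgSt.RepByAlgSpWith AlgSp.IsSurjectiveMor (BasedFunctor.comp x (toModuli hω hx)) :=
    repWith_chart_of_stable hω hx stableBaseChange_surjective fun z => by
      obtain ⟨t, rfl⟩ := (AlgSp.Points.schemeHomeo _).surjective z
      obtain ⟨u, rfl⟩ := (surjective_chartQuot hω).surj t
      exact ⟨AlgSp.Points.schemeHomeo U u, AlgSp.Points.map_yon_map_apply _ _⟩
  intro z
  obtain ⟨w, hw⟩ := (isSurjective_iff_repWith (isFibGrpd_overCat U) (isFibSetoid_ofPsh _).1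
    (repWith_repByAlgSp1 hs)).2 hs z
  exact ⟨AlgSt.Points.map x w, (map_comp _ _ w).symm.trans hw⟩

variable (hA : AlgSt.IsAlgStack Scheme.fppfPrecoverage 𝒳)

include hA

theorem isUnivClosed_toModuli :
    AlgSt.IsUnivClosed Scheme.fppfPrecoverage (toModuli hω hx) := by
  have hU := isAlgStack_overCat U
  have hM := isAlgStack_ofSp (AlgSp.IsAlgSpace.yon_obj (Mo (StkSlice.groupoid hω)))
  have h := repWith_chart_of_stable hω hx stableBaseChange_univClosed (isUnivClosedMor_chartQuot hω)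
  exact StkGerb.isUnivClosed_of_comp hU hA hM (isSurjective_chart (hX := hX) hx)
    ((StkGerb.repWith_univClosed_iff hU hM (repWith_repByAlgSp1 h)).1 h)

/-- **The quotient is separated.** -/
theorem isSeparatedMor_toModuli : AlgSt.IsSeparatedMor (toModuli hω hx) := by
  have hU := isAlgStack_overCat U
  have hM := isAlgStack_ofSp (AlgSp.IsAlgSpace.yon_obj (Mo (StkSlice.groupoid hω)))
  have hprop : AlgSt.RepByAlgSpWith AlgSp.IsProperMor x :=
    repWith_mono (fun _ _ _ hX hY h => Groth.AlgSp2.isProperMor_of_isFiniteMor hX hY h.1.2) hx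
  have hx1 : AlgSt.RepByAlgSp1 x := repWith_repByAlgSp1 hx
  have huc : AlgSt.IsUnivClosed Scheme.fppfPrecoverage x :=
    (StkGerb.repWith_univClosed_iff hU hA hx1).1 (repWith_mono (fun _ _ _ _ _ h => h.2.2) hprop)
  have hdiag : AlgSt.RepByAlgSpWith AlgSp.IsUnivClosedMor (FibCat.diag x) :=
    ((tfae_separated hx1).out 0 3).1 (repWith_mono (fun _ _ _ _ _ h => h.1) hprop)
  have h := repWith_chart_of_stable hω hx stableBaseChange_sep (isSeparatedMor_chartQuot hω)
  exact StkGerb.isSeparatedMor_of_comp_univClosed hU hA hM huc (isSurjective_chart (hX := hX) hx) hdiag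
    (((tfae_separated (repWith_repByAlgSp1 h)).out 0 2).1 h)

/-- **The quotient is a universal homeomorphism.** -/
theorem isUnivHomeo_toModuli :
    AlgSt.IsUnivHomeo Scheme.fppfPrecoverage (toModuli hω hx) := by
  intro 𝒵 hZ g
  have hM := isAlgStack_ofSp (AlgSp.IsAlgSpace.yon_obj (Mo (StkSlice.groupoid hω)))
  refine isHomeomorph_iff_continuous_isClosedMap_bijective.2 ⟨continuous_map hZ _,
    isUnivClosed_toModuli hω hx hA 𝒵 hZ g,
    (isUnivInjective_iff_isSurjective_diag hA hM _).2 (isSurjective_diag_toModuli hω hx) 𝒵 hZ g,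
    isSurjective_fpFst hX hM.isStack.1 hZ.isStack.1 g (isSurjective_toModuli hω hx)⟩

/-- The quotient is quasi-compact. -/
theorem isQuasiCompactMor_toModuli :
    AlgSt.IsQuasiCompactMor Scheme.fppfPrecoverage (toModuli hω hx) :=
  StkGerb.isQuasiCompactMor_of_isUnivHomeo hA
    (isAlgStack_ofSp (AlgSp.IsAlgSpace.yon_obj (Mo (StkSlice.groupoid hω))))
    (isUnivHomeo_toModuli hω hx hA)

end Chart

end Groth.KeelMori
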