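import Groth.Agent.GitQuot.StkPieces.Chart
import Groth.Agent.GitQuot.StkPieces.OverMap
import Groth.Agent.AlgSp2.FiniteTfae
import Groth.Agent.AlgSp2.MonoPoint
import Groth.Agent.AlgStBasic.OpenSub
import Groth.Prelude.Def_StGerb2

/-!
# The locus where an étale morphism preserves automorphism groups
-/

set_option autoImplicit false
set_option backward.isDefEq.respectTransparency false
set_option backward.isDefEq.respectTransparency.types false

universe u

open CategoryTheory CategoryTheory.Limits AlgebraicGeometry Opposite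
open Groth.StkBase Groth.AlgStBasic Groth.AlgSpBasic

noncomputable section

namespace Groth.KeelMori

variable {S : Scheme.{u}} {𝒳 𝒵 𝒲 : AlgSt.Cat S}

/-- A separated quasi-finite representable functor has schemes as base changes. -/
theorem exists_scheme_chart {f : 𝒵 ⥤ᵇ 𝒳}
    (hf : AlgSt.RepByAlgSpWith
      (AlgSp.LocP (@LocallyQuasiFinite ⊓ @LocallyOfFiniteType) ⊓ AlgSp.IsSeparatedMor) f)
    {U : Over S} (y : FibCat.overCat U ⥤ᵇ 𝒳) :
    ∃ (H : Over S) (c : H ⟶ U) (L : FibCat.overCat H ⥤ᵇ FibCat.fp y f),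
      FibCat.IsEquivOver L ∧ Nonempty (BasedFunctor.comp L (FibCat.fpFst y f) ≅ AlgSt.overMap c) ∧
      ∀ (P : MorphismProperty (AlgSp.Sp S)), StableBaseChange P → AlgSt.RepByAlgSpWith P f →
        P ((AlgSp.yon S).map c) := by
  obtain ⟨F, e, he, hqf, hsep⟩ := hf U y
  obtain ⟨H, ⟨i⟩⟩ := exists_iso_of_separated_lqf F.property hqf hsep
  let ψ := AlgSt.spMapOfOver (BasedFunctor.comp e (FibCat.fpFst y f))
  let Φ₀ := BasedFunctor.comp (AlgSt.ofSpMap i.hom) (BasedFunctor.comp e (FibCat.fpFst y f))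
  obtain ⟨c, hc⟩ := (AlgSp.yon S).map_surjective (i.hom ≫ ψ)
  have hc₀ : (AlgSp.yon S).map c = AlgSt.spMapOfOver Φ₀ := by
    rw [hc]
    apply ObjectProperty.hom_ext
    rw [spMapOfOver_hom_eq Φ₀]
    show i.hom.hom ≫ ψ.hom = _
    rw [spMapOfOver_hom_eq, ← pshMapOf_ofPshMap i.hom.hom, ← pshMapOf_comp]
    rfl
  obtain ⟨γ⟩ := StkRed.iso_overMap_of_spMap Φ₀ c hc₀
  refine ⟨H, c, BasedFunctor.comp (AlgSt.ofOverCat H) (BasedFunctor.comp (AlgSt.ofSpMap i.hom) e),
    isEquivOver_comp (isEquivOver_ofOverCat H) (isEquivOver_comp (AlgStImm.isEquivOver_ofSpMap i) he),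
    ⟨γ⟩, fun P hb hP => ?_⟩
  rw [hc]
  exact StkPieces.prop_iso_comp hb F.property i (prop_of_repWith_fp hb hP y F e he)

section Pt

variable {f : 𝒵 ⥤ᵇ 𝒳} {U H : Over S} {y : FibCat.overCat U ⥤ᵇ 𝒳} {c : H ⟶ U}
  {L : FibCat.overCat H ⥤ᵇ FibCat.fp y f}

/-- The point of the chart defined by an object of the base change. -/
def pt (hL : FibCat.IsEquivOver L) (z : (FibCat.fp y f).obj) : (FibCat.fp y f).p.obj z ⟶ H :=
  (FibCat.fp y f).p.map (StkPieces.unique_hom_of_isEquivOver hL z).exists.choose ≫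
    eqToHom (L.w_obj (idObj H))

theorem pt_map (hL : FibCat.IsEquivOver L) {z z' : (FibCat.fp y f).obj} (φ : z ⟶ z') :
    (FibCat.fp y f).p.map φ ≫ pt hL z' = pt hL z := by
  rw [pt, pt, ← Category.assoc, ← Functor.map_comp]
  congr 2
  exact (StkPieces.unique_hom_of_isEquivOver hL z).unique trivial trivial

theorem pt_comp (hL : FibCat.IsEquivOver L)
    (α : BasedFunctor.comp L (FibCat.fpFst y f) ≅ AlgSt.overMap c) (z : (FibCat.fp y f).obj) :
    pt hL z ≫ c = z.obj.fst.hom := by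
  let χ := (StkPieces.unique_hom_of_isEquivOver hL z).exists.choose
  let j := isoApp α (idObj H)
  have hj := (isVert_isoApp α (idObj H)).map_eq
  have h₁ : χ.hom.fst.left ≫ (L.obj (idObj H)).obj.fst.hom = z.obj.fst.hom := Over.w χ.hom.fst
  have h₂ : j.hom.left ≫ (𝟙 H ≫ c) = (L.obj (idObj H)).obj.fst.hom := Over.w j.hom
  rw [← h₁, ← h₂, show j.hom.left = eqToHom _ from hj]
  erw [Category.id_comp]
  exact Category.assoc _ _ _

theorem exists_vert_iso_of_pt_eq (hL : FibCat.IsEquivOver L)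
    (hZ : FibCat.IsFibGrpd (FibCat.fp y f).p) {z z' : (FibCat.fp y f).obj}
    (hb : (FibCat.fp y f).p.obj z = (FibCat.fp y f).p.obj z')
    (h : eqToHom hb ≫ pt hL z' = pt hL z) :
    ∃ ν : z ≅ z', IsVert (FibCat.fp y f).p ν.hom := by
  obtain ⟨ν, hν, -⟩ := exists_vert_iso_of_lifts hZ
    (StkPieces.unique_hom_of_isEquivOver hL z).exists.choose
    (StkPieces.unique_hom_of_isEquivOver hL z').exists.choose hb (by
      rw [← cancel_mono (eqToHom (L.w_obj (idObj H))), Category.assoc]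
      exact h.symm)
  exact ⟨ν, hν⟩

end Pt

/-- Every automorphism of the image lifts. -/
def LiftsAut (h : 𝒲 ⥤ᵇ 𝒳) (w : 𝒲.obj) : Prop :=
  ∀ β : h.obj w ⟶ h.obj w, IsVert 𝒳.p β → ∃ α : w ⟶ w, IsVert 𝒲.p α ∧ h.map α = β

theorem liftsAut_of_vert {h : 𝒲 ⥤ᵇ 𝒳} {w w' : 𝒲.obj} (i : w ≅ w') (hi : IsVert 𝒲.p i.hom)
    (hw : LiftsAut h w) : LiftsAut h w' := by
  intro β hβ
  have hi' := isVert_map (F := h) hi
  obtain ⟨α, hα, e⟩ := hw (h.map i.hom ≫ β ≫ h.map i.inv)
    (hi'.comp (hβ.comp (isVert_map (F := h) hi.inv)))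
  refine ⟨i.inv ≫ α ≫ i.hom, hi.inv.comp (hα.comp hi), ?_⟩
  have e₁ : h.map i.inv ≫ h.map i.hom = 𝟙 _ := by
    rw [← Functor.map_comp, i.inv_hom_id]
    exact h.toFunctor.map_id _
  rw [Functor.map_comp, Functor.map_comp, e]
  simp only [Category.assoc]
  rw [e₁, Category.comp_id, ← Category.assoc, e₁, Category.id_comp]

/-- A finite scheme of automorphisms of an object over a chart, with a universal automorphism. -/
theorem exists_autChart (hX : FibCat.IsFibGrpd 𝒳.p)
    (hI : AlgSt.RepByAlgSpWith AlgSp.IsFiniteMor (FibCat.inertiaToBase (FibCat.toSelf 𝒳)))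
    {U : Over S} (y : FibCat.overCat U ⥤ᵇ 𝒳) :
    ∃ (g : (FibCat.overCat U).obj) (γ : y.obj g ⟶ y.obj g), IsVert 𝒳.p γ ∧ IsFinite g.hom.left ∧
      ∀ (a : (FibCat.overCat U).obj) (β : y.obj a ⟶ y.obj a), IsVert 𝒳.p β →
        ∃ n : a ⟶ g, β ≫ y.map n = y.map n ≫ γ := by
  let f := FibCat.inertiaToBase (FibCat.toSelf 𝒳)
  obtain ⟨G, c, L, hL, ⟨α⟩, hP⟩ := exists_scheme_chart (f := f)
    (repWith_mono (fun _ _ _ hA hB hq =>
      ⟨Groth.AlgSp2.lqf_of_isFiniteMor hA hB hq,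
        (Groth.AlgSp2.isProperMor_of_isFiniteMor hA hB hq).1⟩) hI) y
  have hfin : IsFinite c.left := (AlgSp.repWith_yon_map_iff @IsFinite c).1
    (isFiniteMor_iff_repWith.1 (hP _ (fun _ _ _ _ _ h₂ _ h₄ a b a' b' sq ha => by
      rw [isFiniteMor_iff_repWith] at ha ⊢
      exact repWith_of_isPullback sq ha) hI))
  let z₀ := L.obj (idObj G)
  let g := z₀.obj.fst
  let i : y.obj g ≅ z₀.obj.snd.pt := z₀.obj.iso
  have hi : IsVert 𝒳.p i.hom := fp_isVert z₀
  have haut : IsVert 𝒳.p z₀.obj.snd.aut.hom :=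
    ⟨rfl, z₀.obj.snd.map_aut.trans (eqToHom_refl _ _).symm⟩
  refine ⟨g, i.hom ≫ z₀.obj.snd.aut.hom ≫ i.inv, hi.comp (haut.comp hi.inv), ?_, fun a β hβ => ?_⟩
  · let j := isoApp α (idObj G)
    have h₂ : j.hom.left ≫ (𝟙 G ≫ c) = g.hom := Over.w j.hom
    rw [← h₂, show j.hom.left = eqToHom _ from (isVert_isoApp α (idObj G)).map_eq]
    erw [Category.id_comp]
    rw [Over.comp_left]
    exact (MorphismProperty.cancel_left_of_respectsIso @IsFinite _ _).2 hfin
  · have := hβ.isIso hX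
    let ι : (FibCat.inertia (FibCat.toSelf 𝒳)).obj :=
      ⟨y.obj a, asIso β, hβ.map_eq.trans (eqToHom_refl _ _)⟩
    let z : (FibCat.fp y f).obj := fpMk (F := y) (G := f) a ι (Iso.refl (y.obj a)) (isVert_id _)
    let χ := (StkPieces.unique_hom_of_isEquivOver hL z).exists.choose
    refine ⟨χ.hom.fst, ?_⟩
    have w : y.map χ.hom.fst ≫ i.hom = 𝟙 _ ≫ χ.hom.snd.hom := χ.hom.w
    have cc : β ≫ χ.hom.snd.hom = χ.hom.snd.hom ≫ z₀.obj.snd.aut.hom := χ.hom.snd.comm
    rw [Category.id_comp] at w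
    rw [← cancel_mono i.hom]
    simp only [Category.assoc, Iso.inv_hom_id, Category.comp_id]
    rw [w, cc, ← w, Category.assoc]

/-- A point of a finite scheme over an algebraically closed field is rational. -/
theorem exists_rational_point {K : Type u} [Field K] [IsAlgClosed K] {P : Scheme.{u}}
    (p : P ⟶ Spec (CommRingCat.of K)) [IsFinite p] (z : P) :
    ∃ σ : Spec (CommRingCat.of K) ⟶ P, σ ≫ p = 𝟙 _ ∧ σ (IsLocalRing.closedPoint K) = z := by
  have hd : _root_.IsDiscrete (Set.univ : Set P) := by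
    have h := p.isDiscrete_preimage_singleton (IsLocalRing.closedPoint K)
    rwa [show p ⁻¹' {IsLocalRing.closedPoint K} = (Set.univ : Set P) from
      Set.eq_univ_of_forall fun x => Subsingleton.elim (α := PrimeSpectrum K) _ _] at h
  have : DiscreteTopology P := isDiscrete_univ_iff.1 hd
  let q := (pointEquivClosedPoint p).symm ⟨z, isClosed_discrete {z}⟩
  exact ⟨q.1, q.2, congrArg Subtype.val ((pointEquivClosedPoint p).apply_symm_apply
    ⟨z, isClosed_discrete {z}⟩)⟩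

variable {h : 𝒲 ⥤ᵇ 𝒳}

/-- **The criterion**: over a chart the objects whose automorphisms lift avoid a closed set. -/
theorem exists_bad (hW : FibCat.IsFibGrpd 𝒲.p) (hX : FibCat.IsFibGrpd 𝒳.p)
    (hI : AlgSt.RepByAlgSpWith AlgSp.IsFiniteMor (FibCat.inertiaToBase (FibCat.toSelf 𝒳)))
    (hh : AlgSt.RepByAlgSpWith (AlgSp.IsEtaleMor ⊓ AlgSp.IsSeparatedMor) h)
    {U : Over S} (u : FibCat.overCat U ⥤ᵇ 𝒲) :
    ∃ B : Set ↥U.left, IsClosed B ∧
      (∀ a : (FibCat.overCat U).obj, (∀ q, a.hom.left q ∉ B) → LiftsAut h (u.obj a)) ∧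
      ∀ (K : Type u) [Field K] [IsAlgClosed K] (s : Spec (CommRingCat.of K) ⟶ S) (a : Over.mk s ⟶ U),
        LiftsAut h (u.obj (Over.mk a)) → a.left (IsLocalRing.closedPoint K) ∉ B := by
  let y := BasedFunctor.comp u h
  obtain ⟨g, γ, hγ, hgfin, hg⟩ := exists_autChart hX hI y
  have := hγ.isIso hX
  obtain ⟨H, c, L, hL, ⟨αL⟩, hP⟩ := exists_scheme_chart (f := h)
    (repWith_mono (fun _ _ _ hA hB hq =>
      ⟨locP_mono (fun _ _ k (_ : Etale k) =>
        (⟨Groth.AlgSp2.locallyQuasiFinite_of_etale k, inferInstance⟩ : LocallyQuasiFinite k ∧ LocallyOfFiniteType k))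
        (locP_of_isEtaleMor hq.1), hq.2⟩) hh) y
  have hsepc : IsSeparated c.left :=
    (AlgSp.isSeparatedMor_yon_map_iff c).1 (hP _ stableBaseChange_sep (repWith_mono (fun _ _ _ _ _ hq => hq.2) hh))
  have hetc : Etale c.left := left_prop_of_locP_yon (P := @Etale)
    (hP _ stableBaseChange_locP (repWith_mono (fun _ _ _ _ _ hq => locP_of_isEtaleMor hq.1) hh))
  have hZ : FibCat.IsFibGrpd (FibCat.fp y h).p := isFibGrpd_fp (isFibGrpd_overCat U) hW hX
  let A : (FibCat.fp y h).obj := fpMk (F := y) (G := h) g (u.obj g) (Iso.refl _) (isVert_id _)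
  let B' : (FibCat.fp y h).obj := fpMk (F := y) (G := h) g (u.obj g) (asIso γ) hγ
  let mA : g.left ⟶ H := pt hL A
  let mB : g.left ⟶ H := pt hL B'
  have hA : mA.left ≫ c.left = g.hom.left := congrArg Over.Hom.left (pt_comp hL αL A)
  have hB : mB.left ≫ c.left = g.hom.left := congrArg Over.Hom.left (pt_comp hL αL B')
  let d : g.left.left ⟶ pullback c.left c.left := pullback.lift mA.left mB.left (hA.trans hB.symm)
  let Δ := pullback.diagonal c.left
  let O : g.left.left.Opens := d ⁻¹ᵁ Δ.opensRange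
  have hOeq : ∀ {T : Over S} (k : T ⟶ g.left),
      Set.range k.left ⊆ O ↔ k ≫ mA = k ≫ mB := fun {T} k => by
    constructor
    · intro hk
      have hr : Set.range (k.left ≫ d) ⊆ Set.range Δ := by
        rintro _ ⟨t, rfl⟩
        exact hk ⟨t, rfl⟩
      apply Over.OverMorphism.ext
      have e₁ := congrArg (· ≫ pullback.fst c.left c.left) (IsOpenImmersion.lift_fac Δ _ hr)
      have e₂ := congrArg (· ≫ pullback.snd c.left c.left) (IsOpenImmersion.lift_fac Δ _ hr)
      simp only [Category.assoc, Δ, d, pullback.diagonal_fst, pullback.diagonal_snd, Category.comp_id,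
        pullback.lift_fst, pullback.lift_snd] at e₁ e₂
      exact e₁.symm.trans e₂
    · intro e
      have e' : k.left ≫ mA.left = k.left ≫ mB.left := congrArg Over.Hom.left e
      have hf : k.left ≫ d = (k.left ≫ mA.left) ≫ Δ := by
        apply pullback.hom_ext
        · simp [d, Δ]
        · simp [d, Δ, e']
      rintro _ ⟨t, rfl⟩
      refine ⟨(k.left ≫ mA.left) t, ?_⟩
      show Δ ((k.left ≫ mA.left) t) = d (k.left t)
      rw [← Scheme.Hom.comp_apply, ← Scheme.Hom.comp_apply, hf]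
  have key : ∀ (a : (FibCat.overCat U).obj) (β : y.obj a ⟶ y.obj a) (hβ : IsVert 𝒳.p β) (n : a ⟶ g),
      β ≫ y.map n = y.map n ≫ γ →
        ((∃ α : u.obj a ⟶ u.obj a, IsVert 𝒲.p α ∧ h.map α = β) ↔ Set.range n.left.left ⊆ O) := by
    intro a β hβ n hn
    have := hβ.isIso hX
    let A' : (FibCat.fp y h).obj := fpMk (F := y) (G := h) a (u.obj a) (Iso.refl _) (isVert_id _)
    let B'' : (FibCat.fp y h).obj := fpMk (F := y) (G := h) a (u.obj a) (asIso β) hβ
    let φA : A' ⟶ A := fpHom (x := A') (y := A) n (u.map n) (by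
      show y.map n ≫ 𝟙 _ = 𝟙 _ ≫ h.map (u.map n)
      rw [Category.comp_id, Category.id_comp]; rfl)
    let φB : B'' ⟶ B' := fpHom (x := B'') (y := B') n (u.map n) (by
      show y.map n ≫ γ = β ≫ h.map (u.map n)
      exact hn.symm)
    have eA : n.left ≫ mA = pt hL A' := pt_map hL φA
    have eB : n.left ≫ mB = pt hL B'' := pt_map hL φB
    rw [hOeq, eA, eB]
    constructor
    · rintro ⟨α, hα, e⟩
      let ν : A' ⟶ B'' := fpHom (x := A') (y := B'') (𝟙 a) α (by
        show y.map (𝟙 a) ≫ β = 𝟙 _ ≫ h.map α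
        erw [y.toFunctor.map_id]; rw [e]
        exact (Category.id_comp β).trans (Category.id_comp β).symm)
      refine (pt_map hL ν).symm.trans ?_
      rw [show (FibCat.fp y h).p.map ν = 𝟙 _ from rfl]
      exact Category.id_comp _
    · intro e
      obtain ⟨ν, hν⟩ := exists_vert_iso_of_pt_eq hL hZ (z := A') (z' := B'') rfl
        (by rw [eqToHom_refl]; exact (Category.id_comp _).trans e.symm)
      have hν₁ : ν.hom.hom.fst = 𝟙 a :=
        Over.OverMorphism.ext (((isVert_fp_iff ν.hom).1 hν).map_eq.trans (eqToHom_refl _ _))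
      have w : y.map ν.hom.hom.fst ≫ β = 𝟙 _ ≫ h.map ν.hom.hom.snd := ν.hom.hom.w
      rw [hν₁] at w
      erw [y.toFunctor.map_id] at w
      exact ⟨_, isVert_map (F := FibCat.fpSnd y h) hν,
        ((Category.id_comp _).symm.trans w.symm).trans (Category.id_comp β)⟩
  have : IsFinite g.hom.left := hgfin
  refine ⟨g.hom.left '' (O : Set ↥g.left.left)ᶜ, g.hom.left.isClosedMap _ O.2.isClosed_compl,
    fun a ha β hβ => ?_, fun K _ _ s a ha => ?_⟩
  · obtain ⟨n, hn⟩ := hg a β hβ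
    refine (key a β hβ n hn).2 ?_
    rintro _ ⟨q, rfl⟩
    by_contra hq
    refine ha q ⟨_, hq, ?_⟩
    rw [← Scheme.Hom.comp_apply, ← Over.comp_left, Over.w n]
  · rintro ⟨q, hq, hqa⟩
    obtain ⟨z, hz, -⟩ := Scheme.Pullback.exists_preimage_pullback (f := g.hom.left) (g := a.left) q
      (IsLocalRing.closedPoint K) hqa
    obtain ⟨σ, hσ, hσz⟩ := exists_rational_point (pullback.snd g.hom.left a.left) z
    have hk : (σ ≫ pullback.fst g.hom.left a.left) ≫ g.hom.left = a.left := by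
      rw [Category.assoc, pullback.condition, ← Category.assoc, hσ, Category.id_comp]
    let k : Over.mk s ⟶ g.left := Over.homMk (σ ≫ pullback.fst g.hom.left a.left) (by
      show _ ≫ g.left.hom = s
      rw [← Over.w g.hom]
      exact ((Category.assoc _ _ _).symm.trans (congrArg (· ≫ U.hom) hk)).trans (Over.w a))
    let n : (Over.mk a : (FibCat.overCat U).obj) ⟶ g :=
      Over.homMk k (Over.OverMorphism.ext hk)
    have hb : eqToHom rfl ≫ 𝒳.p.map (y.map n) = 𝒳.p.map (y.map n ≫ γ) := by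
      rw [Functor.map_comp, hγ.map_eq]
      simp
    let β := factor hX (y.map n) (y.map n ≫ γ) (eqToHom rfl) hb
    have hβ : IsVert 𝒳.p β := ⟨rfl, factor_map hX _ _ _ hb⟩
    have hr := (key _ β hβ n (factor_comp hX _ _ _ hb)).1 (ha β hβ)
    refine hq (hr ⟨IsLocalRing.closedPoint K, ?_⟩)
    show (σ ≫ pullback.fst g.hom.left a.left) (IsLocalRing.closedPoint K) = q
    rw [Scheme.Hom.comp_apply, hσz, hz]

variable (h) in
/-- The geometric points at which every automorphism of the image lifts. -/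
def autLocus : Set (AlgSt.Points 𝒲) :=
  {z | ∃ p : AlgSt.FPt 𝒲, IsAlgClosed p.K ∧ AlgSt.Points.mk p = z ∧ LiftsAut h p.obj}

variable (hW : FibCat.IsFibGrpd 𝒲.p) (hX : FibCat.IsFibGrpd 𝒳.p)
  (hI : AlgSt.RepByAlgSpWith AlgSp.IsFiniteMor (FibCat.inertiaToBase (FibCat.toSelf 𝒳)))
  (hh : AlgSt.RepByAlgSpWith (AlgSp.IsEtaleMor ⊓ AlgSp.IsSeparatedMor) h)

include hW hX hI hh

/-- Lifting is insensitive to extensions of algebraically closed fields. -/
theorem liftsAut_iff_of_hom {p p' : AlgSt.FPt 𝒲} [IsAlgClosed p.K] [IsAlgClosed p'.K]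
    (l : p'.obj ⟶ p.obj) : LiftsAut h p'.obj ↔ LiftsAut h p.obj := by
  let U := Over.mk p.str
  obtain ⟨i, hi⟩ := overFunctor_eval hW p.obj p.lies
  let u := overFunctor hW p.obj p.lies
  obtain ⟨B, -, h₁, h₂⟩ := exists_bad hW hX hI hh u
  let a : Over.mk p'.str ⟶ U := eqToHom p'.lies.symm ≫ 𝒲.p.map l ≫ eqToHom p.lies
  obtain ⟨j, hj, -⟩ := exists_vert_iso_of_lifts hW (u.map (toId (Over.mk a)) ≫ i.hom) l
    ((u.w_obj (Over.mk a)).trans p'.lies.symm) (by
      rw [Functor.map_comp, map_map, hi.map_eq]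
      simp only [Category.assoc]
      show eqToHom _ ≫ (eqToHom _ ≫ 𝒲.p.map l ≫ eqToHom _) ≫ eqToHom _ ≫ eqToHom _ = _
      simp [idObj])
  have hB : ∀ x y : ↥U.left, x ∈ B → y ∈ B := fun x y hx =>
    (show x = y from Subsingleton.elim (α := PrimeSpectrum p.K) x y) ▸ hx
  constructor
  · intro hl
    refine liftsAut_of_vert i hi (h₁ _ fun q hq => ?_)
    exact h₂ p'.K p'.str a (liftsAut_of_vert j.symm hj.inv hl) (hB _ _ hq)
  · intro hl
    refine liftsAut_of_vert j hj (h₁ _ fun q hq => ?_)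
    exact h₂ p.K p.str (𝟙 U) (liftsAut_of_vert i.symm hi.inv hl) (hB _ _ hq)

theorem liftsAut_of_mem {p : AlgSt.FPt 𝒲} [IsAlgClosed p.K]
    (hp : AlgSt.Points.mk p ∈ autLocus h) : LiftsAut h p.obj := by
  obtain ⟨q, hqK, hq, hl⟩ := hp
  obtain ⟨r, a, b, -⟩ := (mk_eq_mk_iff hW).1 hq.symm
  let K := AlgebraicClosure r.K
  let d : Over.mk (Spec.map (CommRingCat.ofHom (algebraMap r.K K)) ≫ r.str) ⟶ Over.mk r.str :=
    Over.homMk (Spec.map (CommRingCat.ofHom (algebraMap r.K K))) rfl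
  obtain ⟨x, hx, φ, -⟩ := exists_pullback_pt hW r d
  let r' : AlgSt.FPt 𝒲 := { K := K, str := _, obj := x, lies := hx }
  have : IsAlgClosed r'.K := inferInstanceAs (IsAlgClosed K)
  exact (liftsAut_iff_of_hom hW hX hI hh (p := p) (p' := r') (φ ≫ a)).1
    ((liftsAut_iff_of_hom hW hX hI hh (p := q) (p' := r') (φ ≫ b)).2 hl)

/-- The locus is open. -/
theorem isOpen_autLocus : IsOpen (autLocus h) := by
  intro U u _
  obtain ⟨B, hB, h₁, h₂⟩ := exists_bad hW hX hI hh u
  suffices e : AlgSt.Points.ofChart u ⁻¹' autLocus h = Bᶜ by rw [e]; exact hB.isOpen_compl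
  ext t
  let K := AlgebraicClosure (U.left.residueField t)
  let dS : Spec (CommRingCat.of K) ⟶ Spec (U.left.residueField t) :=
    Spec.map (CommRingCat.ofHom (algebraMap (U.left.residueField t) K))
  let b : Over.mk (U.left.fromSpecResidueField t ≫ U.hom) ⟶ U :=
    Over.homMk (U.left.fromSpecResidueField t) rfl
  let d : Over.mk (dS ≫ U.left.fromSpecResidueField t ≫ U.hom) ⟶
      Over.mk (U.left.fromSpecResidueField t ≫ U.hom) := Over.homMk dS rfl
  let q : AlgSt.FPt 𝒲 :=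
    { K := K, str := _, obj := u.obj (Over.mk (d ≫ b)), lies := u.w_obj _ }
  have : IsAlgClosed q.K := inferInstanceAs (IsAlgClosed K)
  have hq : AlgSt.Points.mk q = AlgSt.Points.ofChart u t :=
    mk_eq_of_hom (p := q) (u.map (Over.homMk d rfl : Over.mk (d ≫ b) ⟶ Over.mk b))
  have ht : ∀ x, (d ≫ b).left x = t := fun x => Scheme.fromSpecResidueField_apply t _
  rw [Set.mem_preimage, ← hq, Set.mem_compl_iff]
  constructor
  · intro hm
    rw [← ht (IsLocalRing.closedPoint K)]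
    exact h₂ K _ (d ≫ b) (liftsAut_of_mem hW hX hI hh hm)
  · intro hm
    exact ⟨q, this, rfl, h₁ _ fun x => (ht x).symm ▸ hm⟩

theorem liftsAut_of_inPts {w : 𝒲.obj} (hw : inPts (autLocus h) w) : LiftsAut h w := by
  obtain ⟨i, hi⟩ := overFunctor_eval hW w (rfl : 𝒲.p.obj w = 𝒲.p.obj w)
  let u := overFunctor hW w (rfl : 𝒲.p.obj w = 𝒲.p.obj w)
  obtain ⟨B, -, h₁, h₂⟩ := exists_bad hW hX hI hh u
  have hu := (inPts_idObj_iff hW u).1 (inPts_of_hom i.hom hw)
  refine liftsAut_of_vert i hi (h₁ _ fun t ht => ?_)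
  let U := 𝒲.p.obj w
  let K := AlgebraicClosure (U.left.residueField t)
  let dS : Spec (CommRingCat.of K) ⟶ Spec (U.left.residueField t) :=
    Spec.map (CommRingCat.ofHom (algebraMap (U.left.residueField t) K))
  let b : Over.mk (U.left.fromSpecResidueField t ≫ U.hom) ⟶ U :=
    Over.homMk (U.left.fromSpecResidueField t) rfl
  let d : Over.mk (dS ≫ U.left.fromSpecResidueField t ≫ U.hom) ⟶
      Over.mk (U.left.fromSpecResidueField t ≫ U.hom) := Over.homMk dS rfl
  let q : AlgSt.FPt 𝒲 :=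
    { K := K, str := _, obj := u.obj (Over.mk (d ≫ b)), lies := u.w_obj _ }
  have : IsAlgClosed q.K := inferInstanceAs (IsAlgClosed K)
  have hq : AlgSt.Points.mk q = AlgSt.Points.ofChart u t :=
    mk_eq_of_hom (p := q) (u.map (Over.homMk d rfl : Over.mk (d ≫ b) ⟶ Over.mk b))
  have e := h₂ K _ (d ≫ b) (liftsAut_of_mem hW hX hI hh (p := q) (hq ▸ hu t))
  exact e (by rw [show (d ≫ b).left (IsLocalRing.closedPoint K) = t from
    Scheme.fromSpecResidueField_apply t _]; exact ht)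

end Groth.KeelMori
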