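import Groth.Agent.GitQuot.KeelMori.TwoCart
import Groth.Agent.StkGerb.Glue
import Groth.Agent.StkBase.Stack

/-!
# Lifting along a 2-cartesian square of moduli maps, and a criterion for such squares
-/

set_option autoImplicit false
set_option backward.isDefEq.respectTransparency false
set_option backward.isDefEq.respectTransparency.types false

universe u

open CategoryTheory CategoryTheory.Limits AlgebraicGeometry Opposite
open Groth.StkBase Groth.AlgStBasic Groth.AlgSpBasic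

noncomputable section

namespace Groth.KeelMori

variable {S : Scheme.{u}} {𝒳 𝒳' : AlgSt.Cat S} {M M' : AlgSp.Sp S} {h : 𝒳' ⥤ᵇ 𝒳}
  {π : 𝒳 ⥤ᵇ AlgSt.ofSp M} {π' : 𝒳' ⥤ᵇ AlgSt.ofSp M'} {g : M' ⟶ M}

/-- The value of a functor at an object over `T`. -/
abbrev valAt (Φ : 𝒳 ⥤ᵇ AlgSt.ofSp M) {T : Over S} (a : 𝒳.obj) (ha : 𝒳.p.obj a = T) :
    (AlgSp.yon S).obj T ⟶ M :=
  (AlgSp.yon S).map (eqToHom ha.symm) ≫ homOf Φ a

theorem valAt_map (Φ : 𝒳 ⥤ᵇ AlgSt.ofSp M) {T V : Over S} {a b : 𝒳.obj} {ha : 𝒳.p.obj a = V}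
    {hb : 𝒳.p.obj b = T} (f : a ⟶ b) {c : V ⟶ T} (hf : 𝒳.p.map f = eqToHom ha ≫ c ≫ eqToHom hb.symm) :
    valAt Φ a ha = (AlgSp.yon S).map c ≫ valAt Φ b hb := by
  subst ha hb
  simp only [eqToHom_refl, Category.id_comp, Category.comp_id] at hf
  simp only [valAt, eqToHom_refl, CategoryTheory.Functor.map_id, Category.id_comp]
  rw [← hf, homOf_map]

theorem valAt_vert (Φ : 𝒳 ⥤ᵇ AlgSt.ofSp M) {T : Over S} {a b : 𝒳.obj} (f : a ⟶ b)
    (hf : IsVert 𝒳.p f) (ha : 𝒳.p.obj a = T) (hb : 𝒳.p.obj b = T) :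
    valAt Φ a ha = valAt Φ b hb := by
  rw [valAt_map Φ (ha := ha) (hb := hb) f (c := 𝟙 T) (by rw [hf.map_eq]; simp),
    CategoryTheory.Functor.map_id, Category.id_comp]

theorem valAt_comp {𝒴 : AlgSt.Cat S} (Ψ : 𝒴 ⥤ᵇ 𝒳) (Φ : 𝒳 ⥤ᵇ AlgSt.ofSp M) {T : Over S} (a : 𝒴.obj)
    (ha : 𝒴.p.obj a = T) :
    valAt (BasedFunctor.comp Ψ Φ) a ha = valAt Φ (Ψ.obj a) ((Ψ.w_obj a).trans ha) := by
  subst ha
  simp only [valAt, homOf_comp_left, eqToHom_refl, CategoryTheory.Functor.map_id, Category.id_comp]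

theorem valAt_ofSpMap (Φ : 𝒳 ⥤ᵇ AlgSt.ofSp M) {N : AlgSp.Sp S} (v : M ⟶ N) {T : Over S} (a : 𝒳.obj)
    (ha : 𝒳.p.obj a = T) :
    valAt (BasedFunctor.comp Φ (AlgSt.ofSpMap v)) a ha = valAt Φ a ha ≫ v := by
  simp only [valAt, homOf_comp, Category.assoc]

theorem valAt_of_iso {Φ Ψ : 𝒳 ⥤ᵇ AlgSt.ofSp M} (i : Φ ≅ Ψ) {T : Over S} (a : 𝒳.obj)
    (ha : 𝒳.p.obj a = T) : valAt Φ a ha = valAt Ψ a ha := by
  simp only [valAt, homOf_eq_of_iso i]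

theorem valAt_comm (e : BasedFunctor.comp h π ≅ BasedFunctor.comp π' (AlgSt.ofSpMap g)) {T : Over S}
    (w : 𝒳'.obj) (hw : 𝒳'.p.obj w = T) :
    valAt π (h.obj w) ((h.w_obj w).trans hw) = valAt π' w hw ≫ g := by
  rw [← valAt_comp, valAt_of_iso e, valAt_ofSpMap]

variable {e : BasedFunctor.comp h π ≅ BasedFunctor.comp π' (AlgSt.ofSpMap g)}

/-- Objects lift along a 2-cartesian square. -/
theorem exists_lift_of_twoCart (hc : FibCat.IsTwoCartOver h π' e) {T : Over S} (a : 𝒳.obj)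
    (ha : 𝒳.p.obj a = T) (m : (AlgSp.yon S).obj T ⟶ M') (hm : valAt π a ha = m ≫ g) :
    ∃ (w : 𝒳'.obj) (hw : 𝒳'.p.obj w = T) (α : h.obj w ⟶ a),
      IsVert 𝒳.p α ∧ valAt π' w hw = m := by
  subst ha
  have hm' : m ≫ g = (AlgSp.yon S).map (eqToHom (rfl : 𝒳.p.obj a = _).symm) ≫ homOf π a := hm.symm
  obtain ⟨i, hi⟩ := exists_mkFp (g := g) (π := π) m a rfl hm'
  let z : (FibCat.fp π (AlgSt.ofSpMap g)).obj :=
    fpMk (F := π) (G := AlgSt.ofSpMap g) a ⟨𝒳.p.obj a, yEquiv m⟩ i.symm (IsVert.inv hi)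
  obtain ⟨w, φ, hφ⟩ := exists_vert_preimage hc z
  have h₁ : IsVert 𝒳.p φ.hom.hom.fst := (isVert_fp_iff φ.hom).1 hφ
  let Φ := FibCat.fpLift h π' e
  have hw : 𝒳'.p.obj w = 𝒳.p.obj a := (h.w_obj w).symm.trans h₁.obj_eq
  refine ⟨w, hw, φ.hom.hom.fst, h₁, ?_⟩
  have e₁ : valAt (FibCat.fpSnd π (AlgSt.ofSpMap g)) z rfl = m := by
    rw [valAt, homOf_eq, ← Category.assoc, ← Functor.map_comp, eqToHom_trans, eqToHom_refl]
    show (AlgSp.yon S).map (𝟙 _) ≫ yEquiv.symm (yEquiv m) = m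
    rw [CategoryTheory.Functor.map_id, Equiv.symm_apply_apply, Category.id_comp]
  rw [← e₁, ← valAt_vert (FibCat.fpSnd π (AlgSt.ofSpMap g)) φ.hom hφ ((Φ.w_obj w).trans hw) rfl,
    ← valAt_comp Φ (FibCat.fpSnd π (AlgSt.ofSpMap g))]
  rfl

/-- Isomorphisms lift along a 2-cartesian square. -/
theorem exists_hom_of_twoCart (hc : FibCat.IsTwoCartOver h π' e) {T : Over S} {w w' : 𝒳'.obj}
    (hw : 𝒳'.p.obj w = T) (hw' : 𝒳'.p.obj w' = T) (β : h.obj w ⟶ h.obj w') (hβ : IsVert 𝒳.p β)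
    (hv : valAt π' w hw = valAt π' w' hw') :
    ∃ γ : w ⟶ w', IsVert 𝒳'.p γ ∧ h.map γ = β := by
  subst hw
  let Φ := FibCat.fpLift h π' e
  let k : (π'.obj w).base ⟶ (π'.obj w').base :=
    eqToHom ((π'.w_obj w).trans (hw'.symm.trans (π'.w_obj w').symm))
  have hk : (AlgSp.yon S).map k ≫ yEquiv.symm (π'.obj w').sec = yEquiv.symm (π'.obj w).sec := by
    have e₁ := hv
    simp only [valAt, homOf_eq, ← Category.assoc, ← Functor.map_comp, eqToHom_trans] at e₁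
    have e₂ := congrArg ((AlgSp.yon S).map (eqToHom (π'.w_obj w)) ≫ ·) e₁
    simp only [← Category.assoc, ← Functor.map_comp, eqToHom_trans, eqToHom_refl,
      CategoryTheory.Functor.map_id, Category.id_comp] at e₂
    exact e₂.symm
  obtain ⟨a₂, ha₂⟩ := exists_elt_hom (π'.obj w) (π'.obj w') k hk
  let ψ : Φ.obj w ⟶ Φ.obj w' := fpHom (x := Φ.obj w) (y := Φ.obj w') β a₂ (elt_hom_ext_p (by
    have e₁ : (π.map β).hom = _ := map_map π β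
    have e₂ : (Φ.obj w).obj.iso.hom.hom = _ := (fp_isVert (Φ.obj w)).map_eq
    have e₃ : (Φ.obj w').obj.iso.hom.hom = _ := (fp_isVert (Φ.obj w')).map_eq
    show (π.map β).hom ≫ (Φ.obj w').obj.iso.hom.hom = (Φ.obj w).obj.iso.hom.hom ≫ a₂.hom
    rw [e₁, e₂, e₃, ha₂, hβ.map_eq]
    simp [k]))
  have hψ : IsVert (FibCat.fp π (AlgSt.ofSpMap g)).p ψ := (isVert_fp_iff ψ).2 hβ
  have := full_of_isEquivOver hc
  obtain ⟨γ, hγ⟩ := Φ.toFunctor.map_surjective ψ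
  exact ⟨γ, isVert_of_map (F := Φ) (by rw [hγ]; exact hψ), congrArg (fun t => t.hom.fst) hγ⟩

/-- **A criterion for a square to be 2-cartesian.** -/
theorem isTwoCartOver_of_local (hX' : Stk.IsStack (AlgSp.J S) 𝒳') (hX : Stk.IsStack (AlgSp.J S) 𝒳)
    (hM' : Stk.IsStack (AlgSp.J S) (AlgSt.ofSp M')) (hM : Stk.IsPrestack (AlgSp.J S) (AlgSt.ofSp M))
    (hfaith : h.toFunctor.Faithful)
    (e : BasedFunctor.comp h π ≅ BasedFunctor.comp π' (AlgSt.ofSpMap g))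
    (hhom : ∀ {T : Over S} {w w' : 𝒳'.obj} (hw : 𝒳'.p.obj w = T) (hw' : 𝒳'.p.obj w' = T)
      (β : h.obj w ⟶ h.obj w'), IsVert 𝒳.p β → valAt π' w hw = valAt π' w' hw' →
        ∃ γ : w ⟶ w', IsVert 𝒳'.p γ ∧ h.map γ = β)
    (hloc : ∀ (a : 𝒳.obj) (m : (AlgSp.yon S).obj (𝒳.p.obj a) ⟶ M'), valAt π a rfl = m ≫ g →
      ∃ R ∈ AlgSp.J S (𝒳.p.obj a), ∀ ⦃V : Over S⦄ (f : V ⟶ 𝒳.p.obj a), R.arrows f →
        ∃ (w : 𝒳'.obj) (hw : 𝒳'.p.obj w = V) (α : h.obj w ⟶ a),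
          𝒳.p.map α = eqToHom ((h.w_obj w).trans hw) ≫ f ∧
            valAt π' w hw = (AlgSp.yon S).map f ≫ m) :
    FibCat.IsTwoCartOver h π' e := by
  let Φ := FibCat.fpLift h π' e
  let snd := FibCat.fpSnd π (AlgSt.ofSpMap g)
  have hP : Stk.IsStack (AlgSp.J S) (FibCat.fp π (AlgSt.ofSpMap g)) :=
    isStack_fp _ hX hM' hM
  have hP' : Stk.IsPrestack (AlgSp.J S) (FibCat.fp π (AlgSt.ofSpMap g)) :=
    isPrestack_of_isStack hP
  have ext : ∀ {x y : (FibCat.fp π (AlgSt.ofSpMap g)).obj} (f f' : x ⟶ y),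
      f.hom.fst = f'.hom.fst → f = f' := fun {x y} f f' h₁ => fp_hom_ext h₁ (elt_hom_ext_p (by
        have a₁ : (AlgSt.ofSp M').p.map f.hom.snd = _ := fp_map_snd f
        have a₂ : (AlgSt.ofSp M').p.map f'.hom.snd = _ := fp_map_snd f'
        rw [h₁] at a₁
        exact a₁.trans a₂.symm))
  have : Φ.toFunctor.Faithful :=
    ⟨fun {a b} f f' eq => hfaith.map_injective (congrArg (fun t => t.hom.fst) eq)⟩
  have : Φ.toFunctor.Full := ⟨fun {w w'} ψ => by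
    obtain ⟨w'', l, hw'', hl⟩ := exists_lift' hX'.1 (x := w')
      (eqToHom (Φ.w_obj w).symm ≫ (FibCat.fp π (AlgSt.ofSpMap g)).p.map ψ ≫ eqToHom (Φ.w_obj w'))
    obtain ⟨i, hi, hil⟩ := exists_vert_iso_of_lifts hP.1 ψ (Φ.map l)
      ((Φ.w_obj w).trans (hw''.symm.trans (Φ.w_obj w'').symm)) (by rw [map_map, hl]; simp)
    obtain ⟨γ, -, hγ⟩ := hhom (rfl : 𝒳'.p.obj w = _) hw'' i.hom.hom.fst ((isVert_fp_iff i.hom).1 hi) (by
      have key := valAt_vert snd i.hom hi (Φ.w_obj w) ((Φ.w_obj w'').trans hw'')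
      rw [← valAt_comp Φ snd w rfl, ← valAt_comp Φ snd w'' hw''] at key
      exact key)
    refine ⟨γ ≫ l, ext _ _ ?_⟩
    show h.map (γ ≫ l) = ψ.hom.fst
    rw [Functor.map_comp, hγ, ← hil]
    rfl⟩
  refine StkGerb.isEquivOver_of_locally_surj (AlgSp.J S) hX' hP' Φ fun z => ?_
  let m : (AlgSp.yon S).obj (𝒳.p.obj z.obj.fst) ⟶ M' := valAt snd z rfl
  have hm : valAt π z.obj.fst rfl = m ≫ g := by
    have e₁ := valAt_of_iso (FibCat.fpIso π (AlgSt.ofSpMap g)) z rfl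
    rw [valAt_ofSpMap, valAt_comp] at e₁
    exact e₁
  obtain ⟨R, hR, hR'⟩ := hloc z.obj.fst m hm
  refine ⟨R, hR, fun V f hf => ?_⟩
  obtain ⟨w, hw, α, hα, hv⟩ := hR' f hf
  let k : (π'.obj w).base ⟶ z.obj.snd.base :=
    eqToHom ((π'.w_obj w).trans hw) ≫ f ≫ eqToHom (snd.w_obj z).symm
  have hk : (AlgSp.yon S).map k ≫ yEquiv.symm z.obj.snd.sec = yEquiv.symm (π'.obj w).sec := by
    have e₁ := congrArg ((AlgSp.yon S).map (eqToHom ((π'.w_obj w).trans hw)) ≫ ·) hv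
    simp only [m, valAt, homOf_eq, ← Category.assoc, ← Functor.map_comp, eqToHom_trans, eqToHom_refl,
      CategoryTheory.Functor.map_id, Category.id_comp] at e₁
    refine Eq.trans ?_ e₁.symm
    congr 2
  obtain ⟨a₂, ha₂⟩ := exists_elt_hom (π'.obj w) z.obj.snd k hk
  refine ⟨w, fpHom (x := Φ.obj w) (y := z) α a₂ (elt_hom_ext_p ?_), ?_⟩
  · have e₁ : (π.map α).hom = _ := map_map π α
    have e₂ : (Φ.obj w).obj.iso.hom.hom = _ := (fp_isVert (Φ.obj w)).map_eq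
    have e₃ : z.obj.iso.hom.hom = _ := (fp_isVert z).map_eq
    show (π.map α).hom ≫ z.obj.iso.hom.hom = (Φ.obj w).obj.iso.hom.hom ≫ a₂.hom
    rw [e₁, e₂, e₃, ha₂, hα]
    simp [k]
  · refine (isHomLift_iff_eqToHom _ _).2 ⟨(Φ.w_obj w).trans hw, rfl, ?_⟩
    show 𝒳.p.map α = _
    rw [hα, eqToHom_refl, Category.comp_id]

end Groth.KeelMori
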