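import Groth.Agent.GitQuot.KeelMori.GluedSep
import Groth.Agent.AlgStBasic.StCover
import Groth.Agent.AlgSp2.InfSmallExt
import Mathlib.RingTheory.Adjoin.Tower
import Mathlib.AlgebraicGeometry.Noetherian

/-!
# The moduli space of a stack locally of finite type over a locally Noetherian space is so

The theorem of Artin and Tate, applied to the quotients of the pieces after a flat base change.
-/

set_option autoImplicit false
set_option backward.isDefEq.respectTransparency false
set_option backward.isDefEq.respectTransparency.types false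

universe u

open CategoryTheory CategoryTheory.Limits AlgebraicGeometry Opposite
open Groth.StkBase Groth.AlgStBasic Groth.AlgSpBasic

noncomputable section

namespace Groth.KeelMori

/-- Artin-Tate for affine schemes. -/
theorem locallyOfFiniteType_of_integral {P E V : Scheme.{u}} [IsAffine P] [IsAffine E] [IsAffine V]
    [IsLocallyNoetherian V] (p : P ⟶ E) [IsIntegralHom p] (hinj : Function.Injective p.appTop.hom)
    (q : E ⟶ V) [LocallyOfFiniteType (p ≫ q)] : LocallyOfFiniteType q := by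
  have : LocallyOfFiniteType p := locallyOfFiniteType_of_comp p q
  have : IsFinite p := IsFinite.iff_isIntegralHom_and_locallyOfFiniteType _ |>.2 ⟨inferInstance, inferInstance⟩
  have hpq := (HasRingHomProperty.iff_of_isAffine (P := @LocallyOfFiniteType)).1
    (inferInstance : LocallyOfFiniteType (p ≫ q))
  rw [Scheme.Hom.comp_appTop] at hpq
  have hfin : p.appTop.hom.Finite := IsFinite.finite_app (f := p) ⊤ (isAffineOpen_top E)
  have : IsNoetherianRing Γ(V, ⊤) := IsLocallyNoetherian.component_noetherian ⟨⊤, isAffineOpen_top V⟩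
  rw [HasRingHomProperty.iff_of_isAffine (P := @LocallyOfFiniteType)]
  algebraize [q.appTop.hom, p.appTop.hom, (q.appTop ≫ p.appTop).hom]
  have : IsScalarTower Γ(V, ⊤) Γ(E, ⊤) Γ(P, ⊤) := IsScalarTower.of_algebraMap_eq' rfl
  exact ⟨fg_of_fg_of_fg Γ(V, ⊤) Γ(E, ⊤) Γ(P, ⊤) hpq.1 Module.Finite.fg_top hinj⟩

/-- Injectivity on global functions passes to flat base change. -/
theorem injective_appTop_of_isPullback {P U E M : Scheme.{u}} [IsAffine P] [IsAffine U] [IsAffine E]
    [IsAffine M] {u : P ⟶ U} {pE : P ⟶ E} {f : U ⟶ M} {e : E ⟶ M} (sq : IsPullback u pE f e)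
    [Flat e] (hf : Function.Injective f.appTop.hom) : Function.Injective pE.appTop.hom := by
  have hA := isPushout_appTop_of_isPullback sq
  letI : Algebra Γ(M, ⊤) Γ(U, ⊤) := f.appTop.hom.toAlgebra
  letI : Algebra Γ(M, ⊤) Γ(E, ⊤) := e.appTop.hom.toAlgebra
  haveI : Module.Flat Γ(M, ⊤) Γ(E, ⊤) := e.flat_appTop
  let TA := ((CommRingCat.isPushout_tensorProduct Γ(M, ⊤) Γ(E, ⊤) Γ(U, ⊤)).flip).isoIsPushout _ _ hA
  have hA1 : ∀ c, TA.hom.hom (c ⊗ₜ 1) = pE.appTop.hom c := fun c =>
    congrArg (fun φ : Γ(E, ⊤) ⟶ Γ(P, ⊤) => φ.hom c)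
      (((CommRingCat.isPushout_tensorProduct Γ(M, ⊤) Γ(E, ⊤) Γ(U, ⊤)).flip).inr_isoIsPushout_hom _ _ hA)
  have hj : Function.Injective
      ((Algebra.linearMap Γ(M, ⊤) Γ(U, ⊤)).lTensor Γ(E, ⊤)) :=
    Module.Flat.lTensor_preserves_injective_linearMap _ hf
  intro c c' hc
  rw [← hA1, ← hA1] at hc
  have h₁ := TA.commRingCatIsoToRingEquiv.injective hc
  have h₂ : ((Algebra.linearMap Γ(M, ⊤) Γ(U, ⊤)).lTensor Γ(E, ⊤)) (c ⊗ₜ 1) =
      ((Algebra.linearMap Γ(M, ⊤) Γ(U, ⊤)).lTensor Γ(E, ⊤)) (c' ⊗ₜ 1) := by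
    simp only [LinearMap.lTensor_tmul, Algebra.linearMap_apply, map_one]
    exact h₁
  have h₃ := congrArg (TensorProduct.rid Γ(M, ⊤) Γ(E, ⊤)) (hj h₂)
  simpa using h₃

variable {S : Scheme.{u}}

/-- A map out of an affine quotient is locally of finite type when its composite is. -/
theorem locP_lft_of_quot {U M : Over S} [IsAffine U.left] [IsAffine M.left] (q : U ⟶ M) [IsIntegralHom q.left]
    (hinj : Function.Injective q.left.appTop.hom) {Y : AlgSp.Sp S} (hY : AlgSp.IsAlgSpace Y)
    (hYn : AlgSp.IsLocNoethSp Y) (F : (AlgSp.yon S).obj M ⟶ Y)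
    (h : AlgSp.LocP @LocallyOfFiniteType ((AlgSp.yon S).map q ≫ F)) :
    AlgSp.LocP @LocallyOfFiniteType F := by
  obtain ⟨V, b, hb, hbs⟩ := hY.atlas
  have hVn : IsLocallyNoetherian V.left := Groth.AlgSp2.isLocallyNoetherian_of_etale hY hYn hb
  obtain ⟨B, β, v, sq⟩ := exists_pullback_of_diag hY.diag F b
  have : Etale β.left := repWith_fst_of_isPullback sq.flip hb
  obtain ⟨UB, u₁, u₂, sq₂⟩ := exists_pullback_of_diag hY.diag ((AlgSp.yon S).map q ≫ F) b
  have hu₂ : LocallyOfFiniteType u₂.left := left_prop_of_locP_yon (P := @LocallyOfFiniteType)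
    (locP_of_isPullback (AlgSp.IsAlgSpace.yon_obj _) hY (AlgSp.IsAlgSpace.yon_obj _) sq₂ h)
  refine locP_of_target_cover (AlgSp.IsAlgSpace.yon_obj M) hY hb hbs sq
    (locP_of_repWith ((AlgSp.repWith_yon_map_iff @LocallyOfFiniteType v).2 ?_))
  -- cover `B` by small affines
  have hpt : ∀ x : B.left, ∃ E : B.left.Opens, x ∈ E ∧ IsAffineOpen E ∧ LocallyOfFiniteType (E.ι ≫ v.left) := by
    intro x
    obtain ⟨V₁, hV₁, hxV, -⟩ := exists_isAffineOpen_mem_and_subset (TopologicalSpace.Opens.mem_top (v.left x))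
    obtain ⟨E, hE, hxE, hEV⟩ :=
      exists_isAffineOpen_mem_and_subset (show x ∈ v.left ⁻¹ᵁ V₁ from hxV)
    refine ⟨E, hxE, hE, ?_⟩
    have : IsAffine E.toScheme := hE
    have : IsAffine V₁.toScheme := hV₁
    let e : E.toScheme ⟶ M.left := E.ι ≫ β.left
    have : Etale e := inferInstanceAs (Etale (E.ι ≫ β.left))
    let Pp : Scheme.{u} := pullback q.left e
    let pu : Pp ⟶ U.left := pullback.fst q.left e
    let pE : Pp ⟶ E.toScheme := pullback.snd q.left e
    have : IsAffine Pp := isAffine_of_isAffineHom pE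
    have : IsIntegralHom pE := inferInstanceAs (IsIntegralHom (pullback.snd q.left e))
    have hpE : Function.Injective pE.appTop.hom :=
      injective_appTop_of_isPullback (IsPullback.of_hasPullback q.left e) hinj
    -- the comparison with the pullback of the composite
    let EO : Over S := Over.mk (E.ι ≫ B.hom)
    let eO : EO ⟶ B := Over.homMk E.ι rfl
    let PO : Over S := Over.mk (pE ≫ EO.hom)
    let puO : PO ⟶ U := Over.homMk pu (by
      show pu ≫ U.hom = pE ≫ E.ι ≫ B.hom
      rw [← Over.w q, ← Over.w β, ← Category.assoc, ← Category.assoc E.ι, ← Category.assoc pE]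
      exact congrArg (· ≫ M.hom) pullback.condition)
    let pEO : PO ⟶ EO := Over.homMk pE rfl
    have hqe : puO ≫ q = (pEO ≫ eO) ≫ β := Over.OverMorphism.ext (pullback.condition.trans
      (Category.assoc _ _ _).symm)
    obtain ⟨l, hl⟩ := (AlgSp.yon S).map_surjective (sq₂.lift ((AlgSp.yon S).map puO)
      ((AlgSp.yon S).map (pEO ≫ eO ≫ v)) (by
        rw [← Category.assoc, ← Functor.map_comp, hqe, Functor.map_comp, Category.assoc, sq.w,
          ← Category.assoc, ← Functor.map_comp, Category.assoc]))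
    have hl₁ : l ≫ u₁ = puO := (AlgSp.yon S).map_injective (by rw [Functor.map_comp, hl, sq₂.lift_fst])
    have hl₂ : l ≫ u₂ = pEO ≫ eO ≫ v := (AlgSp.yon S).map_injective (by rw [Functor.map_comp, hl, sq₂.lift_snd])
    have hEtl : Etale l.left := by
      have : Etale u₁.left := repWith_fst_of_isPullback sq₂.flip hb
      have : Etale (l.left ≫ u₁.left) := by
        rw [← Over.comp_left, hl₁]
        exact inferInstanceAs (Etale (pullback.fst q.left e))
      exact Etale.of_comp l.left u₁.left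
    let r : E.toScheme ⟶ V₁.toScheme := IsOpenImmersion.lift V₁.ι (E.ι ≫ v.left) (by
      rintro _ ⟨y, rfl⟩
      rw [Scheme.Opens.range_ι]
      exact hEV y.2)
    have hr : r ≫ V₁.ι = E.ι ≫ v.left := IsOpenImmersion.lift_fac _ _ _
    have : LocallyOfFiniteType ((pE ≫ r) ≫ V₁.ι) := by
      rw [Category.assoc, hr]
      show LocallyOfFiniteType (pEO ≫ eO ≫ v).left
      rw [← hl₂, Over.comp_left]
      infer_instance
    have : LocallyOfFiniteType (pE ≫ r) := locallyOfFiniteType_of_comp _ V₁.ι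
    have : LocallyOfFiniteType r := locallyOfFiniteType_of_integral pE hpE r
    rw [← hr]
    infer_instance
  choose E hxE hE hEv using hpt
  exact (IsZariskiLocalAtSource.iff_of_openCover (P := @LocallyOfFiniteType)
    (Scheme.openCoverOfIsOpenCover B.left E (TopologicalSpace.IsOpenCover.mk
      (eq_top_iff.2 fun x _ => TopologicalSpace.Opens.mem_iSup.2 ⟨x, hxE x⟩)))).2 hEv

variable {𝒳 : AlgSt.Cat S}

/-- The finite-type property of the map to the base passes to the moduli space of a piece. -/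
theorem locP_lft_piece (h𝒳 : AlgSt.IsAlgStack Scheme.fppfPrecoverage 𝒳) (P : Piece 𝒳)
    {Y : AlgSp.Sp S} (hY : AlgSp.IsAlgSpace Y) (hYn : AlgSp.IsLocNoethSp Y)
    (p : 𝒳 ⥤ᵇ AlgSt.ofSp Y) (hp : AlgSt.LocQ (AlgSp.LocP @LocallyOfFiniteType) p)
    (F : (AlgSp.yon S).obj P.M ⟶ Y)
    (hF : ∀ w : P.W.obj, valAt p (P.g.obj w) (P.g.w_obj w) = valAt P.π w rfl ≫ F) :
    AlgSp.LocP @LocallyOfFiniteType F := by
  obtain ⟨U, x, hU, hx⟩ := P.wna
  obtain ⟨R, ω, hω, hfin, hflat, hlfp, -⟩ := exists_finite_chart_groupoid P.alg.isStack.1 hx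
  have : IsAffine R.left := isAffine_of_isAffineHom ω.src.left
  obtain ⟨θ, hθ⟩ := exists_iso_of_isCatModuli (isCatModuli_toModuli hω hx) P.unif.1
  have : IsAffine (Mo (StkSlice.groupoid hω)).left := inferInstanceAs (IsAffine (Spec _))
  have : IsIntegralHom (chartQuot hω).left := isIntegralHom_toQuot (StkSlice.groupoid hω)
  have hU' := isAlgStack_overCat U
  have hY' := isAlgStack_ofSp hY
  let c := BasedFunctor.comp x P.g
  have hlft : AlgSt.LocQ (AlgSp.LocP @LocallyOfFiniteType) (BasedFunctor.comp c p) :=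
    locQ_comp isSmoothLocalST_lft stableComp_locP hU' h𝒳 hY'
      (locQ_comp isSmoothLocalST_lft stableComp_locP hU' P.alg h𝒳
        (locQ_of_repWith stableBaseChange_locP descendsAlongAtlas_locP isSmoothLocalST_lft hU' P.alg
          (repWith_mono (fun _ _ _ _ _ hq => locP_mono
            (fun _ _ k (_ : LocallyOfFinitePresentation k) => (inferInstance : LocallyOfFiniteType k)) hq.2) hx))
        (locQ_of_repWith stableBaseChange_locP descendsAlongAtlas_locP isSmoothLocalST_lft P.alg h𝒳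
          (repWith_mono (fun _ _ _ _ _ hq => locP_mono
            (fun _ _ k (_ : Etale k) => (inferInstance : LocallyOfFiniteType k))
            (locP_of_isEtaleMor hq)) P.et))) hp
  let F' : (AlgSp.yon S).obj U ⟶ Y := (AlgSp.yon S).map (chartQuot hω) ≫ θ.hom ≫ F
  obtain ⟨i⟩ : Nonempty (BasedFunctor.comp c p ≅
      BasedFunctor.comp (AlgSt.ofOverCat U) (AlgSt.ofSpMap F')) := nonempty_iso_of_homOf fun z => by
    have e₁ : valAt (BasedFunctor.comp c p) z rfl = (AlgSp.yon S).map z.hom ≫ F' := by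
      show valAt (BasedFunctor.comp x (BasedFunctor.comp P.g p)) z rfl = _
      rw [valAt_comp, valAt_comp]
      have e₂ := congrArg ((AlgSp.yon S).map (eqToHom (x.w_obj z).symm) ≫ ·) (hF (x.obj z))
      have e₃ := toModuli_chart hω hx z.hom
      simp only [valAt, hθ, ← Category.assoc, ← Functor.map_comp, eqToHom_trans, eqToHom_refl,
        Category.id_comp] at e₂ e₃
      refine e₂.trans ?_
      simp only [Category.assoc, CategoryTheory.Functor.map_id, Category.id_comp, F']
      refine ((Category.assoc _ _ _).symm.trans (congrArg (· ≫ (θ.hom ≫ F)) e₃)).trans ?_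
      simp only [Functor.map_comp, Category.assoc]
    have e₄ : valAt (BasedFunctor.comp c p) z rfl = homOf (BasedFunctor.comp c p) z := by
      simp only [valAt, eqToHom_refl, CategoryTheory.Functor.map_id, Category.id_comp]
    rw [← e₄, e₁, homOf_comp_left, homOf_ofSpMap]
    rfl
  have hrep : AlgSt.RepByAlgSp1 (BasedFunctor.comp c p) :=
    repByAlgSp1_of_repByAlgSp (repByAlgSp_overCat U) ⟨⟨Y, hY⟩, BasedFunctor.id _, isEquivOver_id _⟩ _
  have hF' : AlgSp.LocP @LocallyOfFiniteType F' :=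
    prop_of_repWith_ofSpMap stableBaseChange_locP descendsAlongAtlas_locP (AlgSp.IsAlgSpace.yon_obj U) hY
      ((repWith_precomp_equiv (isEquivOver_ofOverCat U) _).1 (repWith_of_iso i
        (repWith_of_locQ stableBaseChange_locP (isLocalOnBase_fppf_locP _) isSmoothLocalST_lft hU' hY' hrep hlft)))
  have h₁ := locP_lft_of_quot (chartQuot hω) (toQuot_appTop_injective (StkSlice.groupoid hω)) hY hYn
    (θ.hom ≫ F) hF'
  have := (stableBaseChange_locP (S := S) (P := @LocallyOfFiniteType)).respectsIso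
  exact (MorphismProperty.cancel_left_of_respectsIso _ θ.hom F).1 h₁

/-- **The moduli space is locally of finite type.** -/
theorem locP_lft_moduli (h𝒳 : AlgSt.IsAlgStack Scheme.fppfPrecoverage 𝒳)
    (hI : AlgSt.RepByAlgSpWith AlgSp.IsFiniteMor (FibCat.inertiaToBase (FibCat.toSelf 𝒳)))
    {Y : AlgSp.Sp S} (hY : AlgSp.IsAlgSpace Y) (hYn : AlgSp.IsLocNoethSp Y)
    (p : 𝒳 ⥤ᵇ AlgSt.ofSp Y) (hp : AlgSt.LocQ (AlgSp.LocP @LocallyOfFiniteType) p)
    {M : AlgSp.Sp S} {π : 𝒳 ⥤ᵇ AlgSt.ofSp M} (hπ : AlgSt.IsCatModuli π)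
    (g : M ⟶ Y) (hg : Nonempty (BasedFunctor.comp π (AlgSt.ofSpMap g) ≅ p)) :
    AlgSp.LocP @LocallyOfFiniteType g := by
  obtain ⟨ι, P, hcov⟩ := exists_pieces h𝒳 hI
  obtain ⟨θ, hθ⟩ := exists_iso_of_isCatModuli (isUnifCatModuli_gluedπ h𝒳 P hcov).1 hπ
  obtain ⟨ε⟩ := hg
  obtain ⟨hMa, he, hs⟩ := gluedM_spec h𝒳 P
  have := (stableBaseChange_locP (S := S) (P := @LocallyOfFiniteType)).respectsIso
  refine (MorphismProperty.cancel_left_of_respectsIso _ θ.hom g).1
    (locP_of_source_cover hMa hY he hs ?_)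
  refine locP_of_repWith (HenselPoint.repWith_sigma _ fun i =>
    repWith_of_locP hY (representable_of_diag hY.diag _) ?_)
  rw [← Category.assoc]
  refine locP_lft_piece h𝒳 (P i) hY hYn p hp (inclM h𝒳 P i ≫ θ.hom ≫ g) fun w => ?_
  rw [← valAt_of_iso ε, valAt_ofSpMap]
  have e := valAt_gluedπ_g h𝒳 P hcov w (rfl : (P i).W.p.obj w = _)
  simp only [valAt, hθ, ← Category.assoc] at e ⊢
  rw [e]

end Groth.KeelMori
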