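import Groth.Agent.GitQuot.KeelMori.GluedSep
import Groth.Agent.StkGerb.QcCalc
import Groth.Agent.StkGerb.UnivClosedCalc
import Groth.Agent.AlgStBasic.SepRep
import Groth.Agent.AlgStBasic.SpaceCalc
import Groth.Agent.AlgSp2.SectionPoint
import Groth.Agent.AlgSpBasic.IntegralCover

/-!
# The moduli space of a (quasi-)separated stack with finite inertia is (quasi-)separated
-/

set_option autoImplicit false
set_option backward.isDefEq.respectTransparency false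
set_option backward.isDefEq.respectTransparency.types false

universe u

open CategoryTheory CategoryTheory.Limits AlgebraicGeometry Opposite
open Groth.StkBase Groth.AlgStBasic Groth.AlgSpBasic

noncomputable section

namespace Groth.KeelMori

variable {S : Scheme.{u}}

theorem isEquivOver_toSelf_base :
    FibCat.IsEquivOver (FibCat.toSelf (AlgSt.ofSch (Over.mk (𝟙 S)))) :=
  isEquivOver_toSelf_ofPsh_of_unique _ fun U =>
    ⟨⟨⟨⟨Over.mkIdTerminal.from U.unop⟩⟩, fun a => ULift.ext _ _ (Over.mkIdTerminal.hom_ext _ _)⟩⟩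

theorem isSeparatedMor_of_isSeparatedOver {M : AlgSp.Sp S} (hM : AlgSp.IsAlgSpace M)
    (h : AlgSt.IsSeparatedOver (AlgSt.ofSp M)) :
    AlgSp.IsSeparatedMor ((AlgSp2.SectionPoint.isTerminalYon S).from M) := by
  let T := (AlgSp.yon S).obj (Over.mk (𝟙 S))
  let q : M ⟶ T := (AlgSp2.SectionPoint.isTerminalYon S).from M
  have hq : FibCat.toSelf (AlgSt.ofSp M) = BasedFunctor.comp (AlgSt.ofSpMap q) (FibCat.toSelf (AlgSt.ofSch (Over.mk (𝟙 S)))) :=
    rfl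
  obtain ⟨e', he', ⟨ε⟩, -⟩ := isEquivOver_symm (isEquivOver_toSelf_base (S := S))
  have h₁ : AlgSt.RepByAlgSpWith AlgSp.IsUnivClosedMor (FibCat.diag (AlgSt.ofSpMap q)) := by
    have h₀ := repWith_diag_postcomp_equiv he' (repWith_mono (fun _ _ _ _ _ hφ => hφ.2.2) h)
    rw [hq] at h₀
    exact repWith_diag_of_iso (whiskerLeftIso (AlgSt.ofSpMap q) ε) h₀
  exact (sep_of_isUnivClosedMor_diagonal hM q
      ((repWith_diag_ofSpMap_iff stableBaseChange_univClosed (X := ⟨M, hM⟩)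
        (Y := ⟨T, AlgSp.IsAlgSpace.yon_obj _⟩) q).2 (descendsAlongAtlas_of_isLocalOnBase
          (isLocalOnBase_fppf_of_fpqc Groth.AlgSp2.isLocalOnBase_fpqc_isUnivClosedMor)) h₁))

theorem isQuasiSeparatedSp_of_qc_diag {M : AlgSp.Sp S} (hM : AlgSp.IsAlgSpace M)
    (h : AlgSt.IsQuasiCompactMor Scheme.fppfPrecoverage (FibCat.diag (FibCat.toSelf (AlgSt.ofSp M)))) :
    AlgSp.IsQuasiSeparatedSp M := by
  let T := (AlgSp.yon S).obj (Over.mk (𝟙 S))
  let q : M ⟶ T := (AlgSp2.SectionPoint.isTerminalYon S).from M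
  have hMs := isAlgStack_ofSp hM
  have hq : FibCat.toSelf (AlgSt.ofSp M) = BasedFunctor.comp (AlgSt.ofSpMap q) (FibCat.toSelf (AlgSt.ofSch (Over.mk (𝟙 S)))) :=
    rfl
  have h₂ := (repWith_qc_iff_isQuasiCompactMor hMs (isAlgStack_prod hMs hMs) hMs.diag).2 h
  obtain ⟨e', he', ⟨ε⟩, -⟩ := isEquivOver_symm (isEquivOver_toSelf_base (S := S))
  have h₁ : AlgSt.RepByAlgSpWith AlgSp.IsQuasiCompactMor (FibCat.diag (AlgSt.ofSpMap q)) := by
    have h₀ := repWith_diag_postcomp_equiv he' h₂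
    rw [hq] at h₀
    exact repWith_diag_of_iso (whiskerLeftIso (AlgSt.ofSpMap q) ε) h₀
  have h₃ : AlgSp.IsQuasiCompactMor (pullback.diagonal q) :=
    (repWith_diag_ofSpMap_iff stableBaseChange_qc (X := ⟨M, hM⟩)
      (Y := ⟨T, AlgSp.IsAlgSpace.yon_obj _⟩) q).2 (descendsAlongAtlas_of_isLocalOnBase isLocalOnBase_fppf_qc) h₁
  have h₄ : AlgSp.RepWith @QuasiCompact (pullback.diagonal q) :=
    repWith_of_isQuasiCompactMor (monoLFT_diagonal hM q).rep h₃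
  have sq : IsPullback (prod.fst : M ⨯ M ⟶ M) prod.snd q q :=
    IsPullback.of_is_product' (prodIsProd M M) (AlgSp2.SectionPoint.isTerminalYon S)
  have e : Limits.diag M = pullback.diagonal q ≫ sq.isoPullback.inv := by
    apply prod.hom_ext
    · rw [Category.assoc, sq.isoPullback_inv_fst, pullback.diagonal_fst, prod.lift_fst]
    · rw [Category.assoc, sq.isoPullback_inv_snd, pullback.diagonal_snd, prod.lift_snd]
  show AlgSp.RepWith @QuasiCompact (Limits.diag M)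
  rw [e]
  exact repWith_comp h₄ (repWith_isIso _)

variable {𝒳 : AlgSt.Cat S} (h𝒳 : AlgSt.IsAlgStack Scheme.fppfPrecoverage 𝒳)
  (hI : AlgSt.RepByAlgSpWith AlgSp.IsFiniteMor (FibCat.inertiaToBase (FibCat.toSelf 𝒳)))
  {M : AlgSp.Sp S} {π : 𝒳 ⥤ᵇ AlgSt.ofSp M} (hπ : AlgSt.IsCatModuli π)

include h𝒳 hI hπ

theorem exists_glued_iso : ∃ (ι : Type u) (P : ι → Piece 𝒳)
    (_ : ∀ z : AlgSt.Points 𝒳, ∃ i, z ∈ Set.range (AlgSt.Points.map (P i).g)),
    Nonempty (gluedM h𝒳 P ≅ M) := by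
  obtain ⟨ι, P, hcov⟩ := exists_pieces h𝒳 hI
  obtain ⟨θ, -⟩ := exists_iso_of_isCatModuli (isUnifCatModuli_gluedπ h𝒳 P hcov).1 hπ
  exact ⟨ι, P, hcov, ⟨θ⟩⟩

theorem isSeparatedSp_moduli (hs : AlgSt.IsSeparatedOver 𝒳) : AlgSp.IsSeparatedSp M := by
  obtain ⟨ι, P, hcov, ⟨θ⟩⟩ := exists_glued_iso h𝒳 hI hπ
  have hM₀ := isAlgSpace_gluedM h𝒳 P
  have hsep := isSeparatedMor_gluedπ h𝒳 P hcov
  have h₁ : AlgSt.IsSeparatedOver (AlgSt.ofSp (gluedM h𝒳 P)) :=
    StkGerb.isSeparatedMor_of_comp_univClosed (f := gluedπ h𝒳 P hcov) h𝒳 (isAlgStack_ofSp hM₀)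
      isAlgStack_selfOver (isUnivClosed_gluedπ h𝒳 P hcov) (isSurjective_gluedπ h𝒳 P hcov)
      (repWith_mono (fun _ _ _ _ _ hφ => hφ.2.2) hsep)
      (repWith_diag_of_iso (selfIso (FibCat.toSelf 𝒳)
        (BasedFunctor.comp (gluedπ h𝒳 P hcov) (FibCat.toSelf (AlgSt.ofSp (gluedM h𝒳 P))))) hs)
  exact AlgSp2.SectionPoint.isSeparatedSp_of_isSeparatedMor (AlgSp2.SectionPoint.isTerminalYon S) ((AlgSp2.SectionPoint.isTerminalYon S).from M) (by
    rw [show (AlgSp2.SectionPoint.isTerminalYon S).from M = θ.inv ≫ (AlgSp2.SectionPoint.isTerminalYon S).from (gluedM h𝒳 P) from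
      (AlgSp2.SectionPoint.isTerminalYon S).hom_ext _ _]
    refine ColimitSep.isSeparatedMor_comp (ColimitSep.isSeparatedMor_of_mono _) ?_
    exact isSeparatedMor_of_isSeparatedOver hM₀ h₁)

theorem isQuasiSeparatedSp_moduli (hq : AlgSt.IsQuasiSeparatedOver 𝒳) : AlgSp.IsQuasiSeparatedSp M := by
  obtain ⟨ι, P, hcov, ⟨θ⟩⟩ := exists_glued_iso h𝒳 hI hπ
  have hM₀ := isAlgSpace_gluedM h𝒳 P
  have hM := isAlgStack_ofSp hM₀
  have hXX := isAlgStack_prod h𝒳 h𝒳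
  have hMM := isAlgStack_prod hM hM
  have h₁ : AlgSt.RepByAlgSpWith AlgSp.IsQuasiCompactMor (FibCat.diag (FibCat.toSelf 𝒳)) :=
    repWith_mono (fun _ _ _ _ _ hφ => hφ.1) hq
  have h₂ : AlgSt.IsQuasiCompactMor Scheme.fppfPrecoverage
      (FibCat.diag (FibCat.toSelf (AlgSt.ofSp (gluedM h𝒳 P)))) :=
    isQuasiCompactMor_of_isSurjective h𝒳 hM hMM (exists_diag_square (e := gluedπ h𝒳 P hcov)).some.symm
      (isSurjective_gluedπ h𝒳 P hcov)
      (isQuasiCompactMor_comp h𝒳 hXX hMM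
        ((repWith_qc_iff_isQuasiCompactMor h𝒳 hXX h𝒳.diag).1 h₁)
        (StkGerb.isQuasiCompactMor_prodMapF h𝒳 hM (isQuasiCompactMor_gluedπ h𝒳 P hcov)))
  exact isQuasiSeparatedSp_of_mono (isQuasiSeparatedSp_of_qc_diag hM₀ h₂) θ.inv

end Groth.KeelMori
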