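import Groth.Agent.GitQuot.KeelMori.FinCovPieces
import Groth.Agent.GitQuot.KeelMori.MSep
import Groth.Agent.GitQuot.KeelMori.Lft
import Groth.Agent.GitQuot.StkInertia.Descent
import Groth.Agent.StackDM.Diag
import Groth.Agent.StkFppf.Main
import Groth.Agent.AlgStBasic.LocQApps
import Groth.Agent.AlgStBasic.StQc
import Groth.Agent.AlgSpBasic.SepLocal
import Groth.Agent.AlgSpBasic.DecentFinite

/-!
# Coarse moduli spaces of separated Deligne-Mumford stacks
-/

set_option autoImplicit false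
set_option backward.isDefEq.respectTransparency false
set_option backward.isDefEq.respectTransparency.types false

universe u

open CategoryTheory CategoryTheory.Limits AlgebraicGeometry Opposite
open Groth.StkBase Groth.AlgSpBasic Groth.AlgStBasic

noncomputable section

namespace Groth.KeelMori

variable {S : Scheme.{u}} {𝒳 : AlgSt.Cat S}

/-- A separated stack with an etale atlas has finite diagonal. -/
theorem repWith_finite_diag_of_dm (hX : FibCat.IsFibGrpd 𝒳.p)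
    (hd : AlgSt.RepByAlgSp1 (FibCat.diag (FibCat.toSelf 𝒳)))
    (hat : AlgSt.HasAtlas AlgSp.IsEtaleMor 𝒳) (hsep : AlgSt.IsSeparatedOver 𝒳) :
    AlgSt.RepByAlgSpWith AlgSp.IsFiniteMor (FibCat.diag (FibCat.toSelf 𝒳)) :=
  Groth.GitQuot.StkInertia.repWith_finite_of_proper_lqf hsep
    (repWith_mono (fun _ _ _ _ _ h => locP_mono
      (P := @LocallyOfFiniteType ⊓ @FormallyUnramified)
      (Q := @LocallyQuasiFinite ⊓ @LocallyOfFiniteType)
      (fun _ _ f hf => by
        obtain ⟨_, _⟩ := hf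
        exact ⟨locallyQuasiFinite_of_formallyUnramified f, inferInstance⟩) h)
      (Groth.StackDM.isDMOver_of_hasAtlas_etale hX hd hat))

/-- A morphism to a space out of a stack of finite type over the base is locally of finite type. -/
theorem locQ_lft_of_toSelf {𝒴 : AlgSt.Cat S} (hX : AlgSt.IsAlgStack Scheme.fppfPrecoverage 𝒳)
    (hY : AlgSt.IsAlgStack Scheme.fppfPrecoverage 𝒴) (f : 𝒳 ⥤ᵇ 𝒴)
    (hft : AlgSt.LocQ (AlgSp.LocP @LocallyOfFiniteType) (FibCat.toSelf 𝒳)) :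
    AlgSt.LocQ (AlgSp.LocP @LocallyOfFiniteType) f := by
  obtain ⟨U, W, V, a, b, h⟩ :=
    exists_scheme_square_comp hX hY isAlgStack_selfOver f (FibCat.toSelf 𝒴)
  obtain ⟨h₁, -, h₃⟩ := h (P := AlgSp.LocP @LocallyOfFiniteType) isSmoothLocalST_lft
  obtain ⟨U', V', x, y, k, i, hx, hxs, hy, hk⟩ := hft
  have := left_prop_of_locP_yon (h₃.1 ⟨U', V', x, y, k,
    (whiskerLeftIso x (selfIso _ _)).trans i, hx, hxs, hy, hk⟩)
  have hl : LocallyOfFiniteType (a.left ≫ b.left) := this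
  exact h₁.2 (locP_yon_of_left (locallyOfFiniteType_of_comp a.left b.left))

/-- A separated quasi-compact Deligne-Mumford stack of finite type over an affine Noetherian scheme
has a coarse moduli space with the expected properties. -/
theorem exists_coarse_dm [IsAffine S] [IsNoetherian S] (h𝒳 : AlgSt.IsDM Scheme.etalePrecoverage 𝒳)
    (hsep : AlgSt.IsSeparatedOver 𝒳)
    (hft : AlgSt.LocQ (AlgSp.LocP @LocallyOfFiniteType) (FibCat.toSelf 𝒳))
    (hqc : AlgSt.IsQuasiCompact 𝒳) :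
    ∃ (M : AlgSp.Sp S) (π : 𝒳 ⥤ᵇ AlgSt.ofSp M), AlgSt.IsCoarseModuli π ∧
      AlgSp.IsSeparatedSp M ∧
      (∀ q : M ⟶ (AlgSp.yon S).obj (Over.mk (𝟙 S)), AlgSp.IsFiniteTypeMor q) ∧
      AlgSt.IsSeparatedMor π ∧ AlgSt.LocQ (AlgSp.LocP @LocallyOfFiniteType) π ∧
      AlgSt.IsUnivHomeo Scheme.etalePrecoverage π ∧
      ∀ (M' : AlgSp.Sp S), AlgSp.IsAlgSpace M' → ∀ g : M' ⟶ M, AlgSp.LocP @Flat g →
        AlgSt.IsCoarseModuli (FibCat.fpFst (AlgSt.ofSpMap g) π) := by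
  obtain ⟨hA, hat⟩ := h𝒳
  have h : AlgSt.IsAlgStack Scheme.fppfPrecoverage 𝒳 := Groth.StkFppf.isAlgStack_fppf_of_etale hA
  have hX := h.isStack.1
  have hI : AlgSt.RepByAlgSpWith AlgSp.IsFiniteMor (FibCat.inertiaToBase (FibCat.toSelf 𝒳)) :=
    repWith_inertiaToBase _ (repWith_finite_diag_of_dm hX hA.diag hat hsep)
  obtain ⟨ι, P, hcov⟩ := exists_pieces h hI
  let M := gluedM h P
  let π := gluedπ h P hcov
  have hM : AlgSp.IsAlgSpace M := isAlgSpace_gluedM h P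
  have hM' : AlgSt.IsAlgStack Scheme.fppfPrecoverage (AlgSt.ofSp M) := isAlgStack_ofSp hM
  have hu := isUnifCatModuli_gluedπ h P hcov
  let Z : Over S := Over.mk (𝟙 S)
  have hZ : AlgSp.IsAlgSpace ((AlgSp.yon S).obj Z) := AlgSp.IsAlgSpace.yon_obj Z
  have hMc : AlgSp.IsQuasiCompactSp M := (isQuasiCompact_ofSp_iff hM).1
    (isQuasiCompact_of_isSurjective h hM' (isSurjective_gluedπ h P hcov) hqc)
  have hlft : ∀ q : M ⟶ (AlgSp.yon S).obj Z, AlgSp.LocP @LocallyOfFiniteType q := fun q => by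
    obtain ⟨e', he', -, -⟩ := isEquivOver_symm (isEquivOver_toSelf_base (S := S))
    have hZn : AlgSp.IsLocNoethSp ((AlgSp.yon S).obj Z) :=
      ⟨Z, 𝟙 _, repWith_isIso _, repWith_isIso _, inferInstanceAs (IsLocallyNoetherian S)⟩
    obtain ⟨U', V', x, y, k, i, hx, hxs, hy, hk⟩ := hft
    have hp : AlgSt.LocQ (AlgSp.LocP @LocallyOfFiniteType) (BasedFunctor.comp (FibCat.toSelf 𝒳) e') :=
      ⟨U', V', x, BasedFunctor.comp y e', k, whiskerRightIso i e', hx, hxs,
        (repWith_postcomp_equiv _ he').2 hy, hk⟩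
    exact locP_lft_moduli h hI hZ hZn _ hp hu.1 q
      (nonempty_iso_of_homOf fun _ => (AlgSp2.SectionPoint.isTerminalYon S).hom_ext _ _)
  have hZqs : AlgSp.IsQuasiSeparatedSp ((AlgSp.yon S).obj Z) := by
    haveI : IsAffine Z.left := ‹IsAffine S›
    refine isQuasiSeparatedSp_yon_of_affine (A := Z) (O := ⊤) (isAffineOpen_top S)
      (w := S.topIso.inv) ?_
    exact S.topIso.inv_hom_id
  refine ⟨M, π, ⟨hu.1, geomPtBij_gluedπ h P hcov⟩, isSeparatedSp_moduli h hI hu.1 hsep,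
    fun q => ⟨hlft q, isQuasiCompactMor_of_source hM hZ hMc hZqs q⟩,
    isSeparatedMor_gluedπ h P hcov, locQ_lft_of_toSelf h hM' π hft,
    fun 𝒵 hW g => isUnivHomeo_gluedπ h P hcov 𝒵 (Groth.StkFppf.isAlgStack_fppf_of_etale hW) g,
    fun M₁ hM₁ g hg => ⟨hu.2 M₁ hM₁ g hg, geomPtBij_fpFst hX (geomInj_gluedπ h P hcov)
      (geomSurj_gluedπ h P hcov) g⟩⟩

end Groth.KeelMori
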