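import Groth.Agent.AlgSp2.InfGlue
import Groth.Agent.AlgSpBasic.Glue
import Groth.Agent.AlgSpBasic.LocPInst
import Groth.Agent.StkBase.Descent2
import Groth.Prelude.Def_StCoarse

/-!
# Maps out of a space are detected on affine schemes flat over it

For a functor `p : 𝒵 ⟶ ofSp M` a map `u : M ⟶ N` is determined by a functor `φ : 𝒵 ⟶ ofSp N` as soon as
this holds after pulling back to all affine schemes flat over `M`.
-/

set_option autoImplicit false
set_option backward.isDefEq.respectTransparency false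
set_option backward.isDefEq.respectTransparency.types false

universe u

open CategoryTheory CategoryTheory.Limits AlgebraicGeometry Opposite
open Groth.StkBase Groth.AlgSpBasic

noncomputable section

namespace Groth.KeelMori

variable {S : Scheme.{u}} {𝒵 : AlgSt.Cat S} {M N : AlgSp.Sp S}

theorem app_map {T T' : Over S} (j : T' ⟶ T) (x : (AlgSp.yon S).obj T ⟶ M) {X : Over S}
    (k : X ⟶ T') :
    ((AlgSp.yon S).map j ≫ x).hom.app (op X) ⟨k⟩ = x.hom.app (op X) ⟨k ≫ j⟩ := rfl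

theorem app_nat {T : Over S} (x : (AlgSp.yon S).obj T ⟶ M) {X X' : Over S} (l : X' ⟶ X)
    (k : X ⟶ T) :
    x.hom.app (op X') ⟨l ≫ k⟩ = M.obj.map l.op (x.hom.app (op X) ⟨k⟩) :=
  NatTrans.naturality_apply x.hom l.op (⟨k⟩ : ULift.{u + 1} (X ⟶ T))

theorem yEquiv_eq_app {T : Over S} (x : (AlgSp.yon S).obj T ⟶ M) :
    yEquiv x = x.hom.app (op T) ⟨𝟙 T⟩ := by rfl

theorem hom_ext_app {T : Over S} {x x' : (AlgSp.yon S).obj T ⟶ M}
    (h : x.hom.app (op T) ⟨𝟙 T⟩ = x'.hom.app (op T) ⟨𝟙 T⟩) : x = x' :=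
  yEquiv.injective ((yEquiv_eq_app x).trans (h.trans (yEquiv_eq_app x').symm))

theorem app_yEquiv_symm {T : Over S} (s : M.obj.obj (op T)) {X : Over S} (k : X ⟶ T) :
    (yEquiv.symm s).hom.app (op X) ⟨k⟩ = M.obj.map k.op s := by
  have h : (yEquiv.symm s).hom.app (op T) ⟨𝟙 T⟩ = s :=
    (yEquiv_eq_app (yEquiv.symm s)).symm.trans (yEquiv.apply_symm_apply s)
  have := app_nat (yEquiv.symm s) k (𝟙 T)
  rw [Category.comp_id, h] at this
  exact this

theorem map_eq_of_lift {X V : Over S} {a : 𝒵.obj} {j : V ⟶ X} {pl : 𝒵.p.obj a ⟶ X}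
    (hV : 𝒵.p.obj a = V) (hl : pl = eqToHom hV ≫ j) {s t : N.obj.obj (op X)}
    (h : N.obj.map pl.op s = N.obj.map pl.op t) : N.obj.map j.op s = N.obj.map j.op t := by
  subst hV
  rw [eqToHom_refl, Category.id_comp] at hl
  rwa [← hl]

variable (p : 𝒵 ⥤ᵇ AlgSt.ofSp M) (φ : 𝒵 ⥤ᵇ AlgSt.ofSp N)

/-- `y` computes `φ` on the objects lying over `x`. -/
def Ext (T : Over S) (x : (AlgSp.yon S).obj T ⟶ M) (y : (AlgSp.yon S).obj T ⟶ N) : Prop :=
  ∀ (z : 𝒵.obj) (k : 𝒵.p.obj z ⟶ T),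
    x.hom.app (op (𝒵.p.obj z)) ⟨k⟩ = secOf p z → y.hom.app (op (𝒵.p.obj z)) ⟨k⟩ = secOf φ z

variable {p φ}

theorem Ext.res {T T' : Over S} (j : T' ⟶ T) {x : (AlgSp.yon S).obj T ⟶ M}
    {y : (AlgSp.yon S).obj T ⟶ N} (h : Ext p φ T x y) :
    Ext p φ T' ((AlgSp.yon S).map j ≫ x) ((AlgSp.yon S).map j ≫ y) :=
  fun z k hk => h z (k ≫ j) hk

theorem locP_flat_comp (hM : AlgSp.IsAlgSpace M) {T T' : Over S} (j : T' ⟶ T) [Flat j.left]
    {x : (AlgSp.yon S).obj T ⟶ M} (hx : AlgSp.LocP @Flat x) :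
    AlgSp.LocP @Flat ((AlgSp.yon S).map j ≫ x) :=
  locP_comp (AlgSp.IsAlgSpace.yon_obj T') (AlgSp.IsAlgSpace.yon_obj T) hM
    (locP_of_repWith ((AlgSp.repWith_yon_map_iff _ j).2 ‹Flat j.left›)) hx

variable (p φ)

theorem ext_unique (hM : AlgSp.IsAlgSpace M)
    (haff : ∀ (T : Over S), IsAffine T.left → ∀ x : (AlgSp.yon S).obj T ⟶ M, AlgSp.LocP @Flat x →
      ∃! y, Ext p φ T x y)
    {T : Over S} {x : (AlgSp.yon S).obj T ⟶ M} (hx : AlgSp.LocP @Flat x)
    {y y' : (AlgSp.yon S).obj T ⟶ N} (h : Ext p φ T x y) (h' : Ext p φ T x y') : y = y' :=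
  Groth.AlgSp2.yon_hom_ext_of_openCover T.left.affineCover y y' fun i =>
    haveI : Flat (Over.homMk (T.left.affineCover.f i) rfl :
        Over.mk (T.left.affineCover.f i ≫ T.hom) ⟶ T).left :=
      inferInstanceAs (Flat (T.left.affineCover.f i))
    (haff _ (inferInstanceAs (IsAffine (T.left.affineCover.X i))) _
      (locP_flat_comp hM _ hx)).unique (h.res _) (h'.res _)

theorem ext_exists (hZ : FibCat.IsFibGrpd 𝒵.p) (hM : AlgSp.IsAlgSpace M)
    (haff : ∀ (T : Over S), IsAffine T.left → ∀ x : (AlgSp.yon S).obj T ⟶ M, AlgSp.LocP @Flat x →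
      ∃! y, Ext p φ T x y)
    {T : Over S} {x : (AlgSp.yon S).obj T ⟶ M} (hx : AlgSp.LocP @Flat x) :
    ∃ y, Ext p φ T x y := by
  let 𝒰 := T.left.affineCover
  let V : 𝒰.I₀ → Over S := fun i => Over.mk (𝒰.f i ≫ T.hom)
  let j : ∀ i, V i ⟶ T := fun i => Over.homMk (𝒰.f i) rfl
  have hj : ∀ i, Flat (j i).left := fun i => inferInstanceAs (Flat (𝒰.f i))
  choose a ha using fun i => (haff (V i) (inferInstanceAs (IsAffine (𝒰.X i)))
    ((AlgSp.yon S).map (j i) ≫ x) (by have := hj i; exact locP_flat_comp hM _ hx)).exists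
  obtain ⟨y, hy⟩ := exists_glue_of_openCover 𝒰 a fun i k T' q q' e => by
    let W : Over S := Over.mk ((pullback.fst (𝒰.f i) (𝒰.f k) ≫ 𝒰.f i) ≫ T.hom)
    let r : W ⟶ V i := Over.homMk (pullback.fst (𝒰.f i) (𝒰.f k)) (Category.assoc _ _ _).symm
    let r' : W ⟶ V k := Over.homMk (pullback.snd (𝒰.f i) (𝒰.f k)) (by
      show pullback.snd (𝒰.f i) (𝒰.f k) ≫ 𝒰.f k ≫ T.hom = _
      rw [← Category.assoc, ← pullback.condition]
      rfl)
    have hr : r ≫ j i = r' ≫ j k := Over.OverMorphism.ext pullback.condition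
    have hfl : AlgSp.LocP @Flat ((AlgSp.yon S).map (r ≫ j i) ≫ x) := by
      have : Flat (r ≫ j i).left :=
        inferInstanceAs (Flat (pullback.fst (𝒰.f i) (𝒰.f k) ≫ 𝒰.f i))
      exact locP_flat_comp hM _ hx
    have key : (AlgSp.yon S).map r ≫ a i = (AlgSp.yon S).map r' ≫ a k := by
      refine ext_unique p φ hM haff hfl ?_ ?_
      · rw [Functor.map_comp, Category.assoc]
        exact (ha i).res r
      · rw [hr, Functor.map_comp, Category.assoc]
        exact (ha k).res r'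
    let l : T' ⟶ W := Over.homMk (pullback.lift q.left q'.left e) (by
      show pullback.lift q.left q'.left e ≫ (pullback.fst (𝒰.f i) (𝒰.f k) ≫ 𝒰.f i) ≫ T.hom = _
      rw [Category.assoc, pullback.lift_fst_assoc]
      exact Over.w q)
    have h₁ : q = l ≫ r := Over.OverMorphism.ext (pullback.lift_fst q.left q'.left e).symm
    have h₂ : q' = l ≫ r' := Over.OverMorphism.ext (pullback.lift_snd q.left q'.left e).symm
    rw [h₁, h₂, Functor.map_comp, Functor.map_comp, Category.assoc, Category.assoc, key]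
  refine ⟨y, fun z k hk => ?_⟩
  let T' := 𝒵.p.obj z
  have hσ : yEquiv.symm (y.hom.app (op T') ⟨k⟩) = yEquiv.symm (secOf φ z) := by
    let 𝒰' : T'.left.OpenCover := 𝒰.pullback₁ k.left
    refine Groth.AlgSp2.yon_hom_ext_of_openCover 𝒰' _ _ fun i => hom_ext_app ?_
    rw [app_map, app_map, app_yEquiv_symm, app_yEquiv_symm, Category.id_comp]
    let j' : Over.mk (𝒰'.f i ≫ T'.hom) ⟶ T' := Over.homMk (𝒰'.f i) rfl
    let kᵢ : Over.mk (𝒰'.f i ≫ T'.hom) ⟶ V i := Over.homMk (pullback.snd k.left (𝒰.f i)) (by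
      show pullback.snd k.left (𝒰.f i) ≫ 𝒰.f i ≫ T.hom = pullback.fst k.left (𝒰.f i) ≫ T'.hom
      rw [← Category.assoc, ← pullback.condition, Category.assoc, Over.w k])
    have hk' : j' ≫ k = kᵢ ≫ j i := Over.OverMorphism.ext pullback.condition
    obtain ⟨z', l, hz', hl⟩ := exists_lift' hZ (x := z) j'
    refine map_eq_of_lift hz' hl ?_
    have hkl : 𝒵.p.map l ≫ k = (eqToHom hz' ≫ kᵢ) ≫ j i := by
      rw [hl, Category.assoc, hk', Category.assoc]
    have hxz : ((AlgSp.yon S).map (j i) ≫ x).hom.app (op (𝒵.p.obj z')) ⟨eqToHom hz' ≫ kᵢ⟩ =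
        secOf p z' := by
      rw [app_map, ← hkl, app_nat, hk]
      exact secOf_map p l
    have := ha i z' (eqToHom hz' ≫ kᵢ) hxz
    rw [← hy i, app_map, ← hkl, app_nat] at this
    exact this.trans (secOf_map φ l).symm
  exact yEquiv.symm.injective hσ

/-- The map out of `M` computing `φ` exists uniquely, if this holds over affine schemes flat over `M`. -/
theorem existsUnique_of_affine (hZ : FibCat.IsFibGrpd 𝒵.p) (hM : AlgSp.IsAlgSpace M)
    (haff : ∀ (T : Over S), IsAffine T.left → ∀ x : (AlgSp.yon S).obj T ⟶ M, AlgSp.LocP @Flat x →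
      ∃! y, Ext p φ T x y) :
    ∃! v : M ⟶ N, ∀ z : 𝒵.obj, v.hom.app (op (𝒵.p.obj z)) (secOf p z) = secOf φ z := by
  obtain ⟨W, a, ha, has⟩ := hM.atlas
  have haf : AlgSp.LocP @Flat a :=
    locP_of_repWith (repWith_mono (fun _ _ f (_ : Etale f) => (inferInstance : Flat f)) ha)
  obtain ⟨y, hy⟩ := ext_exists p φ hZ hM haff haf
  obtain ⟨v, hv⟩ := Groth.AlgSp2.exists_desc_of_etale a ha has y fun Z q q' e => by
    obtain ⟨R, r₂, fst, sq⟩ := ha.rep a
    obtain ⟨r₁, rfl⟩ := (AlgSp.yon S).map_surjective fst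
    have : Etale r₂.left := ha.property a _ r₂ sq
    have key : (AlgSp.yon S).map r₁ ≫ y = (AlgSp.yon S).map r₂ ≫ y := by
      refine ext_unique p φ hM haff (locP_flat_comp hM r₂ haf) ?_ (hy.res r₂)
      rw [← sq.w]
      exact hy.res r₁
    rw [← sq.lift_fst q q' e, Category.assoc, key, ← Category.assoc, sq.lift_snd]
  refine ⟨v, fun z => ?_, fun v' hv' => ?_⟩
  · let T' := 𝒵.p.obj z
    obtain ⟨V, c, fst, sq⟩ := ha.rep (yEquiv.symm (secOf p z))
    obtain ⟨w, rfl⟩ := (AlgSp.yon S).map_surjective fst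
    have : Etale c.left := ha.property _ _ c sq
    have : Surjective c.left := has.property _ _ c sq
    refine yEquiv.symm.injective (Groth.AlgSp2.hom_ext_of_fppf c (hom_ext_app ?_))
    rw [app_map, app_map, app_yEquiv_symm, app_yEquiv_symm, Category.id_comp]
    obtain ⟨z', l, hz', hl⟩ := exists_lift' hZ (x := z) c
    refine map_eq_of_lift hz' hl ?_
    have hw : a.hom.app (op (𝒵.p.obj z')) ⟨eqToHom hz' ≫ w⟩ = secOf p z' := by
      rw [← app_map w a, sq.w, app_map, ← hl, app_yEquiv_symm]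
      exact secOf_map p l
    have := hy z' (eqToHom hz' ≫ w) hw
    rw [← hv] at this
    change v.hom.app _ (a.hom.app _ ⟨eqToHom hz' ≫ w⟩) = _ at this
    rw [hw, ← secOf_map p l, NatTrans.naturality_apply] at this
    exact this.trans (secOf_map φ l).symm
  · refine Groth.AlgSp2.hom_ext_of_etale a ha has ?_
    rw [hv]
    refine ext_unique p φ hM haff haf (fun z k hk => ?_) hy
    change v'.hom.app _ (a.hom.app _ ⟨k⟩) = _
    rw [hk]
    exact hv' z

end Groth.KeelMori
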