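import Groth.Agent.GitQuot.StkSlice.Univ
import Groth.Agent.GitQuot.StkSlice.Chart
import Groth.Agent.GitQuot.KeelMori.Uniform
import Groth.Agent.AlgSpBasic.AffineMor
import Groth.Agent.AlgStBasic.StCompact
import Groth.Prelude.Def_W4stkstmodspWNA

/-!
# Descending maps along a finite flat chart of a stack
-/

set_option autoImplicit false
set_option backward.isDefEq.respectTransparency false
set_option backward.isDefEq.respectTransparency.types false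

universe u

open CategoryTheory CategoryTheory.Limits AlgebraicGeometry Opposite
open Groth.StkBase Groth.AlgSpBasic Groth.AlgStBasic

noncomputable section

namespace Groth.KeelMori

variable {S : Scheme.{u}} {𝒳 : AlgSt.Cat S}

section HomOf

variable {M N : AlgSp.Sp S}

/-- The section of a functor at an object, as a morphism from the scheme. -/
abbrev homOf (Φ : 𝒳 ⥤ᵇ AlgSt.ofSp M) (z : 𝒳.obj) : (AlgSp.yon S).obj (𝒳.p.obj z) ⟶ M :=
  yEquiv.symm (secOf Φ z)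

theorem yon_map_yEquiv_symm {T T' : Over S} (f : T' ⟶ T) (s : M.obj.obj (op T)) :
    (AlgSp.yon S).map f ≫ yEquiv.symm s = yEquiv.symm (M.obj.map f.op s) := by
  apply hom_ext_app
  rw [app_map, app_yEquiv_symm, app_yEquiv_symm, Category.id_comp]
  simp

theorem homOf_map (Φ : 𝒳 ⥤ᵇ AlgSt.ofSp M) {a b : 𝒳.obj} (f : a ⟶ b) :
    (AlgSp.yon S).map (𝒳.p.map f) ≫ homOf Φ b = homOf Φ a :=
  (yon_map_yEquiv_symm _ _).trans (congrArg yEquiv.symm (secOf_map Φ f))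

theorem homOf_map' (Φ : 𝒳 ⥤ᵇ AlgSt.ofSp M) {a b : 𝒳.obj} (f : a ⟶ b) {T : Over S}
    (ha : 𝒳.p.obj a = T) {c : T ⟶ 𝒳.p.obj b} (hf : 𝒳.p.map f = eqToHom ha ≫ c) :
    (AlgSp.yon S).map c ≫ homOf Φ b = (AlgSp.yon S).map (eqToHom ha.symm) ≫ homOf Φ a := by
  rw [← homOf_map Φ f, hf, ← Category.assoc, ← Functor.map_comp, eqToHom_trans_assoc, eqToHom_refl,
    Category.id_comp]

theorem yEquiv_symm_comp {T : Over S} (s : M.obj.obj (op T)) (v : M ⟶ N) :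
    yEquiv.symm s ≫ v = yEquiv.symm (v.hom.app (op T) s) := by
  apply hom_ext_app
  change v.hom.app (op T) ((yEquiv.symm s).hom.app (op T) ⟨𝟙 T⟩) = _
  rw [app_yEquiv_symm, app_yEquiv_symm]
  simp

theorem secOf_comp_ofSpMap (Φ : 𝒳 ⥤ᵇ AlgSt.ofSp M) (v : M ⟶ N) (z : 𝒳.obj) :
    secOf (BasedFunctor.comp Φ (AlgSt.ofSpMap v)) z = v.hom.app _ (secOf Φ z) :=
  (NatTrans.naturality_apply v.hom (eqToHom (Φ.w_obj z).symm).op (Φ.obj z).sec).symm

theorem homOf_comp (Φ : 𝒳 ⥤ᵇ AlgSt.ofSp M) (v : M ⟶ N) (z : 𝒳.obj) :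
    homOf (BasedFunctor.comp Φ (AlgSt.ofSpMap v)) z = homOf Φ z ≫ v :=
  (congrArg yEquiv.symm (secOf_comp_ofSpMap Φ v z)).trans (yEquiv_symm_comp _ _).symm

theorem nonempty_iso_of_homOf {Φ Ψ : 𝒳 ⥤ᵇ AlgSt.ofSp M} (h : ∀ z, homOf Φ z = homOf Ψ z) :
    Nonempty (Φ ≅ Ψ) :=
  nonempty_iso_of_secOf M.obj fun z => yEquiv.symm.injective (h z)

theorem homOf_eq_of_iso {Φ Ψ : 𝒳 ⥤ᵇ AlgSt.ofSp M} (i : Φ ≅ Ψ) (z : 𝒳.obj) : homOf Φ z = homOf Ψ z :=
  congrArg yEquiv.symm (secOf_eq_of_iso i z)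

/-- A functor into a sheaf from compatible sections. -/
def sigmaFunctor (σ : ∀ z : 𝒳.obj, M.obj.obj (op (𝒳.p.obj z)))
    (h : ∀ ⦃a b : 𝒳.obj⦄ (f : a ⟶ b), M.obj.map (𝒳.p.map f).op (σ b) = σ a) :
    𝒳 ⥤ᵇ AlgSt.ofSp M where
  toFunctor :=
    { obj := fun z => ⟨𝒳.p.obj z, σ z⟩
      map := fun {a b} f => eltHom (a := ⟨𝒳.p.obj a, σ a⟩) (b := ⟨𝒳.p.obj b, σ b⟩) (𝒳.p.map f) (h f)
      map_id := fun a => elt_hom_ext_p (𝒳.p.map_id a)
      map_comp := fun f g => elt_hom_ext_p (𝒳.p.map_comp f g) }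
  w := rfl

theorem secOf_sigmaFunctor (σ : ∀ z : 𝒳.obj, M.obj.obj (op (𝒳.p.obj z)))
    (h : ∀ ⦃a b : 𝒳.obj⦄ (f : a ⟶ b), M.obj.map (𝒳.p.map f).op (σ b) = σ a) (z : 𝒳.obj) :
    secOf (sigmaFunctor σ h) z = σ z := map_op_id M.obj _ rfl _

end HomOf

/-- Finite locally free and surjective. -/
abbrev FinCov (S : Scheme.{u}) : MorphismProperty (AlgSp.Sp S) :=
  AlgSp.IsSurjectiveMor ⊓ AlgSp.LocP @Flat ⊓ AlgSp.IsFiniteMor ⊓
    AlgSp.LocP @LocallyOfFinitePresentation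

variable {U : Over S} {x : FibCat.overCat U ⥤ᵇ 𝒳}

/-- The base change of the chart to a scheme is a scheme finite locally free over it. -/
theorem exists_rep (hx : AlgSt.RepByAlgSpWith (FinCov S) x) {T : Over S}
    (y : FibCat.overCat T ⥤ᵇ 𝒳) :
    ∃ (P : Over S) (c : P ⟶ T) (E : FibCat.overCat P ⥤ᵇ FibCat.fp y x),
      FibCat.IsEquivOver E ∧ Nonempty (BasedFunctor.comp E (FibCat.fpFst y x) ≅ AlgSt.overMap c) ∧
      IsFinite c.left ∧ Flat c.left ∧ LocallyOfFinitePresentation c.left ∧ Surjective c.left := by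
  obtain ⟨F, e, he, ⟨⟨hsurj, hflat⟩, hfin⟩, hlfp⟩ := hx T y
  let q := AlgSt.spMapOfOver (BasedFunctor.comp e (FibCat.fpFst y x))
  have hr := isFiniteMor_iff_repWith.1 hfin
  obtain ⟨P, c, fst, sq⟩ := hr.rep (𝟙 ((AlgSp.yon S).obj T))
  have : IsIso fst := sq.isIso_fst_of_isIso
  let Φ₀ := BasedFunctor.comp (AlgSt.ofSpMap fst) (BasedFunctor.comp e (FibCat.fpFst y x))
  have hc : (AlgSp.yon S).map c = fst ≫ q := (sq.w.trans (Category.comp_id _)).symm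
  have hc₀ : (AlgSp.yon S).map c = AlgSt.spMapOfOver Φ₀ := by
    rw [hc]
    apply ObjectProperty.hom_ext
    rw [spMapOfOver_hom_eq Φ₀]
    show fst.hom ≫ q.hom = _
    rw [spMapOfOver_hom_eq, ← pshMapOf_ofPshMap fst.hom, ← pshMapOf_comp]
    rfl
  obtain ⟨γ⟩ := StkRed.iso_overMap_of_spMap Φ₀ c hc₀
  refine ⟨P, c, BasedFunctor.comp (AlgSt.ofOverCat P) (BasedFunctor.comp (AlgSt.ofSpMap fst) e),
    isEquivOver_comp (isEquivOver_ofOverCat P)
      (isEquivOver_comp (AlgStImm.isEquivOver_ofSpMap (asIso fst)) he), ⟨γ⟩,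
    hr.property _ _ c sq, ?_, ?_, ⟨fun t => ?_⟩⟩
  · have := (stableBaseChange_locP (S := S) (P := @Flat)).respectsIso
    refine left_prop_of_locP_yon ?_
    rw [hc]
    exact (MorphismProperty.cancel_left_of_respectsIso _ _ _).2 hflat
  · have := (stableBaseChange_locP (S := S) (P := @LocallyOfFinitePresentation)).respectsIso
    refine left_prop_of_locP_yon ?_
    rw [hc]
    exact (MorphismProperty.cancel_left_of_respectsIso _ _ _).2 hlfp
  · obtain ⟨a, ha⟩ := hsurj (AlgSp.Points.schemeHomeo T t)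
    obtain ⟨b, hb⟩ := (AlgSp.Points.schemeHomeo P).surjective
      (AlgSp.Points.map (inv fst) a)
    refine ⟨b, (AlgSp.Points.schemeHomeo T).injective ?_⟩
    refine Eq.trans ?_ ha
    refine ((AlgSp.Points.map_yon_map_apply c b).symm.trans ?_)
    change AlgSp.Points.map ((AlgSp.yon S).map c) (AlgSp.Points.schemeHomeo P b) = _
    rw [hb, hc, ← AlgSp.Points.map_comp, IsIso.inv_hom_id_assoc]

/-- Every object comes from the chart after a finite locally free cover. -/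
theorem exists_cover (hX : FibCat.IsFibGrpd 𝒳.p) (hx : AlgSt.RepByAlgSpWith (FinCov S) x)
    (z : 𝒳.obj) : ∃ (P : Over S) (a : P ⟶ U) (c : P ⟶ 𝒳.p.obj z) (φ : x.obj (Over.mk a) ⟶ z),
      𝒳.p.map φ = eqToHom (x.w_obj _) ≫ c ∧
      IsFinite c.left ∧ Flat c.left ∧ LocallyOfFinitePresentation c.left ∧ Surjective c.left := by
  obtain ⟨P, c, E, -, ⟨γ⟩, h₁, h₂, h₃, h₄⟩ := exists_rep hx (overFunctor hX z rfl)
  obtain ⟨i, hi⟩ := overFunctor_eval hX z rfl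
  let o := E.obj (idObj P)
  let j := isoApp γ (idObj P)
  have hj := isVert_isoApp γ (idObj P)
  have hp : o.obj.snd.left = P := (fp_p_snd o).trans (E.w_obj (idObj P))
  let a : P ⟶ U := eqToHom hp.symm ≫ o.obj.snd.hom
  let k : (Over.mk a : (FibCat.overCat U).obj) ⟶ o.obj.snd := Over.homMk (eqToHom hp.symm) rfl
  let φ : x.obj (Over.mk a) ⟶ z :=
    x.map k ≫ o.obj.iso.inv ≫ (overFunctor hX z rfl).map (j.hom ≫ toId _) ≫ i.hom
  refine ⟨P, a, c, φ, ?_, h₁, h₂, h₃, h₄⟩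
  have ej : j.hom.left = eqToHom hj.obj_eq := hj.map_eq
  have ek : (FibCat.overCat U).p.map k = eqToHom hp.symm := rfl
  simp only [φ, Functor.map_comp, map_map, hi.map_eq, (IsVert.inv (fp_isVert o)).map_eq, ek]
  simp [AlgSt.overMap, toId, idObj]
  show eqToHom _ ≫ j.hom.left ≫ c = _
  rw [ej]
  simp

/-- Two lifts of the same morphism differ by an arrow of the chart. -/
theorem exists_arrow (hX : FibCat.IsFibGrpd 𝒳.p) {R : Over S} {ω : StkSlice.Arr x R}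
    (hω : StkSlice.Univ hX ω) {P : Over S} {a a' : P ⟶ U} {z : 𝒳.obj} {c : P ⟶ 𝒳.p.obj z}
    (φ : x.obj (Over.mk a) ⟶ z) (hφ : 𝒳.p.map φ = eqToHom (x.w_obj _) ≫ c)
    (φ' : x.obj (Over.mk a') ⟶ z) (hφ' : 𝒳.p.map φ' = eqToHom (x.w_obj _) ≫ c) :
    ∃ r : P ⟶ R, r ≫ ω.src = a ∧ r ≫ ω.tgt = a' := by
  obtain ⟨i, hi, -⟩ := exists_vert_iso_of_lifts hX φ φ'
    ((x.w_obj (Over.mk a)).trans (x.w_obj (Over.mk a')).symm) (by rw [hφ, hφ']; simp)
  let A : StkSlice.Arr x P := ⟨a, a', i.hom, hi⟩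
  exact ⟨StkSlice.arrHom hω A, StkSlice.arrHom_src hω A, StkSlice.arrHom_tgt hω A⟩

/-- Pulling back a lift. -/
theorem map_xMap_comp {P P' : Over S} {a : P ⟶ U} {z : 𝒳.obj} {c : P ⟶ 𝒳.p.obj z}
    (φ : x.obj (Over.mk a) ⟶ z) (hφ : 𝒳.p.map φ = eqToHom (x.w_obj _) ≫ c) (q : P' ⟶ P) :
    𝒳.p.map (StkSlice.Arr.xMap x q a ≫ φ) = eqToHom (x.w_obj _) ≫ q ≫ c := by
  rw [Functor.map_comp, StkSlice.Arr.xMap_p, hφ]
  simp

section Desc

variable {N : AlgSp.Sp S} (hX : FibCat.IsFibGrpd 𝒳.p) (hx : AlgSt.RepByAlgSpWith (FinCov S) x)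
  {R : Over S} {ω : StkSlice.Arr x R} (hω : StkSlice.Univ hX ω) (ψ : (AlgSp.yon S).obj U ⟶ N)
  (hψ : (AlgSp.yon S).map ω.tgt ≫ ψ = (AlgSp.yon S).map ω.src ≫ ψ)

/-- The value of a descended map at an object. -/
def IsDesc (x : FibCat.overCat U ⥤ᵇ 𝒳) (ψ : (AlgSp.yon S).obj U ⟶ N) (z : 𝒳.obj)
    (y : (AlgSp.yon S).obj (𝒳.p.obj z) ⟶ N) : Prop :=
  ∀ (P : Over S) (a : P ⟶ U) (c : P ⟶ 𝒳.p.obj z) (φ : x.obj (Over.mk a) ⟶ z),
    𝒳.p.map φ = eqToHom (x.w_obj _) ≫ c → (AlgSp.yon S).map c ≫ y = (AlgSp.yon S).map a ≫ ψ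

include hω hψ in
theorem value_eq {P : Over S} {a a' : P ⟶ U} {z : 𝒳.obj} {c : P ⟶ 𝒳.p.obj z}
    (φ : x.obj (Over.mk a) ⟶ z) (hφ : 𝒳.p.map φ = eqToHom (x.w_obj _) ≫ c)
    (φ' : x.obj (Over.mk a') ⟶ z) (hφ' : 𝒳.p.map φ' = eqToHom (x.w_obj _) ≫ c) :
    (AlgSp.yon S).map a ≫ ψ = (AlgSp.yon S).map a' ≫ ψ := by
  obtain ⟨r, rfl, rfl⟩ := exists_arrow hX hω φ hφ φ' hφ'
  rw [Functor.map_comp, Functor.map_comp, Category.assoc, Category.assoc, hψ]

include hX hx hω hψ in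
theorem existsUnique_isDesc (z : 𝒳.obj) : ∃! y, IsDesc x ψ z y := by
  obtain ⟨P₀, a₀, c₀, φ₀, hφ₀, h₁, h₂, h₃, h₄⟩ := exists_cover hX hx z
  obtain ⟨y, hy⟩ := AlgSp2.exists_glue_of_fppf c₀ ((AlgSp.yon S).map a₀ ≫ ψ) fun Z p q e => by
    rw [← Category.assoc, ← Category.assoc, ← Functor.map_comp, ← Functor.map_comp]
    exact value_eq hX hω ψ hψ _ (map_xMap_comp φ₀ hφ₀ p) (StkSlice.Arr.xMap x q a₀ ≫ φ₀)
      ((map_xMap_comp φ₀ hφ₀ q).trans (by rw [e]))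
  refine ⟨y, fun P a c φ hφ => ?_, fun y' hy' =>
    AlgSp2.hom_ext_of_fppf c₀ ((hy' P₀ a₀ c₀ φ₀ hφ₀).trans hy.symm)⟩
  let W : Over S := Over.mk (pullback.fst c.left c₀.left ≫ P.hom)
  let p₁ : W ⟶ P := Over.homMk (pullback.fst c.left c₀.left) rfl
  let p₂ : W ⟶ P₀ := Over.homMk (pullback.snd c.left c₀.left) (by
    show pullback.snd _ _ ≫ P₀.hom = pullback.fst _ _ ≫ P.hom
    rw [← Over.w c, ← Over.w c₀, ← Category.assoc, ← pullback.condition, Category.assoc])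
  have hp : p₁ ≫ c = p₂ ≫ c₀ := Over.OverMorphism.ext pullback.condition
  have : Surjective p₁.left := inferInstanceAs (Surjective (pullback.fst c.left c₀.left))
  have : Flat p₁.left := inferInstanceAs (Flat (pullback.fst c.left c₀.left))
  have : LocallyOfFinitePresentation p₁.left :=
    inferInstanceAs (LocallyOfFinitePresentation (pullback.fst c.left c₀.left))
  refine AlgSp2.hom_ext_of_fppf p₁ ?_
  rw [← Category.assoc, ← Functor.map_comp, hp, Functor.map_comp, Category.assoc, hy, ← Category.assoc,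
    ← Category.assoc, ← Functor.map_comp, ← Functor.map_comp]
  exact (value_eq hX hω ψ hψ _ (map_xMap_comp φ hφ p₁) (StkSlice.Arr.xMap x p₂ a₀ ≫ φ₀)
    ((map_xMap_comp φ₀ hφ₀ p₂).trans (by rw [hp]))).symm

/-- The descended sections. -/
def descVal (z : 𝒳.obj) : (AlgSp.yon S).obj (𝒳.p.obj z) ⟶ N :=
  (existsUnique_isDesc hX hx hω ψ hψ z).choose

theorem descVal_spec (z : 𝒳.obj) : IsDesc x ψ z (descVal hX hx hω ψ hψ z) :=
  (existsUnique_isDesc hX hx hω ψ hψ z).choose_spec.1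

theorem descVal_map {a b : 𝒳.obj} (f : a ⟶ b) :
    N.obj.map (𝒳.p.map f).op (yEquiv (descVal hX hx hω ψ hψ b)) =
      yEquiv (descVal hX hx hω ψ hψ a) := by
  apply yEquiv.symm.injective
  rw [← yon_map_yEquiv_symm, Equiv.symm_apply_apply, Equiv.symm_apply_apply]
  refine (existsUnique_isDesc hX hx hω ψ hψ a).choose_spec.2 _ fun P k c φ hφ => ?_
  rw [← Category.assoc, ← Functor.map_comp]
  exact descVal_spec hX hx hω ψ hψ b P k (c ≫ 𝒳.p.map f) (φ ≫ f)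
    (by rw [Functor.map_comp, hφ, Category.assoc])

/-- The descended functor. -/
def descFunctor : 𝒳 ⥤ᵇ AlgSt.ofSp N :=
  sigmaFunctor (fun z => yEquiv (descVal hX hx hω ψ hψ z))
    (fun {_ _} f => descVal_map hX hx hω ψ hψ f)

theorem homOf_descFunctor (z : 𝒳.obj) :
    homOf (descFunctor hX hx hω ψ hψ) z = descVal hX hx hω ψ hψ z := by
  rw [homOf, descFunctor, secOf_sigmaFunctor, Equiv.symm_apply_apply]

theorem isDesc_homOf (z : 𝒳.obj) : IsDesc x ψ z (homOf (descFunctor hX hx hω ψ hψ) z) :=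
  homOf_descFunctor hX hx hω ψ hψ z ▸ descVal_spec hX hx hω ψ hψ z

end Desc

/-- The value of a functor at the pullbacks of the chart. -/
theorem homOf_chart {N : AlgSp.Sp S} (Φ : 𝒳 ⥤ᵇ AlgSt.ofSp N) {P : Over S} (a : P ⟶ U) :
    (AlgSp.yon S).map (eqToHom (x.w_obj (Over.mk a)).symm) ≫ homOf Φ (x.obj (Over.mk a)) =
      (AlgSp.yon S).map a ≫ ((AlgSp.yon S).map (eqToHom (x.w_obj (idObj U)).symm) ≫
        homOf Φ (x.obj (idObj U))) := by
  have h := homOf_map' Φ (x.map (toId (Over.mk a : (FibCat.overCat U).obj))) (x.w_obj (Over.mk a))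
    (c := a ≫ eqToHom (x.w_obj (idObj U)).symm) (map_map x _)
  rw [Functor.map_comp, Category.assoc] at h
  exact h.symm

end Groth.KeelMori
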