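import Groth.Agent.GitQuot.KeelMori.Functorial

/-!
# The square of moduli spaces of an etale morphism preserving automorphism groups is cartesian
-/

set_option autoImplicit false
set_option backward.isDefEq.respectTransparency false
set_option backward.isDefEq.respectTransparency.types false

universe u

open CategoryTheory CategoryTheory.Limits AlgebraicGeometry Opposite
open Groth.StkBase Groth.AlgStBasic Groth.AlgSpBasic

noncomputable section

namespace Groth.KeelMori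

variable {S : Scheme.{u}} {𝒳 𝒳' : AlgSt.Cat S}

theorem exists_isTwoCartOver_moduli (h𝒳 : AlgSt.IsAlgStack Scheme.fppfPrecoverage 𝒳)
    (hI : AlgSt.RepByAlgSpWith AlgSp.IsFiniteMor (FibCat.inertiaToBase (FibCat.toSelf 𝒳)))
    (h𝒳' : AlgSt.IsAlgStack Scheme.fppfPrecoverage 𝒳') (h : 𝒳' ⥤ᵇ 𝒳)
    (het : AlgSt.RepByAlgSpWith AlgSp.IsEtaleMor h) (hsep : AlgSt.IsSeparatedMor h)
    (haut : ∀ x' : 𝒳'.obj, Function.Bijective (Gerb.autMap h x'))
    {M : AlgSp.Sp S} {π : 𝒳 ⥤ᵇ AlgSt.ofSp M} (hπ : AlgSt.IsCatModuli π)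
    {M' : AlgSp.Sp S} {π' : 𝒳' ⥤ᵇ AlgSt.ofSp M'} (hπ' : AlgSt.IsCatModuli π') :
    ∃ (g : M' ⟶ M) (e : BasedFunctor.comp h π ≅ BasedFunctor.comp π' (AlgSt.ofSpMap g)),
      AlgSp.IsEtaleMor g ∧ AlgSp.IsSeparatedMor g ∧ FibCat.IsTwoCartOver h π' e := by
  have hrep : AlgSt.RepByAlgSp1 h := repWith_repByAlgSp1 het
  obtain ⟨ι, P, hcov⟩ := exists_pieces h𝒳 hI
  obtain ⟨ι', P', hcov'⟩ := exists_pieces h𝒳' (finite_inertia_of h𝒳 h𝒳' h hrep haut hI)
  obtain ⟨θ, hθ⟩ := exists_iso_of_isCatModuli (isUnifCatModuli_gluedπ h𝒳 P hcov).1 hπ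
  obtain ⟨θ', hθ'⟩ := exists_iso_of_isCatModuli (isUnifCatModuli_gluedπ h𝒳' P' hcov').1 hπ'
  have k : ∀ {T : Over S} (a : 𝒳.obj) (ha : 𝒳.p.obj a = T),
      valAt π a ha = valAt (gluedπ h𝒳 P hcov) a ha ≫ θ.hom := fun a ha => by
    simp only [valAt, hθ, Category.assoc]
  have k' : ∀ {T : Over S} (a : 𝒳'.obj) (ha : 𝒳'.p.obj a = T),
      valAt π' a ha = valAt (gluedπ h𝒳' P' hcov') a ha ≫ θ'.hom := fun a ha => by
    simp only [valAt, hθ', Category.assoc]
  obtain ⟨g₀, hg'⟩ := exists_factor (isUnifCatModuli_gluedπ h𝒳' P' hcov').1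
    (isAlgSpace_gluedM h𝒳 P) (BasedFunctor.comp h (gluedπ h𝒳 P hcov))
  have hg₀ : ∀ {T : Over S} (w : 𝒳'.obj) (hw : 𝒳'.p.obj w = T),
      valAt (gluedπ h𝒳 P hcov) (h.obj w) ((h.w_obj w).trans hw) =
        valAt (gluedπ h𝒳' P' hcov') w hw ≫ g₀ := fun w hw => (valAt_comp h _ w hw).symm.trans (hg' w hw)
  obtain ⟨het₀, hsep₀⟩ := etale_sep_induced h𝒳 P hcov h𝒳' P' hcov' h het hsep haut g₀ hg₀
  let g : M' ⟶ M := θ'.inv ≫ g₀ ≫ θ.hom
  obtain ⟨e⟩ : Nonempty (BasedFunctor.comp h π ≅ BasedFunctor.comp π' (AlgSt.ofSpMap g)) :=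
    nonempty_iso_of_homOf fun z => by
      have e₁ : valAt (BasedFunctor.comp h π) z rfl = valAt (BasedFunctor.comp π' (AlgSt.ofSpMap g)) z rfl := by
        rw [valAt_comp, valAt_ofSpMap, k, k', hg₀ z rfl]
        simp only [g, Category.assoc, Iso.hom_inv_id_assoc]
      simpa only [valAt, eqToHom_refl, CategoryTheory.Functor.map_id, Category.id_comp] using e₁
  refine ⟨g, e, ?_, ?_, ?_⟩
  · have := (stableBaseChange_locP (S := S) (P := @Etale)).respectsIso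
    refine isEtaleMor_of_locP hπ.1 ?_
    exact (MorphismProperty.cancel_left_of_respectsIso _ θ'.inv _).2
      ((MorphismProperty.cancel_right_of_respectsIso _ g₀ θ.hom).2 (locP_of_isEtaleMor het₀))
  · exact ColimitSep.isSeparatedMor_comp (ColimitSep.isSeparatedMor_of_mono _)
      (ColimitSep.isSeparatedMor_comp hsep₀ (ColimitSep.isSeparatedMor_of_mono _))
  · refine isTwoCartOver_of_local h𝒳'.isStack h𝒳.isStack (StkGerb.Section.isStack_ofSp M')
      (isPrestack_of_isStack (StkGerb.Section.isStack_ofSp M))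
      (faithful_of_repByAlgSp1 h𝒳'.isStack.1 h𝒳.isStack.1 h hrep) e
      (fun hw hw' β hβ hv => exists_hom_induced h𝒳 P hcov h𝒳' P' hcov' h het hsep haut g₀ hg₀ hw hw' β hβ
        (by rwa [k', k', cancel_mono] at hv)) fun a m hm => ?_
    obtain ⟨R, hR, hR'⟩ := exists_local_lift_induced h𝒳 P hcov h𝒳' P' hcov' h het hsep haut g₀ hg₀ a
      (m ≫ θ'.inv) (by
        have e₁ := hm
        rw [k] at e₁
        rw [← cancel_mono θ.hom, e₁]
        simp [g])
    refine ⟨R, hR, fun V f hf => ?_⟩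
    obtain ⟨w, hw, α, hα, hv⟩ := hR' f hf
    exact ⟨w, hw, α, hα, by rw [k', hv, Category.assoc, Category.assoc, θ'.inv_hom_id, Category.comp_id]⟩

end Groth.KeelMori
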