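import Groth.Agent.GitQuot.KeelMori.GluedProps
import Groth.Agent.AlgStBasic.StUniv

/-!
# Points of functors to schemes
-/

set_option autoImplicit false
set_option backward.isDefEq.respectTransparency false
set_option backward.isDefEq.respectTransparency.types false

universe u

open CategoryTheory CategoryTheory.Limits AlgebraicGeometry Opposite Topology
open Groth.StkBase Groth.AlgStBasic Groth.AlgSpBasic

noncomputable section

namespace Groth.KeelMori

variable {S : Scheme.{u}} {𝒳 : AlgSt.Cat S}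

/-- The point of an object of a chart over a field. -/
theorem mk_chart_obj {U : Over S} (x : FibCat.overCat U ⥤ᵇ 𝒳) {K : Type u} [Field K]
    {s : Spec (CommRingCat.of K) ⟶ S} (a : Over.mk s ⟶ U) :
    AlgSt.Points.mk
        ({ K := K, str := s, obj := x.obj (Over.mk a), lies := x.w_obj _ } : AlgSt.FPt 𝒳) =
      AlgSt.Points.ofChart x (a.left (IsLocalRing.closedPoint K)) := by
  rw [← ofChart_overMap]
  let b : Over.mk ((Over.mk s).left.fromSpecResidueField (IsLocalRing.closedPoint K) ≫ s) ⟶ Over.mk s :=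
    Over.homMk ((Over.mk s).left.fromSpecResidueField (IsLocalRing.closedPoint K)) rfl
  exact (mk_eq_of_hom (x.map (Over.homMk b rfl :
    ((AlgSt.overMap a).obj (Over.mk b) : (FibCat.overCat U).obj) ⟶ Over.mk a))).symm

/-- The image of a point in a scheme is the image of the closed point under the value. -/
theorem map_mk_eq_ofChart {Y : Over S} (Φ : 𝒳 ⥤ᵇ AlgSt.ofSch Y) {K : Type u} [Field K]
    {s : Spec (CommRingCat.of K) ⟶ S} {a : 𝒳.obj} (ha : 𝒳.p.obj a = Over.mk s) {k : Over.mk s ⟶ Y}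
    (hk : valAt Φ a ha = (AlgSp.yon S).map k) :
    AlgSt.Points.map Φ (AlgSt.Points.mk ({ K := K, str := s, obj := a, lies := ha } : AlgSt.FPt 𝒳)) =
      AlgSt.Points.ofChart (AlgSt.ofOverCat Y) (k.left (IsLocalRing.closedPoint K)) := by
  rw [← mk_chart_obj (AlgSt.ofOverCat Y) k]
  have eb : yEquiv.symm ((AlgSt.ofOverCat Y).obj (Over.mk k)).sec = (AlgSp.yon S).map k :=
    yEquiv.symm_apply_eq.2 (by rfl)
  obtain ⟨f, -⟩ := exists_elt_hom (Φ.obj a) ((AlgSt.ofOverCat Y).obj (Over.mk k))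
    (eqToHom ((Φ.w_obj a).trans ha)) (by
      rw [eb, ← hk, valAt, homOf_eq, ← Category.assoc, ← Category.assoc, ← Functor.map_comp,
        ← Functor.map_comp, eqToHom_trans, eqToHom_trans, eqToHom_refl, CategoryTheory.Functor.map_id,
        Category.id_comp]
      rfl)
  exact mk_eq_of_hom (p := AlgSt.FPt.map Φ ⟨K, s, a, ha⟩)
    (q := ⟨K, s, (AlgSt.ofOverCat Y).obj (Over.mk k), (AlgSt.ofOverCat Y).w_obj _⟩) f

/-- The value of an object of the fibre category. -/
theorem valAt_eq_fibSec {Y : Over S} (Φ : 𝒳 ⥤ᵇ AlgSt.ofSch Y) {T : Over S} (x : 𝒳.p.Fiber T) :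
    valAt Φ x.1 x.2 = (AlgSp.yon S).map (AlgSt.fibSec Φ x).down := by
  have key : valAt Φ x.1 x.2 = yEquiv.symm (AlgSt.fibSec Φ x) := by
    rw [valAt, homOf_eq, ← Category.assoc, ← Functor.map_comp, eqToHom_trans, yon_map_yEquiv_symm]
    rfl
  rw [key]
  exact yEquiv.symm_apply_eq.2 (by rfl)

/-- A universal homeomorphism is a homeomorphism on points. -/
theorem isHomeomorph_map_of_isUnivHomeo (hX : AlgSt.IsAlgStack Scheme.fppfPrecoverage 𝒳)
    {M : AlgSp.Sp S} (hM : AlgSp.IsAlgSpace M) {π : 𝒳 ⥤ᵇ AlgSt.ofSp M}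
    (huh : AlgSt.IsUnivHomeo Scheme.fppfPrecoverage π) : IsHomeomorph (AlgSt.Points.map π) := by
  have hMs := isAlgStack_ofSp hM
  have h₁ := huh _ hMs (BasedFunctor.id _)
  let E := FibCat.fpSnd (BasedFunctor.id (AlgSt.ofSp M)) π
  have hB := isAlgStack_fp hMs.isStack hMs.diag hMs hX (BasedFunctor.id _) π
  have hEh := isHomeomorph_map_of_isEquivOver hB hX (isEquivOver_fpSnd_id π : FibCat.IsEquivOver E)
  have e : ∀ w, AlgSt.Points.map π (AlgSt.Points.map E w) =
      AlgSt.Points.map (FibCat.fpFst (BasedFunctor.id (AlgSt.ofSp M)) π) w := fun w =>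
    (AlgStBasic.map_comp E π w).symm.trans
      (congrFun (map_eq_of_iso (FibCat.fpIso (BasedFunctor.id (AlgSt.ofSp M)) π)) w).symm
  refine isHomeomorph_iff_continuous_isClosedMap_bijective.2 ⟨continuous_map hMs π, fun C hC => ?_,
    fun a b hab => ?_, fun z => ?_⟩
  · rw [← hEh.surjective.image_preimage C, Set.image_image, Set.image_congr (g := AlgSt.Points.map (FibCat.fpFst (BasedFunctor.id (AlgSt.ofSp M)) π)) fun w _ => e w]
    exact h₁.isClosedMap _ (hC.preimage hEh.continuous)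
  · obtain ⟨a, rfl⟩ := hEh.surjective a
    obtain ⟨b, rfl⟩ := hEh.surjective b
    rw [e, e] at hab
    rw [h₁.injective hab]
  · obtain ⟨w, hw⟩ := h₁.surjective z
    exact ⟨AlgSt.Points.map E w, (e w).trans hw⟩

end Groth.KeelMori
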