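import Groth.Agent.GitQuot.KeelMori.FinCovPieces
import Groth.Agent.GitQuot.KeelMori.FunctorialMain
import Groth.Agent.GitQuot.KeelMori.AutLocus
import Groth.Agent.GitQuot.KeelMori.PointsSch

/-!
# The map of coarse moduli schemes is etale at points where automorphism groups are preserved
-/

set_option autoImplicit false
set_option backward.isDefEq.respectTransparency false
set_option backward.isDefEq.respectTransparency.types false

universe u

open CategoryTheory CategoryTheory.Limits AlgebraicGeometry Opposite Topology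
open Groth.StkBase Groth.AlgStBasic Groth.AlgSpBasic Groth.GitQuot.StkInertia

noncomputable section

namespace Groth.KeelMori

variable {S : Scheme.{u}} {𝒳 𝒳' : AlgSt.Cat S}

/-- A separated morphism into a stack with finite diagonal has a source with finite inertia. -/
theorem finite_inertia_of_sep (h𝒳 : AlgSt.IsAlgStack Scheme.fppfPrecoverage 𝒳)
    (h𝒳' : AlgSt.IsAlgStack Scheme.fppfPrecoverage 𝒳') (h : 𝒳' ⥤ᵇ 𝒳) (hrep : AlgSt.RepByAlgSp1 h)
    (hsep : AlgSt.RepByAlgSpWith AlgSp.IsSeparatedMor h)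
    (hfin : AlgSt.RepByAlgSpWith AlgSp.IsFiniteMor (FibCat.diag (FibCat.toSelf 𝒳))) :
    AlgSt.RepByAlgSpWith AlgSp.IsFiniteMor (FibCat.inertiaToBase (FibCat.toSelf 𝒳')) := by
  refine repWith_inertiaToBase _ (repWith_diag_of_iso (selfIso (BasedFunctor.comp h (FibCat.toSelf 𝒳))
    (FibCat.toSelf 𝒳')) ?_)
  refine repWith_diag_comp h𝒳'.isStack.1 h𝒳.isStack.1 stableBaseChange_isFiniteMor ?_
    (descendsAlongAtlas_of_isLocalOnBase isLocalOnBase_fppf_isFiniteMor) ?_ hfin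
  · rw [isFiniteMor_eq]; exact stableComp_repWith _
  · exact repWith_mono (fun _ _ _ _ _ hφ => isFiniteMor_iff_repWith.2
      (Groth.AlgSpBasic.repWith_mono (fun _ _ j (_ : IsClosedImmersion j) => (inferInstance : IsFinite j)) hφ))
      (((tfae_separated hrep).out 0 1).1 hsep)

theorem etale_at_of_autMap_surjective (h𝒰 : AlgSt.IsAlgStack Scheme.fppfPrecoverage 𝒳)
    (h𝒰' : AlgSt.IsAlgStack Scheme.fppfPrecoverage 𝒳') {U : Over S}
    (hU : RedSub.IsLocallyQuasiProjective U) {c : FibCat.overCat U ⥤ᵇ 𝒳}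
    (hc : AlgSt.RepByAlgSpWith (FinCov S) c) (h : 𝒳' ⥤ᵇ 𝒳)
    (hh : AlgSt.RepByAlgSpWith (AlgSp.IsEtaleMor ⊓ AlgSp.IsSeparatedMor) h)
    {Y Y' : Over S} (π : 𝒳 ⥤ᵇ AlgSt.ofSch Y) (hπ : AlgSt.IsCatModuli π)
    (π' : 𝒳' ⥤ᵇ AlgSt.ofSch Y') (hπ' : AlgSt.IsCatModuli π') (g : Y' ⟶ Y)
    (hg : Nonempty (BasedFunctor.comp π' (AlgSt.ofSpMap ((AlgSp.yon S).map g)) ≅ BasedFunctor.comp h π))
    (Ω : Type u) [Field Ω] [IsAlgClosed Ω] (t : Spec (CommRingCat.of Ω) ⟶ S)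
    (x' : 𝒳'.p.Fiber (Over.mk t)) (hx : Function.Surjective (Gerb.autMap h x'.1)) :
    ∃ W : Y'.left.Opens, (AlgSt.fibSec π' x').down.left (IsLocalRing.closedPoint Ω) ∈ W ∧
      Etale (W.ι ≫ g.left) := by
  have hX := h𝒰.isStack.1
  have hX' := h𝒰'.isStack.1
  have := isSeparated_of_locallyQuasiProjective hU
  have hfin := repWith_finite_diag_of_finCov h𝒰 hc
  have hI : AlgSt.RepByAlgSpWith AlgSp.IsFiniteMor (FibCat.inertiaToBase (FibCat.toSelf 𝒳)) :=
    repWith_inertiaToBase _ hfin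
  have hrep : AlgSt.RepByAlgSp1 h := repWith_repByAlgSp1 hh
  have hsep : AlgSt.RepByAlgSpWith AlgSp.IsSeparatedMor h := repWith_mono (fun _ _ _ _ _ q => q.2) hh
  have hI' := finite_inertia_of_sep h𝒰 h𝒰' h hrep hsep hfin
  obtain ⟨ι, P, hcov⟩ := exists_pieces h𝒰' hI'
  have hu := isUnifCatModuli_gluedπ h𝒰' P hcov
  obtain ⟨θ, hθ⟩ := exists_iso_of_isCatModuli hu.1 hπ'
  let π₁ : 𝒳' ⥤ᵇ AlgSt.ofSch Y' := BasedFunctor.comp (gluedπ h𝒰' P hcov) (AlgSt.ofSpMap θ.hom)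
  obtain ⟨ε⟩ : Nonempty (π₁ ≅ π') := nonempty_iso_of_homOf fun z => by
    rw [homOf_comp]; exact (hθ z).symm
  have hY' : AlgSp.IsAlgSpace ((AlgSp.yon S).obj Y') := AlgSp.IsAlgSpace.yon_obj _
  have hY's := isAlgStack_ofSp hY'
  have hhom : IsHomeomorph (AlgSt.Points.map π₁) := isHomeomorph_map_of_isUnivHomeo h𝒰' hY'
    (isUnivHomeo_transfer h𝒰' (isAlgSpace_gluedM h𝒰' P) hY' (isUnivHomeo_gluedπ h𝒰' P hcov) θ)
  let T := autLocus h
  have hT : IsOpen T := isOpen_autLocus hX' hX hI hh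
  let χ := AlgSt.ofOverCat Y'
  let V : Y'.left.Opens := ⟨AlgSt.Points.ofChart χ ⁻¹' (AlgSt.Points.map π₁ '' T),
    (hhom.isOpenMap _ hT).preimage (continuous_ofChart hY's χ)⟩
  -- the point
  have hpt : (AlgSt.fibSec π' x').down.left (IsLocalRing.closedPoint Ω) ∈ V := by
    let p : AlgSt.FPt 𝒳' := { K := Ω, str := t, obj := x'.1, lies := x'.2 }
    have : IsAlgClosed p.K := inferInstanceAs (IsAlgClosed Ω)
    have hfaith := faithful_of_repByAlgSp1 hX' hX h hrep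
    have hpT : AlgSt.Points.mk p ∈ T := ⟨p, this, rfl, liftsAut_of_bijective hX ⟨fun a b e =>
      Aut.ext (Functor.Fiber.hom_ext (hfaith.map_injective
        (congrArg (fun c : Gerb.AutO (h.obj x'.1) => c.hom.1) e))), hx⟩⟩
    show AlgSt.Points.ofChart χ _ ∈ AlgSt.Points.map π₁ '' T
    exact ⟨_, hpT, map_mk_eq_ofChart π₁ x'.2 ((valAt_of_iso ε x'.1 x'.2).trans (valAt_eq_fibSec π' x'))⟩
  refine ⟨V, hpt, ?_⟩
  -- the open substack
  let j : openObj V ⟶ Y' := openIncl V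
  let jY := (AlgSp.yon S).map j
  have hjo : AlgSp.RepWith @IsOpenImmersion jY :=
    (AlgSp.repWith_yon_map_iff _ j).2 (inferInstanceAs (IsOpenImmersion V.ι))
  have hjflat : AlgSp.LocP @Flat jY :=
    locP_of_repWith ((AlgSp.repWith_yon_map_iff @Flat j).2 (inferInstanceAs (Flat V.ι)))
  have hcatZ := isUnifCatModuli_transfer_fp hu θ (AlgSp.IsAlgSpace.yon_obj (openObj V)) jY hjflat
  let J := AlgSt.ofSpMap jY
  let Z := FibCat.fp J π₁
  let pZ : Z ⥤ᵇ AlgSt.ofSp ((AlgSp.yon S).obj (openObj V)) := FibCat.fpFst J π₁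
  let i := FibCat.fpSnd J π₁
  have hVs := isAlgStack_ofSp (AlgSp.IsAlgSpace.yon_obj (openObj V))
  have hZ : AlgSt.IsAlgStack Scheme.fppfPrecoverage Z := isAlgStack_fp hY's.isStack hY's.diag hVs h𝒰' J π₁
  have hJ : AlgSt.RepByAlgSpWith (AlgSp.LocP @Etale ⊓ AlgSp.IsSeparatedMor) J :=
    repWith_mono (fun _ _ f _ _ hf => by
      have : Mono f := Groth.AlgSpBasic.mono_of_repWith
        (fun _ _ g (_ : IsOpenImmersion g) => (inferInstance : Mono g)) hf
      exact ⟨locP_of_repWith (Groth.AlgSpBasic.repWith_mono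
        (fun _ _ g (_ : IsOpenImmersion g) => (inferInstance : Etale g)) hf),
        ColimitSep.isSeparatedMor_of_mono f⟩)
      (repWith_ofPshMap_of_stable (F := ⟨_, AlgSp.IsAlgSpace.yon_obj (openObj V)⟩)
        (G := ⟨_, hY'⟩) (stableBaseChange_repWith _) jY hjo)
  have hi := repWith_fpSnd J π₁ hJ
  have hh₂ : AlgSt.RepByAlgSpWith (AlgSp.LocP @Etale ⊓ AlgSp.IsSeparatedMor) h :=
    repWith_mono (fun _ _ _ _ _ q => ⟨locP_of_isEtaleMor q.1, q.2⟩) hh
  let h₁ := BasedFunctor.comp i h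
  have hh₁ := repWith_etaleSep_comp hZ.isStack.1 hX' hi hh₂
  have hmem : ∀ z : Z.obj, inPts T z.obj.snd := by
    intro z r hr
    obtain ⟨φ⟩ := hr
    let o := z.obj.fst
    let a : o.base ⟶ openObj V := o.sec.down
    let b : Over.mk r.str ⟶ o.base :=
      eqToHom r.lies.symm ≫ 𝒳'.p.map φ ≫ eqToHom (fp_p_snd z)
    have e₁ : valAt π₁ r.obj r.lies = (AlgSp.yon S).map b ≫ valAt π₁ z.obj.snd (fp_p_snd z) :=
      valAt_map π₁ φ (by simp [b])
    have e₂ : valAt π₁ z.obj.snd (fp_p_snd z) = valAt pZ z (rfl : Z.p.obj z = o.base) ≫ jY :=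
      ((valAt_ofSpMap pZ jY z rfl).symm.trans
        ((valAt_of_iso (FibCat.fpIso J π₁) z rfl).trans (valAt_comp i π₁ z rfl))).symm
    have e₃ : valAt pZ z (rfl : Z.p.obj z = o.base) = (AlgSp.yon S).map a := by
      show (AlgSp.yon S).map (eqToHom rfl) ≫ homOf pZ z = _
      rw [eqToHom_refl, CategoryTheory.Functor.map_id, Category.id_comp, homOf_fpFst]
      exact yEquiv.symm_apply_eq.2 (by rfl)
    have e₄ : valAt π₁ r.obj r.lies = (AlgSp.yon S).map ((b ≫ a) ≫ j) := by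
      rw [e₁, e₂, e₃, ← Category.assoc, ← Functor.map_comp]
      exact ((AlgSp.yon S).map_comp (b ≫ a) j).symm
    have hq : ((b ≫ a) ≫ j).left (IsLocalRing.closedPoint r.K) ∈ V :=
      ((b ≫ a).left (IsLocalRing.closedPoint r.K)).2
    change AlgSt.Points.ofChart χ _ ∈ AlgSt.Points.map π₁ '' T at hq
    rw [← map_mk_eq_ofChart π₁ r.lies e₄] at hq
    obtain ⟨w, hw, e⟩ := hq
    exact hhom.injective e ▸ hw
  have haut₁ : ∀ z : Z.obj, Function.Bijective (Gerb.autMap h₁ z) :=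
    bijective_autMap_of hZ.isStack.1 (faithful_of_repByAlgSp1 hZ.isStack.1 hX h₁ (repWith_repByAlgSp1 hh₁))
      fun z β hβ => by
        obtain ⟨α, hα, he⟩ := liftsAut_of_inPts hX' hX hI hh (hmem z) β hβ
        exact ⟨fpHom (x := z) (y := z) (𝟙 z.obj.fst) α
          (elt_eq_of_isVert ((isVert_map (F := J) (isVert_id _)).comp (fp_isVert z))
            ((fp_isVert z).comp (isVert_map hα))), (isVert_fp_iff _).2 (isVert_id _), he⟩
  obtain ⟨g₀, e, hg₀, -, -⟩ := exists_isTwoCartOver_moduli h𝒰 hI hZ h₁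
    (repWith_mono (fun _ _ _ _ hB q => isEtaleMor_of_locP hB q.1) hh₁)
    (((tfae_separated (repWith_repByAlgSp1 hh₁)).out 0 2).1 (repWith_mono (fun _ _ _ _ _ q => q.2) hh₁))
    haut₁ hπ (π' := pZ) hcatZ
  obtain ⟨γ⟩ := hg
  have hgeq : g₀ = (AlgSp.yon S).map (j ≫ g) := hom_ext_of_moduli (π := pZ) hcatZ
    (AlgSp.IsAlgSpace.yon_obj Y) fun z => by
      rw [← valAt_comm e z rfl, Functor.map_comp, ← Category.assoc, ← valAt_ofSpMap,
        valAt_of_iso (FibCat.fpIso J π₁), valAt_comp, valAt_of_iso ε, ← valAt_ofSpMap,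
        valAt_of_iso γ, valAt_comp]
      rfl
  rw [hgeq] at hg₀
  exact (left_prop_of_locP_yon (P := @Etale) (locP_of_isEtaleMor hg₀) : Etale (j ≫ g).left)

end Groth.KeelMori
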