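import Groth.Agent.GitQuot.KeelMori.Props
import Groth.Agent.GitQuot.KeelMori.AutLocus
import Groth.Agent.AlgStCover.WellNighSpace
import Groth.Agent.AlgStCover.WellNighAffine
import Groth.Agent.AlgSp2.AffineRows

/-!
# Arrows of a chart and arrows of its base change along a stabilizer preserving etale morphism
-/

set_option autoImplicit false
set_option backward.isDefEq.respectTransparency false
set_option backward.isDefEq.respectTransparency.types false

universe u

open CategoryTheory CategoryTheory.Limits AlgebraicGeometry Opposite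
open Groth.StkBase Groth.AlgStBasic Groth.AlgSpBasic Groth.StkSlice

noncomputable section

namespace Groth.KeelMori

variable {S : Scheme.{u}} {𝒳 𝒳' : AlgSt.Cat S} {U U' : Over S} {x : FibCat.overCat U ⥤ᵇ 𝒳}
  {h : 𝒳' ⥤ᵇ 𝒳} {E₀ : FibCat.overCat U' ⥤ᵇ FibCat.fp x h} {u : U' ⟶ U}
  (α : BasedFunctor.comp E₀ (FibCat.fpFst x h) ≅ AlgSt.overMap u)

/-- The chart of the source. -/
abbrev bcChart (E₀ : FibCat.overCat U' ⥤ᵇ FibCat.fp x h) : FibCat.overCat U' ⥤ᵇ 𝒳' :=
  BasedFunctor.comp E₀ (FibCat.fpSnd x h)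

/-- The comparison of the two charts. -/
def bcIso : BasedFunctor.comp (AlgSt.overMap u) x ≅ BasedFunctor.comp (bcChart E₀) h :=
  (whiskerRightIso α.symm x).trans (whiskerLeftIso E₀ (FibCat.fpIso x h))

/-- The comparison at a point. -/
def kap {T : Over S} (a : T ⟶ U') :
    x.obj (Over.mk (a ≫ u)) ≅ h.obj ((bcChart E₀).obj (Over.mk a)) := isoApp (bcIso α) (Over.mk a)

theorem isVert_kap {T : Over S} (a : T ⟶ U') : IsVert 𝒳.p (kap α a).hom := isVert_isoApp _ _

theorem kap_hom {T : Over S} (a : T ⟶ U') :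
    (kap α a).hom = x.map (isoApp α (Over.mk a)).inv ≫ (E₀.obj (Over.mk a)).obj.iso.hom := by
  simp [kap, bcIso]

theorem kap_nat {g g' : (FibCat.overCat U').obj} (m : g ⟶ g') :
    x.map ((AlgSt.overMap u).map m) ≫ (isoApp (bcIso α) g').hom =
      (isoApp (bcIso α) g).hom ≫ h.map ((bcChart E₀).map m) :=
  isoApp_naturality (bcIso α) m

/-- The image of an arrow. -/
def push {T : Over S} (A : Arr (bcChart E₀) T) : Arr x T where
  src := A.src ≫ u
  tgt := A.tgt ≫ u
  hom := (kap α A.src).hom ≫ h.map A.hom ≫ (kap α A.tgt).inv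
  vert := (isVert_kap α A.src).comp ((isVert_map A.vert).comp (IsVert.inv (isVert_kap α A.tgt)))

@[simp] theorem push_src {T : Over S} (A : Arr (bcChart E₀) T) : (push α A).src = A.src ≫ u := rfl

@[simp] theorem push_tgt {T : Over S} (A : Arr (bcChart E₀) T) : (push α A).tgt = A.tgt ≫ u := rfl

section Functorial

variable {hX : FibCat.IsFibGrpd 𝒳.p} {hX' : FibCat.IsFibGrpd 𝒳'.p}

theorem push_pull {T T' : Over S} (r : T' ⟶ T) (A : Arr (bcChart E₀) T) :
    push α (A.pull hX' r) = (push α A).pull hX r := by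
  refine Arr.pull_eq hX r
    (fpHom (x := (push α (A.pull hX' r)).toFp hX) (y := (push α A).toFp hX)
      ((AlgSt.overMap u).map (Over.homMk r rfl : Over.mk (r ≫ A.src) ⟶ Over.mk A.src))
      ((AlgSt.overMap u).map (Over.homMk r rfl : Over.mk (r ≫ A.tgt) ⟶ Over.mk A.tgt)) ?_) rfl
  show x.map _ ≫ (kap α A.src).hom ≫ h.map A.hom ≫ (kap α A.tgt).inv =
    ((kap α (r ≫ A.src)).hom ≫ h.map (A.pull hX' r).hom ≫ (kap α (r ≫ A.tgt)).inv) ≫ x.map _
  rw [← cancel_mono (kap α A.tgt).hom]
  simp only [Category.assoc, Iso.inv_hom_id, Category.comp_id]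
  erw [kap_nat α (Over.homMk r rfl : Over.mk (r ≫ A.tgt) ⟶ Over.mk A.tgt)]
  rw [← Category.assoc]
  erw [kap_nat α (Over.homMk r rfl : Over.mk (r ≫ A.src) ⟶ Over.mk A.src)]
  simp only [kap, Category.assoc, Iso.inv_hom_id_assoc]
  congr 1
  rw [← Functor.map_comp, ← Functor.map_comp]
  exact congrArg h.map (Arr.pull_w hX' r A).symm

theorem push_comp {T : Over S} (A B : Arr (bcChart E₀) T) (e : B.tgt = A.src) :
    push α (A.comp B e) = (push α A).comp (push α B) (congrArg (· ≫ u) e) := by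
  obtain ⟨a, b, f, hf⟩ := A
  obtain ⟨c, d, g, hg⟩ := B
  dsimp at e
  subst e
  refine Arr.ext' rfl rfl ?_
  simp only [push, Arr.comp, eqToHom_refl, Category.id_comp, Category.comp_id, Category.assoc]
  rw [Functor.map_comp]
  simp

theorem push_invArr {T : Over S} (A : Arr (bcChart E₀) T) :
    push α (A.invArr hX') = (push α A).invArr hX := by
  have := A.vert.isIso hX'
  have := (push α A).vert.isIso hX
  refine Arr.ext' rfl rfl ?_
  simp only [eqToHom_refl, Category.id_comp, Category.comp_id]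
  show (kap α A.tgt).hom ≫ h.map (inv A.hom) ≫ (kap α A.src).inv = inv (push α A).hom
  refine IsIso.eq_inv_of_hom_inv_id ?_
  show ((kap α A.src).hom ≫ h.map A.hom ≫ (kap α A.tgt).inv) ≫ _ = _
  simp only [Category.assoc, Iso.inv_hom_id_assoc]
  rw [← Functor.map_comp_assoc, IsIso.hom_inv_id]
  erw [h.toFunctor.map_id]
  simp

theorem pull_invArr {𝒵 : AlgSt.Cat S} {V : Over S} {y : FibCat.overCat V ⥤ᵇ 𝒵}
    (hZ : FibCat.IsFibGrpd 𝒵.p) {T T' : Over S} (r : T' ⟶ T) (A : Arr y T) :
    (A.invArr hZ).pull hZ r = (A.pull hZ r).invArr hZ := by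
  have := A.vert.isIso hZ
  have := (A.pull hZ r).vert.isIso hZ
  refine (Arr.pull_eq hZ r (fpHom (x := ((A.pull hZ r).invArr hZ).toFp hZ)
    (y := (A.invArr hZ).toFp hZ) (Over.homMk r rfl) (Over.homMk r rfl) ?_) rfl).symm
  show Arr.xMap y r A.tgt ≫ inv A.hom = inv (A.pull hZ r).hom ≫ Arr.xMap y r A.src
  rw [IsIso.comp_inv_eq, Category.assoc, IsIso.eq_inv_comp]
  exact Arr.pull_w hZ r A

end Functorial

variable {hX : FibCat.IsFibGrpd 𝒳.p} (hX' : FibCat.IsFibGrpd 𝒳'.p) (hE : FibCat.IsEquivOver E₀)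
  (hfaith : h.toFunctor.Faithful)

include hX hX' hE in
/-- An arrow lifts from any lift of its source. -/
theorem exists_push_eq {T : Over S} (A : Arr x T) (a : T ⟶ U') (ha : a ≫ u = A.src) :
    ∃ A' : Arr (bcChart E₀) T, A'.src = a ∧ push α A' = A := by
  obtain ⟨s, t, f, hf⟩ := A
  dsimp at ha
  subst ha
  have := hf.isIso hX
  let z : (FibCat.fp x h).obj := fpMk (F := x) (G := h) (Over.mk t) ((bcChart E₀).obj (Over.mk a))
    ((asIso f).symm ≪≫ kap α a) ((IsVert.inv (φ := asIso f) hf).comp (isVert_kap α a))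
  obtain ⟨g, φ, hφ⟩ := exists_vert_preimage hE z
  have hT : g.left = T := ((E₀.w_obj g).symm.trans hφ.obj_eq)
  obtain ⟨T₁, ⟨⟨⟩⟩, b⟩ := g
  obtain rfl : T₁ = T := hT
  change T₁ ⟶ U' at b
  change E₀.obj (Over.mk b) ≅ z at φ
  have h₁ : IsVert (FibCat.overCat U).p φ.hom.hom.fst := (isVert_fp_iff φ.hom).1 hφ
  have h₂ : IsVert 𝒳'.p φ.hom.hom.snd := isVert_map (F := FibCat.fpSnd x h) hφ
  let ν : (Over.mk (b ≫ u) : (FibCat.overCat U).obj) ⟶ Over.mk t :=
    (isoApp α (Over.mk b)).inv ≫ φ.hom.hom.fst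
  have hν : IsVert (FibCat.overCat U).p ν := (IsVert.inv (isVert_isoApp α _)).comp h₁
  have hb : b ≫ u = t := StkSlice.hom_isVert_eq ν hν
  have hν' : ν = eqToHom (congrArg Over.mk hb) :=
    Over.OverMorphism.ext (hν.map_eq.trans (by rw [Over.eqToHom_left]))
  have := h₂.isIso hX'
  let β : (bcChart E₀).obj (Over.mk a) ⟶ (bcChart E₀).obj (Over.mk b) := inv φ.hom.hom.snd
  refine ⟨⟨a, b, β, IsVert.inv (φ := asIso φ.hom.hom.snd) h₂⟩, rfl, Arr.ext' rfl hb ?_⟩
  have w : x.map φ.hom.hom.fst ≫ (inv f ≫ (kap α a).hom) =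
      (E₀.obj (Over.mk b)).obj.iso.hom ≫ h.map φ.hom.hom.snd := φ.hom.hom.w
  have key : (kap α b).hom ≫ h.map φ.hom.hom.snd =
      eqToHom (congrArg (fun c => x.obj (Over.mk c)) hb) ≫ inv f ≫ (kap α a).hom := by
    rw [kap_hom, Category.assoc]
    erw [← w]
    rw [← Category.assoc, ← Functor.map_comp]
    show x.map ν ≫ _ = _
    rw [hν', eqToHom_map]
  show ((kap α a).hom ≫ h.map β ≫ (kap α b).inv) ≫ eqToHom _ = eqToHom rfl ≫ f
  have e : h.map β = inv (h.map φ.hom.hom.snd) := Functor.map_inv h.toFunctor _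
  rw [e, eqToHom_refl _ (rfl : x.obj (Over.mk (a ≫ u)) = _), Category.id_comp]
  have : IsIso (h.map φ.hom.hom.snd) := inferInstance
  rw [← cancel_epi (inv f), IsIso.inv_hom_id]
  have k' : h.map φ.hom.hom.snd = (kap α b).inv ≫
      eqToHom (congrArg (fun c => x.obj (Over.mk c)) hb) ≫ inv f ≫ (kap α a).hom := by
    rw [← key, Iso.inv_hom_id_assoc]
  simp [k']

include hX hX' hE hfaith in
/-- Arrows with the same source and the same image are equal. -/
theorem push_inj {T : Over S} {A B : Arr (bcChart E₀) T} (hs : A.src = B.src)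
    (e : push α A = push α B) : A = B := by
  obtain ⟨a, b, f, hf⟩ := A
  obtain ⟨a', b', g, hg⟩ := B
  dsimp at hs
  subst hs
  have hb : b ≫ u = b' ≫ u := congrArg Arr.tgt e
  have hh : ((kap α a).hom ≫ h.map f ≫ (kap α b).inv) ≫
      eqToHom (congrArg (fun c => x.obj (Over.mk c)) hb) =
      (kap α a).hom ≫ h.map g ≫ (kap α b').inv := by
    have key : ∀ {A B : Arr x T} (e : A = B),
        A.hom ≫ eqToHom (congrArg (fun C : Arr x T => x.obj (Over.mk C.tgt)) e) =
          eqToHom (congrArg (fun C : Arr x T => x.obj (Over.mk C.src)) e) ≫ B.hom := by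
      rintro A B rfl
      simp
    have := key e
    simp only [push, eqToHom_refl, Category.id_comp] at this
    exact this
  have := hf.isIso hX'
  have := full_of_isEquivOver hE
  have hv : IsVert 𝒳'.p (inv f ≫ g) := (IsVert.inv (φ := asIso f) hf).comp hg
  let φ : E₀.obj (Over.mk b) ⟶ E₀.obj (Over.mk b') :=
    fpHom (x := E₀.obj (Over.mk b)) (y := E₀.obj (Over.mk b'))
      ((isoApp α (Over.mk b)).hom ≫ eqToHom (congrArg Over.mk hb) ≫ (isoApp α (Over.mk b')).inv)
      (inv f ≫ g) (by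
        have k : ∀ c : T ⟶ U', (E₀.obj (Over.mk c)).obj.iso.hom =
            x.map (isoApp α (Over.mk c)).hom ≫ (kap α c).hom := fun c => by
          rw [kap_hom, ← Category.assoc, ← Functor.map_comp, Iso.hom_inv_id]
          erw [x.toFunctor.map_id]
          exact (Category.id_comp _).symm
        rw [k b, k b', Functor.map_comp, Functor.map_comp, eqToHom_map]
        simp only [Category.assoc]
        rw [← Functor.map_comp_assoc, Iso.inv_hom_id]
        erw [x.toFunctor.map_id, Category.id_comp]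
        refine congrArg (x.map (isoApp α (Over.mk b)).hom ≫ ·) ?_
        rw [Functor.map_comp, Functor.map_inv]
        have hg' : h.map g = h.map f ≫ (kap α b).inv ≫
            eqToHom (congrArg (fun c => x.obj (Over.mk c)) hb) ≫ (kap α b').hom := by
          rw [← cancel_epi (kap α a).hom, ← cancel_mono (kap α b').inv]
          simp only [Category.assoc] at hh ⊢
          rw [← hh]
          simp
        rw [hg']
        simp)
  have hφ : IsVert (FibCat.fp x h).p φ := (isVert_fp_iff φ).2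
    ((isVert_isoApp α _).comp ((isVert_eqToHom _).comp (IsVert.inv (isVert_isoApp α _))))
  obtain ⟨n, hn⟩ := E₀.toFunctor.map_surjective φ
  have hnv : IsVert (FibCat.overCat U').p n := isVert_of_map (F := E₀) (by rw [hn]; exact hφ)
  obtain rfl : b = b' := StkSlice.hom_isVert_eq n hnv
  refine Arr.ext' rfl rfl ?_
  simp only [eqToHom_refl, Category.id_comp, Category.comp_id] at hh ⊢
  rw [cancel_epi, cancel_mono] at hh
  exact hfaith.map_injective hh

end Groth.KeelMori
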