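import Groth.Agent.GitQuot.KeelMori.AutLocus
import Groth.Agent.GitQuot.StkPieces.Stack

/-!
# Pieces stable under all automorphisms
-/

set_option autoImplicit false
set_option backward.isDefEq.respectTransparency false
set_option backward.isDefEq.respectTransparency.types false

universe u

open CategoryTheory CategoryTheory.Limits AlgebraicGeometry Opposite
open Groth.StkBase Groth.AlgStBasic Groth.AlgSpBasic Groth.StkPieces Groth.FppfBoot

noncomputable section

namespace Groth.KeelMori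

variable {S : Scheme.{u}} {𝒳 𝒳' : AlgSt.Cat S}

/-- The automorphisms of an object over an algebraically closed field form a finite set. -/
theorem finite_vert_end (hX : FibCat.IsFibGrpd 𝒳.p)
    (hI : AlgSt.RepByAlgSpWith AlgSp.IsFiniteMor (FibCat.inertiaToBase (FibCat.toSelf 𝒳)))
    {K : Type u} [Field K] [IsAlgClosed K] {s : Spec (CommRingCat.of K) ⟶ S} {x : 𝒳.obj}
    (hx : 𝒳.p.obj x = Over.mk s) : {β : x ⟶ x | IsVert 𝒳.p β}.Finite := by
  obtain ⟨i, hi⟩ := overFunctor_eval hX x hx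
  let U := Over.mk s
  let y := overFunctor hX x hx
  obtain ⟨g, γ, hγ, hfin, hg⟩ := exists_autChart hX hI y
  let a := idObj U
  have key : ∀ β : {β : x ⟶ x | IsVert 𝒳.p β}, ∃ n : a ⟶ g,
      (i.hom ≫ β.1 ≫ i.inv) ≫ y.map n = y.map n ≫ γ :=
    fun β => hg a _ (hi.comp (β.2.comp hi.inv))
  choose n hn using key
  have : IsFinite g.hom.left := hfin
  have : Finite g.left.left := by
    have h := g.hom.left.finite_preimage_singleton (IsLocalRing.closedPoint K)
    exact Set.finite_univ_iff.1 (h.subset fun q _ => Subsingleton.elim (α := PrimeSpectrum K) _ _)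
  refine Set.finite_coe_iff.1 (Finite.of_injective
    (fun β => (n β).left.left (IsLocalRing.closedPoint K)) fun β β' e => ?_)
  have hσ : ∀ β, (n β).left.left ≫ g.hom.left = 𝟙 _ := fun β =>
    (congrArg Over.Hom.left (Over.w (n β))).trans rfl
  have e' : n β = n β' := Over.OverMorphism.ext (Over.OverMorphism.ext
    (ext_of_apply_closedPoint_eq g.hom.left (hσ β) (hσ β') e))
  apply Subtype.ext
  have h := (hn β).trans ((congrArg (fun m => y.map m ≫ γ) e').trans (hn β').symm)
  rw [e'] at h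
  have hv : ∀ β : {β : x ⟶ x | IsVert 𝒳.p β}, 𝒳.p.map (i.hom ≫ β.1 ≫ i.inv) = eqToHom rfl :=
    fun β => (hi.comp (β.2.comp hi.inv)).map_eq
  have := hom_eq_of_comp_eq hX (y.map (n β')) ((hv β).trans (hv β').symm) h
  rwa [cancel_epi, cancel_mono] at this

variable {V : Over S} {v : FibCat.overCat V ⥤ᵇ 𝒳'} (G : GoodPts v)

/-- The points of a good chart over an object over an algebraically closed field which map to a given
point of the chart form a piece stable under all automorphisms. -/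
theorem exists_stable_piece (hX : FibCat.IsFibGrpd 𝒳'.p) {K : Type u} [Field K] [IsAlgClosed K]
    {s : Spec (CommRingCat.of K) ⟶ S} {ξ : 𝒳'.obj} (hξ : 𝒳'.p.obj ξ = Over.mk s)
    (hfin : {β : ξ ⟶ ξ | IsVert 𝒳'.p β}.Finite) :
    ∃ w : PObj G, w.obj = ξ ∧ ∀ β : w.obj ⟶ w.obj, IsVert 𝒳'.p β →
      (ptMap G.D β).left.left ⁻¹ᵁ w.piece = w.piece := by
  let D := G.D ξ
  let P := D.g.left
  let π : P.left ⟶ Spec (CommRingCat.of K) := (D.π ≫ eqToHom hξ).left
  have hπ : π = D.π.left ≫ (eqToHom hξ).left := rfl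
  have : IsIso (eqToHom hξ).left := inferInstanceAs (IsIso ((Over.forget S).map (eqToHom hξ)))
  have := G.lqf ξ
  have := G.lfp ξ
  have := G.surjective ξ
  have : LocallyQuasiFinite π := hπ ▸ inferInstance
  have : LocallyOfFiniteType π := hπ ▸ inferInstance
  have : Surjective π := hπ ▸ inferInstance
  have hd : _root_.IsDiscrete (Set.univ : Set P.left) := by
    have h := π.isDiscrete_preimage_singleton (IsLocalRing.closedPoint K)
    rwa [show π ⁻¹' {IsLocalRing.closedPoint K} = (Set.univ : Set P.left) from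
      Set.eq_univ_of_forall fun x => Subsingleton.elim (α := PrimeSpectrum K) _ _] at h
  have : DiscreteTopology P.left := isDiscrete_univ_iff.1 hd
  let sec : ∀ q : P.left, Over.mk s ⟶ P := fun q =>
    Over.homMk (pointOfClosedPoint π q (isClosed_discrete _)) (by
      show _ ≫ P.hom = s
      rw [← Over.w (D.π ≫ eqToHom hξ)]
      exact (pointOfClosedPoint_comp_assoc π q (isClosed_discrete _) s))
  have secπ : ∀ q, sec q ≫ D.π ≫ eqToHom hξ = 𝟙 _ := fun q =>
    Over.OverMorphism.ext (pointOfClosedPoint_comp π q (isClosed_discrete _))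
  have sec_pt : ∀ q, (sec q).left (IsLocalRing.closedPoint K) = q := fun q =>
    pointOfClosedPoint_apply π q _ _
  have sec_eq : ∀ (τ : Over.mk s ⟶ P), τ ≫ D.π ≫ eqToHom hξ = 𝟙 _ →
      τ = sec (τ.left (IsLocalRing.closedPoint K)) := fun τ h =>
    Over.OverMorphism.ext (ext_of_apply_closedPoint_eq π (congrArg Over.Hom.left h)
      (congrArg Over.Hom.left (secπ _)) (sec_pt _).symm)
  obtain ⟨q₀, -⟩ := π.surjective (IsLocalRing.closedPoint K)
  let a : (FibCat.overCat V).obj := Over.mk (sec q₀ ≫ D.g.hom)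
  let E : Set P.left := {q | sec q ≫ D.g.hom = sec q₀ ≫ D.g.hom}
  let ψ : ∀ q : E, v.obj a ⟶ ξ := fun q => v.map (Over.homMk (sec q.1) q.2 : a ⟶ D.g) ≫ D.φ
  have hψ : ∀ q, 𝒳'.p.map (ψ q) = eqToHom ((v.w_obj a).trans hξ.symm) := fun q => by
    rw [Functor.map_comp, map_map, Category.assoc]
    have h := congrArg (· ≫ eqToHom hξ.symm) (secπ q.1)
    simp only [Category.assoc, UPt.π, eqToHom_trans, eqToHom_refl, Category.comp_id,
      Category.id_comp] at h
    show eqToHom _ ≫ (sec q.1 ≫ eqToHom _) ≫ 𝒳'.p.map D.φ = _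
    rw [Category.assoc, h, eqToHom_trans]
  have hEfin : E.Finite := by
    have hv : ∀ q, IsVert 𝒳'.p (ψ q) := fun q => ⟨(v.w_obj a).trans hξ.symm, hψ q⟩
    have := (hv ⟨q₀, rfl⟩).isIso hX
    have : Finite {β : ξ ⟶ ξ | IsVert 𝒳'.p β} := hfin.to_subtype
    refine Set.finite_coe_iff.1 (Finite.of_injective (fun q : E =>
      (⟨inv (ψ ⟨q₀, rfl⟩) ≫ ψ q,
        (IsVert.inv (φ := asIso (ψ ⟨q₀, rfl⟩)) (hv _)).comp (hv q)⟩ : {β : ξ ⟶ ξ | IsVert 𝒳'.p β}))
      fun q q' e => ?_)
    have h := congrArg Subtype.val e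
    simp only [cancel_epi] at h
    obtain ⟨m, -, hu⟩ := D.univ a (ψ q)
    have h' := (hu (Over.homMk (sec q.1) q.2) rfl).trans (hu (Over.homMk (sec q'.1) q'.2) h.symm).symm
    apply Subtype.ext
    have h'' : sec q.1 = sec q'.1 := congrArg (fun k : a ⟶ D.g => k.left) h'
    rw [← sec_pt q.1, h'', sec_pt]
  let Z : P.left.Opens := ⟨E, isOpen_discrete E⟩
  have hpiece : IsPiece D.π.left Z := by
    have : Finite Z.toScheme := hEfin.to_subtype
    have : QuasiCompact (Z.ι ≫ π) :=
      (quasiCompact_iff_compactSpace (f := Z.ι ≫ π)).2 Finite.compactSpace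
    have hf : IsFinite (Z.ι ≫ π) := IsFinite.of_locallyQuasiFinite _
    have hs : Surjective (Z.ι ≫ π) :=
      ⟨fun t => ⟨⟨q₀, rfl⟩, Subsingleton.elim (α := PrimeSpectrum K) _ _⟩⟩
    rw [hπ, ← Category.assoc] at hf hs
    exact ⟨(MorphismProperty.cancel_right_of_respectsIso @IsFinite _ _).1 hf,
      (MorphismProperty.cancel_right_of_respectsIso @Surjective _ _).1 hs⟩
  refine ⟨⟨ξ, Z, hpiece⟩, rfl, fun β hβ => ?_⟩
  let m : P ⟶ P := (ptMap G.D β).left
  have hm₁ : m ≫ D.g.hom = D.g.hom := Over.w (ptMap G.D β)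
  have hm₂ : m ≫ D.π = D.π := (ptMap_π G.D β).trans (by
    rw [hβ.map_eq, eqToHom_refl, Category.comp_id])
  have hsec : ∀ q, sec (m.left q) = sec q ≫ m := fun q => by
    rw [sec_eq (sec q ≫ m) (by rw [Category.assoc, reassoc_of% hm₂, secπ]), Over.comp_left,
      Scheme.Hom.comp_apply, sec_pt]
  refine TopologicalSpace.Opens.ext (Set.ext fun q => ?_)
  show sec (m.left q) ≫ D.g.hom = sec q₀ ≫ D.g.hom ↔ sec q ≫ D.g.hom = sec q₀ ≫ D.g.hom
  rw [hsec, Category.assoc, hm₁]

end Groth.KeelMori
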