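import Groth.Agent.GitQuot.KeelMori.WnaNhd
import Groth.Agent.GitQuot.KeelMori.OrbitPiece
import Groth.Agent.GitQuot.StkPieces.Cover
import Groth.Agent.GitQuot.StkSlice.Cover
import Groth.Agent.AlgStBasic.InertiaDescent
import Groth.Agent.AlgSp2.FiniteTfae
import Groth.Agent.AlgSpBasic.ColimitSep

/-!
# Stacks with finite inertia are étale locally well-nigh affine
-/

set_option autoImplicit false
set_option backward.isDefEq.respectTransparency false
set_option backward.isDefEq.respectTransparency.types false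

universe u

open CategoryTheory CategoryTheory.Limits AlgebraicGeometry Opposite Topology
open Groth.StkBase Groth.AlgSpBasic Groth.AlgStBasic Groth.StkPieces

noncomputable section

namespace Groth.KeelMori

variable {S : Scheme.{u}} {𝒳 𝒳' : AlgSt.Cat S}

theorem repWith_etaleSep_subIncl {T : Set (AlgSt.Points 𝒳)}
    (hA : AlgSt.IsAlgStack Scheme.fppfPrecoverage 𝒳) (hT : IsOpen T) :
    AlgSt.RepByAlgSpWith (AlgSp.LocP @Etale ⊓ AlgSp.IsSeparatedMor) (AlgSt.subIncl 𝒳 (inPts T)) :=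
  repWith_mono (fun _ _ f _ _ h => by
    have : Mono f := Groth.AlgSpBasic.mono_of_repWith
      (fun _ _ g (_ : IsOpenImmersion g) => (inferInstance : Mono g)) h
    exact ⟨locP_of_repWith (Groth.AlgSpBasic.repWith_mono
      (fun _ _ g (_ : IsOpenImmersion g) => (inferInstance : Etale g)) h),
      ColimitSep.isSeparatedMor_of_mono f⟩) (isOpenImm_subIncl_inPts hA hT)

theorem repWith_etaleSep_comp {𝒲 𝒴 : AlgSt.Cat S} (hW : FibCat.IsFibGrpd 𝒲.p) (hY : FibCat.IsFibGrpd 𝒴.p)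
    {f : 𝒲 ⥤ᵇ 𝒴} {g : 𝒴 ⥤ᵇ 𝒳}
    (hf : AlgSt.RepByAlgSpWith (AlgSp.LocP @Etale ⊓ AlgSp.IsSeparatedMor) f)
    (hg : AlgSt.RepByAlgSpWith (AlgSp.LocP @Etale ⊓ AlgSp.IsSeparatedMor) g) :
    AlgSt.RepByAlgSpWith (AlgSp.LocP @Etale ⊓ AlgSp.IsSeparatedMor) (BasedFunctor.comp f g) :=
  repWith_inf stableBaseChange_sep
    (repWith_comp' hW hY stableBaseChange_locP stableComp_locP descendsAlongAtlas_locP
      (repWith_mono (fun _ _ _ _ _ h => h.1) hf) (repWith_mono (fun _ _ _ _ _ h => h.1) hg))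
    (repWith_comp' hW hY stableBaseChange_sep stableComp_sep
      (descendsAlongAtlas_of_isLocalOnBase isLocalOnBase_fppf_sep)
      (repWith_mono (fun _ _ _ _ _ h => h.2) hf) (repWith_mono (fun _ _ _ _ _ h => h.2) hg))

theorem prop_of_repWith_overMap {P : MorphismProperty (AlgSp.Sp S)} (hb : StableBaseChange P)
    {U V : Over S} (g : U ⟶ V) (h : AlgSt.RepByAlgSpWith P (AlgSt.overMap g)) :
    P ((AlgSp.yon S).map g) := by
  have := hb.respectsIso
  have e := (prop_of_repFst (P := onSpaces P)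
    (RepFst.mono (fun _ _ _ hA hB hp => ⟨hA, hB, hp⟩) (repFst_overMap h))
    ⟨(AlgSp.yon S).obj U, AlgSp.IsAlgSpace.yon_obj U⟩ (AlgSt.toOverCat U) (isEquivOver_toOverCat U)).2.2
  rwa [spMapOfOver_toOverCat] at e

section

variable (h𝒳 : AlgSt.IsAlgStack Scheme.fppfPrecoverage 𝒳)
  (hI : AlgSt.RepByAlgSpWith AlgSp.IsFiniteMor (FibCat.inertiaToBase (FibCat.toSelf 𝒳)))

include h𝒳 hI

theorem repWith_sep_diag_of_finite_inertia :
    AlgSt.RepByAlgSpWith AlgSp.IsSeparatedMor (FibCat.diag (FibCat.toSelf 𝒳)) :=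
  ((tfae_inertia_sep (f := FibCat.toSelf 𝒳) h𝒳.diag).out 0 1).1
    (repWith_mono (fun _ _ _ hA hB h => (Groth.AlgSp2.isProperMor_of_isFiniteMor hA hB h).1) hI)

/-- An affine chart, flat and quasi-finite, through a given point. -/
theorem exists_affine_lqf_chart (z : AlgSt.Points 𝒳) :
    ∃ (V : Over S) (v : FibCat.overCat V ⥤ᵇ 𝒳), IsAffine V.left ∧
      AlgSt.RepByAlgSpWith
        (AlgSp.LocP (@Flat ⊓ @LocallyOfFinitePresentation ⊓ @LocallyQuasiFinite)) v ∧
      z ∈ Set.range (AlgSt.Points.ofChart v) := by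
  have hX := h𝒳.isStack.1
  have hq : AlgSt.IsQuasiDMOver 𝒳 :=
    (repWith_mono (fun _ _ _ hA hB h => Groth.AlgSp2.lqf_of_isFiniteMor hA hB h) hI |>
      fun h => Groth.AlgStBasic.repWith_diag_of_inertia h𝒳 Groth.AlgStBasic.isAlgStack_selfOver
        (FibCat.toSelf 𝒳) (fun A B g hg hs =>
          have : LocallyOfFiniteType g := hg
          ⟨Groth.AlgStBasic.locallyQuasiFinite_of_snd_self g hs.1, hg⟩) h)
  obtain ⟨W, w, hw⟩ := StkSlice.exists_cover h𝒳 (repWith_sep_diag_of_finite_inertia h𝒳 hI) hq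
  obtain ⟨t, rfl⟩ := surjective_ofChart hX (repWith_mono (fun _ _ _ _ _ h => h.2) hw) z
  obtain ⟨i, a, ha⟩ := W.left.affineCover.exists_eq t
  let V : Over S := Over.mk (W.left.affineCover.f i ≫ W.hom)
  let j : V ⟶ W := Over.homMk (W.left.affineCover.f i) rfl
  refine ⟨V, BasedFunctor.comp (AlgSt.overMap j) w, inferInstanceAs (IsAffine (W.left.affineCover.X i)),
    ?_, a, ?_⟩
  · have cmp : ∀ (P : MorphismProperty Scheme.{u}) [EtaleLocal P] [P.IsStableUnderComposition],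
        P j.left → AlgSt.RepByAlgSpWith (AlgSp.LocP (S := S) P) w →
        AlgSt.RepByAlgSpWith (AlgSp.LocP (S := S) P) (BasedFunctor.comp (AlgSt.overMap j) w) :=
      fun P _ _ hP hwP => repWith_comp' (isFibGrpd_overCat _) (isFibGrpd_overCat _) stableBaseChange_locP
        stableComp_locP descendsAlongAtlas_locP (repWith_overMap j hP) hwP
    have h₁ := cmp @Flat (inferInstanceAs (Flat (W.left.affineCover.f i)))
      (repWith_mono (fun _ _ _ _ _ h => locP_mono (fun _ _ k hk => hk.1.1) h.1) hw)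
    have h₂ := cmp @LocallyOfFinitePresentation
      (inferInstanceAs (LocallyOfFinitePresentation (W.left.affineCover.f i)))
      (repWith_mono (fun _ _ _ _ _ h => locP_mono (fun _ _ k hk => hk.1.2) h.1) hw)
    have h₃ := cmp (@LocallyQuasiFinite ⊓ @LocallyOfFiniteType)
      ⟨inferInstanceAs (LocallyQuasiFinite (W.left.affineCover.f i)),
        inferInstanceAs (LocallyOfFiniteType (W.left.affineCover.f i))⟩
      (repWith_mono (fun _ _ _ _ _ h => locP_mono (fun _ _ k hk =>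
        ⟨hk.2, (have : LocallyOfFinitePresentation k := hk.1.2; inferInstance)⟩) h.1) hw)
    exact repWith_mono (fun _ _ _ _ _ hp U V a b k ha hb comm =>
      ⟨⟨hp.1.1 a b k ha hb comm, hp.1.2 a b k ha hb comm⟩, (hp.2 a b k ha hb comm).1⟩)
      (repWith_inf stableBaseChange_locP (repWith_inf stableBaseChange_locP h₁ h₂) h₃)
  · rw [ofChart_overMap]; exact congrArg _ ha

/-- **A stack with finite inertia is étale locally well-nigh affine, compatibly with automorphisms.** -/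
theorem exists_wna_etale_nhd (z : AlgSt.Points 𝒳) :
    ∃ (𝒴 : AlgSt.Cat S) (g : 𝒴 ⥤ᵇ 𝒳), z ∈ Set.range (AlgSt.Points.map g) ∧
      AlgSt.IsAlgStack Scheme.fppfPrecoverage 𝒴 ∧ AlgSt.IsWellNighAffine 𝒴 ∧
      (∀ y : 𝒴.obj, Function.Bijective (Gerb.autMap g y)) ∧
      AlgSt.RepByAlgSpWith AlgSp.IsEtaleMor g ∧ AlgSt.IsSeparatedMor g := by
  have hX := h𝒳.isStack.1
  obtain ⟨V, vX, hV, hvX, hz⟩ := exists_affine_lqf_chart h𝒳 hI z
  have hfl := repWith_mono (Q := AlgSp.LocP @Flat)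
    (fun _ _ _ _ _ h => locP_mono (fun _ _ k hk => hk.1.1) h) hvX
  have hfp := repWith_mono (Q := AlgSp.LocP @LocallyOfFinitePresentation)
    (fun _ _ _ _ _ h => locP_mono (fun _ _ k hk => hk.1.2) h) hvX
  -- the image of the chart
  let T₀ : Set (AlgSt.Points 𝒳) := Set.range (AlgSt.Points.ofChart vX)
  have hT₀ : IsOpen T₀ := (isOpenMap_ofChart hX hfl hfp).isOpen_range
  let i₀ := AlgSt.subIncl 𝒳 (inPts T₀)
  have h𝒳₀ := (isOpenSubstack_inPts h𝒳 hT₀).2.1
  have hi₀ := repWith_etaleSep_subIncl h𝒳 hT₀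
  have hF₀ : i₀.toFunctor.Full := inferInstanceAs (ObjectProperty.ι _).Full
  have hf₀ : i₀.toFunctor.Faithful := inferInstanceAs (ObjectProperty.ι _).Faithful
  have hmem : ∀ o : (FibCat.overCat V).obj, inPts T₀ (vX.obj o) :=
    inPts_obj_of_range hX (isFibGrpd_overCat V) vX (range_ofChart vX).ge
  let v : FibCat.overCat V ⥤ᵇ AlgSt.fullSub 𝒳 (inPts T₀) :=
    { toFunctor := ObjectProperty.lift _ vX.toFunctor hmem
      w := vX.w }
  have hv₁ : AlgSt.RepByAlgSpWith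
      (AlgSp.LocP (@Flat ⊓ @LocallyOfFinitePresentation ⊓ @LocallyQuasiFinite)) v :=
    repWith_of_comp_fullyFaithful i₀ (repWith_of_iso (f := vX) (Iso.refl _) hvX)
  have hinj₀ := injective_map_of_full_faithful h𝒳₀.isStack.1 hX i₀
  have hv₂ : AlgSt.RepByAlgSpWith AlgSp.IsSurjectiveMor v :=
    repWith_surjective_of_range h𝒳₀.isStack.1 (repWith_repByAlgSp1 hv₁) fun p => by
      obtain ⟨a, ha⟩ := range_subIncl_inPts T₀ ⟨p, rfl⟩
      exact ⟨a, hinj₀ ha⟩
  have hΔ₀ : AlgSt.RepByAlgSpWith AlgSp.IsSeparatedMor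
      (FibCat.diag (FibCat.toSelf (AlgSt.fullSub 𝒳 (inPts T₀)))) :=
    repWith_diag_of_iso (StkSlice.selfIso (BasedFunctor.comp i₀ (FibCat.toSelf 𝒳)) _)
      (repWith_diag_comp h𝒳₀.isStack.1 hX stableBaseChange_sep stableComp_sep
        (descendsAlongAtlas_of_isLocalOnBase isLocalOnBase_fppf_sep)
        (repWith_sep_diag (repWith_repByAlgSp1 hi₀)) (repWith_sep_diag_of_finite_inertia h𝒳 hI))
  have hVS : IsSeparated V.hom := inferInstance
  obtain ⟨G⟩ := exists_goodPts h𝒳₀.isStack.1 hΔ₀ (repWith_inf stableBaseChange_surjective hv₁ hv₂)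
  -- the stack of pieces
  let W := pieceCat G
  have hW := isFibGrpd_pieceCat G h𝒳₀.isStack.1
  have hh : AlgSt.RepByAlgSpWith (AlgSp.LocP @Etale ⊓ AlgSp.IsSeparatedMor) (pieceForget G) :=
    repWith_of_charts fun U y => by
      obtain ⟨H, τ, L, hL, hα, he, hs, -⟩ := exists_piece_chart G h𝒳₀.isStack.1 y
      exact ⟨H, τ, L, hL, hα,
        ⟨locP_of_repWith ((AlgSp.repWith_yon_map_iff @Etale τ).2 he),
          (AlgSp.isSeparatedMor_yon_map_iff τ).2 hs⟩⟩
  have hWA : AlgSt.IsAlgStack Scheme.fppfPrecoverage W :=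
    isAlgStack_of_repByAlgSp1 hW h𝒳₀ _ (repWith_repByAlgSp1 hh)
  let h' : W ⥤ᵇ 𝒳 := BasedFunctor.comp (pieceForget G) i₀
  have hh' := repWith_etaleSep_comp hW h𝒳₀.isStack.1 hh hi₀
  have hh'' : AlgSt.RepByAlgSpWith (AlgSp.IsEtaleMor ⊓ AlgSp.IsSeparatedMor) h' :=
    repWith_mono (fun _ _ _ _ hB h => ⟨isEtaleMor_of_locP hB h.1, h.2⟩) hh'
  -- a point with a stable piece
  have hz₀ : z ∈ Set.range (AlgSt.Points.map i₀) := (range_subIncl_inPts_eq T₀).ge hz
  obtain ⟨z₀, rfl⟩ := hz₀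
  obtain ⟨p₀, rfl⟩ := AlgSt.Points.mk_surjective z₀
  let K := AlgebraicClosure p₀.K
  let d : Over.mk (Spec.map (CommRingCat.ofHom (algebraMap p₀.K K)) ≫ p₀.str) ⟶ Over.mk p₀.str :=
    Over.homMk (Spec.map (CommRingCat.ofHom (algebraMap p₀.K K))) rfl
  obtain ⟨ξ, hξ, φ, -⟩ := exists_pullback_pt h𝒳₀.isStack.1 p₀ d
  have hfin : {β : ξ ⟶ ξ | IsVert (AlgSt.fullSub 𝒳 (inPts T₀)).p β}.Finite := by
    refine Set.Finite.of_finite_image (f := fun β => i₀.map β) ?_ fun β _ β' _ e => hf₀.map_injective e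
    refine (finite_vert_end hX hI (x := i₀.obj ξ) hξ).subset ?_
    rintro _ ⟨β, hβ, rfl⟩
    exact isVert_map hβ
  obtain ⟨w, rfl, hwst⟩ := exists_stable_piece G h𝒳₀.isStack.1 hξ hfin
  have hl : LiftsAut h' w := fun β hβ => by
    obtain ⟨β₀, hβ₀⟩ := hF₀.map_surjective β
    have hv : IsVert (AlgSt.fullSub 𝒳 (inPts T₀)).p β₀ :=
      isVert_of_map (F := i₀) (by rw [hβ₀]; exact hβ)
    exact ⟨⟨β₀, hwst β₀ hv⟩, hv, hβ₀⟩
  let pw : AlgSt.FPt W := { K := K, str := _, obj := w, lies := hξ }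
  let T' := autLocus h'
  have hT' : IsOpen T' := isOpen_autLocus hW hX hI hh''
  have hpw : AlgSt.Points.mk pw ∈ T' := ⟨pw, inferInstanceAs (IsAlgClosed K), rfl, hl⟩
  -- the finite locally free chart
  obtain ⟨Z, zf, -, hzf, hc⟩ := exists_finite_cover G h𝒳₀.isStack.1
  let q := BasedFunctor.comp zf (FibCat.fpSnd v (pieceForget G))
  have hq : AlgSt.RepByAlgSpWith (FinCov S) q :=
    repWith_of_charts fun T y => by
      obtain ⟨X, τ, L, hL, hα, hf, hfl', hlf, hs⟩ := hc T y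
      refine ⟨X, τ, L, hL, hα, ⟨⟨⟨Groth.AlgSpBasic.surjective_map_of_repWith
        ((AlgSp.repWith_yon_map_iff _ τ).2 hs), ?_⟩, ?_⟩, ?_⟩⟩
      · exact locP_of_repWith ((AlgSp.repWith_yon_map_iff @Flat τ).2 hfl')
      · exact isFiniteMor_iff_repWith.2 ((AlgSp.repWith_yon_map_iff _ τ).2 hf)
      · exact locP_of_repWith ((AlgSp.repWith_yon_map_iff @LocallyOfFinitePresentation τ).2 hlf)
  have hfp₁ : AlgSt.RepByAlgSpWith (AlgSp.LocP @Etale ⊓ AlgSp.IsSeparatedMor)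
      (BasedFunctor.comp zf (FibCat.fpFst v (pieceForget G))) :=
    repWith_etaleSep_comp (isFibGrpd_overCat Z) (isFibGrpd_fp (isFibGrpd_overCat V) hW h𝒳₀.isStack.1)
      (repWith_mono (fun _ _ f _ _ h => by
        have : Mono f := Groth.AlgSpBasic.mono_of_repWith
          (fun _ _ g (_ : IsOpenImmersion g) => (inferInstance : Mono g)) h
        exact ⟨locP_of_repWith (Groth.AlgSpBasic.repWith_mono
          (fun _ _ g (_ : IsOpenImmersion g) => (inferInstance : Etale g)) h),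
          ColimitSep.isSeparatedMor_of_mono f⟩) hzf)
      (repWith_fpFst _ _ hh)
  obtain ⟨k, ⟨κ⟩⟩ := exists_iso_overMap (BasedFunctor.comp zf (FibCat.fpFst v (pieceForget G)))
  have : IsSeparated k.left ∧ LocallyQuasiFinite k.left ∧ LocallyOfFiniteType k.left := by
    have h₁ := repWith_of_iso κ hfp₁
    have hs : AlgSp.IsSeparatedMor ((AlgSp.yon S).map k) :=
      prop_of_repWith_overMap stableBaseChange_sep k (repWith_mono (fun _ _ _ _ _ h => h.2) h₁)
    have he : Etale k.left := left_prop_of_locP_yon (P := @Etale)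
      (prop_of_repWith_overMap stableBaseChange_locP k (repWith_mono (fun _ _ _ _ _ h => h.1) h₁))
    exact ⟨(AlgSp.isSeparatedMor_yon_map_iff k).1 hs,
      Groth.AlgSp2.locallyQuasiFinite_of_etale k.left, inferInstance⟩
  obtain ⟨_, _, _⟩ := this
  obtain ⟨T, hT, hpT, hTT', hwna⟩ := exists_wna_nhd hWA hq k T' hT' _ hpw
  -- the neighbourhood
  let i₁ := AlgSt.subIncl W (inPts T)
  have h𝒲₁ := (isOpenSubstack_inPts hWA hT).2.1
  have hF₁ : i₁.toFunctor.Full := inferInstanceAs (ObjectProperty.ι _).Full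
  have hf₁ : i₁.toFunctor.Faithful := inferInstanceAs (ObjectProperty.ι _).Faithful
  let g := BasedFunctor.comp i₁ h'
  have hg := repWith_etaleSep_comp h𝒲₁.isStack.1 hW (repWith_etaleSep_subIncl hWA hT) hh'
  refine ⟨_, g, ?_, h𝒲₁, hwna, fun y => ⟨?_, ?_⟩,
    repWith_mono (fun _ _ _ _ hB h => isEtaleMor_of_locP hB h.1) hg,
    ((tfae_separated (repWith_repByAlgSp1 hg)).out 0 2).1 (repWith_mono (fun _ _ _ _ _ h => h.2) hg)⟩
  · have hyT : inPts T w := fun r ⟨ρ⟩ => by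
      rw [mk_eq_of_hom (p := r) (q := pw) ρ]; exact hpT
    refine ⟨AlgSt.Points.mk
      ({ K := K, str := _, obj := ⟨w, hyT⟩, lies := hξ } : AlgSt.FPt (AlgSt.fullSub W (inPts T))), ?_⟩
    exact mk_eq_of_hom (p := pw.map h') (q := p₀.map i₀) (i₀.map φ)
  · have := faithful_of_repByAlgSp1 h𝒲₁.isStack.1 hX g (repWith_repByAlgSp1 hg)
    intro a b e
    exact Aut.ext (Functor.Fiber.hom_ext (g.toFunctor.map_injective
      (congrArg (fun c : Gerb.AutO (g.obj y) => c.hom.1) e)))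
  · intro b
    have hb : IsVert 𝒳.p b.hom.1 := @isVert_of_isHomLift _ _ _ _ _ _ _ _ _ b.hom.2
    obtain ⟨α, hα, he⟩ := liftsAut_of_inPts hW hX hI hh''
      (w := y.obj) (fun r hr => hTT' (y.property r hr)) b.hom.1 hb
    obtain ⟨α₁, hα₁⟩ := hF₁.map_surjective α
    have hv₁' : IsVert (AlgSt.fullSub W (inPts T)).p α₁ :=
      isVert_of_map (F := i₁) (by rw [hα₁]; exact hα)
    have := hv₁'.isIso h𝒲₁.isStack.1
    refine ⟨
      { hom := ⟨α₁, hv₁'.isHomLift rfl⟩
        inv := ⟨(asIso α₁).inv, (IsVert.inv (φ := asIso α₁) hv₁').isHomLift rfl⟩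
        hom_inv_id := Functor.Fiber.hom_ext (asIso α₁).hom_inv_id
        inv_hom_id := Functor.Fiber.hom_ext (asIso α₁).inv_hom_id }, ?_⟩
    refine Aut.ext (Functor.Fiber.hom_ext ?_)
    show h'.map (i₁.map α₁) = b.hom.1
    rw [hα₁]; exact he

end

end Groth.KeelMori
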