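import Groth.Agent.GitQuot.KeelMori.EtaleMap

/-!
# The quotients of a chart groupoid and of its stabilizer preserving etale base change
-/

set_option autoImplicit false
set_option backward.isDefEq.respectTransparency false
set_option backward.isDefEq.respectTransparency.types false

universe u

open CategoryTheory CategoryTheory.Limits AlgebraicGeometry Opposite
open Groth.StkBase Groth.AlgStBasic Groth.AlgSpBasic Groth.StkSlice

noncomputable section

namespace Groth.KeelMori

/-- A cartesian morphism of groupoids which reflects loops has cartesian stabilizers. -/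
theorem exists_stabilizer_isPullback_of_loops {S : Scheme.{u}} {G' G : Grpd.GroupoidScheme S}
    (f : Grpd.GroupoidScheme.Hom G' G) (hs : IsPullback f.fR G'.s G.s f.fU)
    (hloop : ∀ {T : Scheme.{u}} (r : T ⟶ G'.R),
      (r ≫ f.fR) ≫ G.t = (r ≫ f.fR) ≫ G.s → r ≫ G'.t = r ≫ G'.s) :
    ∃ g : G'.stabilizer ⟶ G.stabilizer,
      g ≫ pullback.fst G.j G.diag = pullback.fst G'.j G'.diag ≫ f.fR ∧
        IsPullback g G'.stabilizerToU G.stabilizerToU f.fU := by
  let a : G'.stabilizer ⟶ G'.R := pullback.fst G'.j G'.diag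
  let b : G'.stabilizer ⟶ G'.U := G'.stabilizerToU
  let p : G.stabilizer ⟶ G.R := pullback.fst G.j G.diag
  have ht : a ≫ G'.t = b := stab_t G'
  have hs' : a ≫ G'.s = b := stab_s G'
  have hc : (a ≫ f.fR) ≫ G.j = (b ≫ f.fU) ≫ G.diag :=
    loop_cond G _ _ (by rw [Category.assoc, f.comm_t, ← Category.assoc, ht])
      (by rw [Category.assoc, f.comm_s, ← Category.assoc, hs'])
  let g : G'.stabilizer ⟶ G.stabilizer := pullback.lift _ _ hc
  have hg : g ≫ p = a ≫ f.fR := pullback.lift_fst _ _ _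
  have hgU : g ≫ G.stabilizerToU = b ≫ f.fU := pullback.lift_snd _ _ _
  have hext : ∀ {T : Scheme.{u}} (m m' : T ⟶ G'.stabilizer), m ≫ a = m' ≫ a → m ≫ b = m' ≫ b → m = m' :=
    fun m m' h₁ h₂ => pullback.hom_ext h₁ h₂
  have hextG : ∀ {T : Scheme.{u}} (m m' : T ⟶ G.stabilizer), m ≫ p = m' ≫ p →
      m ≫ G.stabilizerToU = m' ≫ G.stabilizerToU → m = m' :=
    fun m m' h₁ h₂ => pullback.hom_ext h₁ h₂
  have hlift : ∀ c : PullbackCone G.stabilizerToU f.fU,
      ∃ l : c.pt ⟶ G'.stabilizer, l ≫ g = c.fst ∧ l ≫ b = c.snd := by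
    intro c
    have hcc : c.fst ≫ G.stabilizerToU = c.snd ≫ f.fU := c.condition
    have e₁ : (c.fst ≫ p) ≫ G.s = c.snd ≫ f.fU := by
      rw [Category.assoc, ← hcc]; exact congrArg (c.fst ≫ ·) (stab_s G)
    have e₂ : (c.fst ≫ p) ≫ G.t = c.snd ≫ f.fU := by
      rw [Category.assoc, ← hcc]; exact congrArg (c.fst ≫ ·) (stab_t G)
    let r := hs.lift (c.fst ≫ p) c.snd e₁
    have hrs : r ≫ G'.s = c.snd := hs.lift_snd _ _ _
    have hrR : r ≫ f.fR = c.fst ≫ p := hs.lift_fst _ _ _
    have hrt : r ≫ G'.t = c.snd := (hloop r (by rw [hrR, e₁, e₂])).trans hrs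
    let l : c.pt ⟶ G'.stabilizer := pullback.lift r c.snd (loop_cond G' _ _ hrt hrs)
    have hla : l ≫ a = r := pullback.lift_fst _ _ _
    have hlb : l ≫ b = c.snd := pullback.lift_snd _ _ _
    refine ⟨l, hextG _ _ ?_ ?_, hlb⟩
    · rw [Category.assoc, hg, ← Category.assoc, hla, hrR]
    · rw [Category.assoc, hgU, ← Category.assoc, hlb, hcc]
  choose l hl₁ hl₂ using hlift
  refine ⟨g, hg, ⟨⟨hgU⟩, ⟨PullbackCone.IsLimit.mk _ l hl₁ hl₂ fun c m h₁ h₂ => ?_⟩⟩⟩
  have hb : m ≫ b = l c ≫ b := (h₂ : m ≫ b = _).trans (hl₂ c).symm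
  refine hext _ _ (hs.hom_ext ?_ ?_) hb
  · rw [Category.assoc, ← hg, Category.assoc, ← hg, reassoc_of% (hl₁ c)]
    exact (Category.assoc _ _ _).symm.trans (congrArg (· ≫ p) h₁)
  · rw [Category.assoc, hs', Category.assoc, hs', hb]

variable {S : Scheme.{u}} {𝒳 𝒳' : AlgSt.Cat S} {U U' R R' : Over S} {x : FibCat.overCat U ⥤ᵇ 𝒳}
  {h : 𝒳' ⥤ᵇ 𝒳} {E₀ : FibCat.overCat U' ⥤ᵇ FibCat.fp x h} {u : U' ⟶ U}
  (α : BasedFunctor.comp E₀ (FibCat.fpFst x h) ≅ AlgSt.overMap u)
  {hX : FibCat.IsFibGrpd 𝒳.p} {hX' : FibCat.IsFibGrpd 𝒳'.p}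
  {ω : Arr x R} (hω : Univ hX ω) {ω' : Arr (bcChart E₀) R'} (hω' : Univ hX' ω')

/-- The map of arrows. -/
def arrMap (ω' : Arr (bcChart E₀) R') : R' ⟶ R := arrHom hω (push α ω')

theorem arrMap_src : arrMap α hω ω' ≫ ω.src = ω'.src ≫ u := arrHom_src hω _

theorem arrMap_tgt : arrMap α hω ω' ≫ ω.tgt = ω'.tgt ≫ u := arrHom_tgt hω _

theorem pull_arrMap {T : Over S} (r : T ⟶ R') :
    ω.pull hX (r ≫ arrMap α hω ω') = push α (ω'.pull hX' r) := by
  rw [← Arr.pull_pull, show ω.pull hX (arrMap α hω ω') = push α ω' from pull_arrHom hω _, push_pull]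

theorem invHom_arrMap : invHom hω' ≫ arrMap α hω ω' = arrMap α hω ω' ≫ invHom hω := by
  apply pull_inj hω
  rw [pull_arrMap α hω (hX' := hX'), pull_comp_invHom, pull_invArr hX,
    show ω.pull hX (arrMap α hω ω') = push α ω' from pull_arrHom hω _,
    show ω'.pull hX' (invHom hω') = ω'.invArr hX' from pull_arrHom hω' _, push_invArr]

/-- The morphism of groupoids. -/
def bcHom : Grpd.GroupoidScheme.Hom (groupoid hω') (groupoid hω) where
  fU := u.left
  fR := (arrMap α hω ω').left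
  fU_over := Over.w u
  comm_s := congrArg Over.Hom.left (arrMap_src α hω (ω' := ω'))
  comm_t := congrArg Over.Hom.left (arrMap_tgt α hω (ω' := ω'))
  comm_c {T} a b hab := by
    let a' := overFst (R := R') a
    let b' := overSnd hab
    have h₁ : b' ≫ ω'.tgt = a' ≫ ω'.src := overSnd_tgt hab
    have h₂ : (b' ≫ arrMap α hω ω') ≫ ω.tgt = (a' ≫ arrMap α hω ω') ≫ ω.src := by
      rw [Category.assoc, arrMap_tgt, Category.assoc, arrMap_src, reassoc_of% h₁]
    have e₁ := lift_mulHom hω' a' b' h₁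
    have e₂ := lift_mulHom hω (a' ≫ arrMap α hω ω') (b' ≫ arrMap α hω ω') h₂
    have key : mulR hω' a' b' h₁ ≫ arrMap α hω ω' =
        mulR hω (a' ≫ arrMap α hω ω') (b' ≫ arrMap α hω ω') h₂ := by
      apply pull_inj hω
      rw [pull_arrMap α hω (hX' := hX'), pull_mulR, pull_mulR, push_comp]
      exact Arr.comp_congr (pull_arrMap α hω a').symm (pull_arrMap α hω b').symm _ _
    show (pullback.lift a b hab ≫ (mulHom hω').left) ≫ (arrMap α hω ω').left = _
    erw [e₁, ← Over.comp_left, key, ← e₂]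
    rfl

variable (hE : FibCat.IsEquivOver E₀) (hfaith : h.toFunctor.Faithful)

include hX hX' hE hfaith hω' in
theorem isPullback_arrMap : IsPullback (arrMap α hω ω') ω'.src ω.src u := by
  have hlift : ∀ c : PullbackCone ω.src u,
      ∃ l : c.pt ⟶ R', l ≫ arrMap α hω ω' = c.fst ∧ l ≫ ω'.src = c.snd := by
    intro c
    obtain ⟨A', hA₁, hA₂⟩ := exists_push_eq (hX := hX) α hX' hE (ω.pull hX c.fst) c.snd c.condition.symm
    refine ⟨arrHom hω' A', pull_inj hω ?_, (arrHom_src hω' A').trans hA₁⟩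
    rw [pull_arrMap α hω (hX' := hX'), pull_arrHom, hA₂]
  choose l hl₁ hl₂ using hlift
  refine ⟨⟨arrMap_src α hω⟩, ⟨PullbackCone.IsLimit.mk _ l hl₁ hl₂ fun c m h₁ h₂ => ?_⟩⟩
  apply pull_inj hω'
  refine push_inj (hX := hX) α hX' hE hfaith ?_ ?_
  · exact h₂.trans (hl₂ c).symm
  · rw [← pull_arrMap α hω (hX' := hX'), ← pull_arrMap α hω (hX' := hX'), hl₁, h₁]

variable (haut : ∀ x' : 𝒳'.obj, Function.Bijective (Gerb.autMap h x'))

include hX hX' hE hfaith haut in
/-- Loops lift to loops. -/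
theorem loop_of_push {T : Over S} (A' : Arr (bcChart E₀) T) (e : (push α A').tgt = (push α A').src) :
    A'.tgt = A'.src := by
  let a := A'.src
  let o := (bcChart E₀).obj (Over.mk a)
  let β : h.obj o ⟶ h.obj o := (kap α a).inv ≫ (push α A').hom ≫
    eqToHom (congrArg (fun c => x.obj (Over.mk c)) e) ≫ (kap α a).hom
  have hβ : IsVert 𝒳.p β := (IsVert.inv (isVert_kap α a)).comp
    ((push α A').vert.comp ((isVert_eqToHom _).comp (isVert_kap α a)))
  have := hβ.isIso hX
  let b : Gerb.AutO (h.obj o) :=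
    { hom := ⟨β, hβ.isHomLift rfl⟩
      inv := ⟨(asIso β).inv, (IsVert.inv (φ := asIso β) hβ).isHomLift rfl⟩
      hom_inv_id := Functor.Fiber.hom_ext (asIso β).hom_inv_id
      inv_hom_id := Functor.Fiber.hom_ext (asIso β).inv_hom_id }
  obtain ⟨γ, hγ⟩ := (haut o).2 b
  have hγ' : h.map γ.hom.1 = β := congrArg (fun t : Gerb.AutO (h.obj o) => t.hom.1) hγ
  let B' : Arr (bcChart E₀) T := ⟨a, a, γ.hom.1, @isVert_of_isHomLift _ _ _ _ _ _ _ _ _ γ.hom.2⟩
  have : B' = A' := push_inj (hX := hX) α hX' hE hfaith rfl (Arr.ext' rfl e.symm (by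
    show ((kap α a).hom ≫ h.map γ.hom.1 ≫ (kap α a).inv) ≫ eqToHom _ = eqToHom rfl ≫ _
    rw [hγ']
    simp [β, push, a]))
  rw [← this]

include hX hX' hE hfaith haut in
theorem hom_reflects_loops {T : Scheme.{u}} (r : T ⟶ (groupoid hω').R)
    (e : (r ≫ (bcHom α hω hω').fR) ≫ (groupoid hω).t = (r ≫ (bcHom α hω hω').fR) ≫ (groupoid hω).s) :
    r ≫ (groupoid hω').t = r ≫ (groupoid hω').s := by
  let r' := overFst (R := R') r
  refine congrArg Over.Hom.left (loop_of_push (hX := hX) (hX' := hX') α hE hfaith haut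
    (ω'.pull hX' r') ?_)
  rw [← pull_arrMap α hω (hX' := hX')]
  exact Over.OverMorphism.ext e

include hE hfaith in
theorem isPullback_bcHom_s :
    IsPullback (bcHom α hω hω').fR (groupoid hω').s (groupoid hω).s (bcHom α hω hω').fU :=
  (isPullback_arrMap α hω hω' hE hfaith).map (Over.forget S)

include hE hfaith in
theorem isPullback_bcHom_t :
    IsPullback (bcHom α hω hω').fR (groupoid hω').t (groupoid hω).t (bcHom α hω hω').fU := by
  let G := groupoid hω
  let G' := groupoid hω'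
  let I : G'.R ≅ G'.R := ⟨G'.i, G'.i, GrpdBasic.i_i G', GrpdBasic.i_i G'⟩
  let J : G.R ≅ G.R := ⟨G.i, G.i, GrpdBasic.i_i G, GrpdBasic.i_i G⟩
  refine (isPullback_bcHom_s α hω hω' hE hfaith).of_iso I J (Iso.refl _) (Iso.refl _) ?_ ?_ ?_ ?_
  · exact (congrArg Over.Hom.left (invHom_arrMap α hω hω')).symm
  · exact (Category.comp_id _).trans G'.i_t.symm
  · exact (Category.comp_id _).trans G.i_t.symm
  · simp [Iso.refl]

include hE hfaith haut in
/-- **The map of quotients is etale and the square is cartesian.** -/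
theorem etale_quotMap_bcHom [IsAffine U.left] [IsAffine R.left] [IsFinite ω.src.left] [Flat ω.src.left]
    [LocallyOfFinitePresentation ω.src.left] [IsAffine U'.left] [IsAffine R'.left]
    [IsFinite ω'.src.left] [Flat ω'.src.left] [LocallyOfFinitePresentation ω'.src.left] [Etale u.left] :
    Etale (EtQuot.quotMap (bcHom α hω hω')) ∧
      IsPullback u.left (groupoid hω').toQuot (groupoid hω).toQuot (EtQuot.quotMap (bcHom α hω hω')) := by
  have : Etale (bcHom α hω hω').fU := ‹Etale u.left›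
  exact EtQuot.etale_isPullback (bcHom α hω hω') (isPullback_bcHom_s α hω hω' hE hfaith)
    (isPullback_bcHom_t α hω hω' hE hfaith)
    (exists_stabilizer_isPullback_of_loops _ (isPullback_bcHom_s α hω hω' hE hfaith)
      fun {_} r => hom_reflects_loops α hω hω' hE hfaith haut r)

variable (hx : AlgSt.RepByAlgSpWith (FinCov S) x) (hx' : AlgSt.RepByAlgSpWith (FinCov S) (bcChart E₀))

section Moduli

variable [IsAffine U.left] [IsAffine R.left] [IsFinite ω.src.left] [Flat ω.src.left]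
  [LocallyOfFinitePresentation ω.src.left] [IsAffine U'.left] [IsAffine R'.left]
  [IsFinite ω'.src.left] [Flat ω'.src.left] [LocallyOfFinitePresentation ω'.src.left]

/-- The map of quotients, over the base. -/
def quotHom : Mo (groupoid hω') ⟶ Mo (groupoid hω) :=
  Over.homMk (EtQuot.quotMap (bcHom α hω hω')) ((AffGpd.isQuot_toQuot (groupoid hω')).epi (by
    show (groupoid hω').toQuot ≫ EtQuot.quotMap _ ≫ quotBase _ = (groupoid hω').toQuot ≫ quotBase _
    rw [← Category.assoc, EtQuot.toQuot_quotMap, Category.assoc, toQuot_quotBase, toQuot_quotBase]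
    exact Over.w u))

theorem chartQuot_quotHom : chartQuot hω' ≫ quotHom α hω hω' = u ≫ chartQuot hω :=
  Over.OverMorphism.ext (EtQuot.toQuot_quotMap (bcHom α hω hω'))

/-- The map of stacks commutes with the map of quotients. -/
theorem nonempty_iso_quotHom :
    Nonempty (BasedFunctor.comp h (toModuli hω hx) ≅
      BasedFunctor.comp (toModuli hω' hx') (AlgSt.ofSpMap ((AlgSp.yon S).map (quotHom α hω hω')))) := by
  let g := (AlgSp.yon S).map (quotHom α hω hω')
  refine nonempty_iso_of_homOf fun z => ?_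
  have hψ : (AlgSp.yon S).map ω'.tgt ≫ (AlgSp.yon S).map (chartQuot hω') ≫ g =
      (AlgSp.yon S).map ω'.src ≫ (AlgSp.yon S).map (chartQuot hω') ≫ g := by
    rw [← Category.assoc, chartQuot_inv, Category.assoc]
  refine (existsUnique_isDesc hX' hx' hω' _ hψ z).unique (fun P a c φ hφ => ?_) fun P a c φ hφ => ?_
  · have h₂ : 𝒳.p.map ((kap α a).hom ≫ h.map φ) =
        eqToHom (x.w_obj (Over.mk (a ≫ u))) ≫ (c ≫ eqToHom (h.w_obj z).symm) := by
      rw [Functor.map_comp, (isVert_kap α a).map_eq, map_map, hφ]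
      simp
    have e := toModuli_spec hω hx _ h₂
    rw [homOf_comp_left, ← Category.assoc, ← Functor.map_comp, e]
    simp only [g, ← Functor.map_comp]
    rw [chartQuot_quotHom α hω hω', Category.assoc]
  · rw [homOf_comp, ← Category.assoc, toModuli_spec hω' hx' φ hφ, Functor.map_comp, Category.assoc]

end Moduli

end Groth.KeelMori
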