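import Groth.Agent.GitQuot.KeelMori.Glued
import Groth.Agent.StkGerb.Section.SecPsh

/-!
# The pieces are the base changes of the glued moduli space
-/

set_option autoImplicit false
set_option backward.isDefEq.respectTransparency false
set_option backward.isDefEq.respectTransparency.types false

universe u

open CategoryTheory CategoryTheory.Limits AlgebraicGeometry Opposite
open Groth.StkBase Groth.AlgStBasic Groth.AlgSpBasic

noncomputable section

namespace Groth.KeelMori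

variable {S : Scheme.{u}}

theorem mem_J_of_fppf {ι : Type u} {Q : ι → Over S} {Z : Over S} (π : ∀ i, Q i ⟶ Z)
    (h : Presieve.ofArrows (fun i => (Q i).left) (fun i => (π i).left) ∈ Scheme.fppfPrecoverage Z.left) :
    Sieve.ofArrows Q π ∈ AlgSp.J S Z := by
  rw [AlgSp.J_eq, GrothendieckTopology.mem_over_iff]
  refine GrothendieckTopology.superset_covering _ ?_ (Precoverage.generate_mem_toGrothendieck h)
  rw [Sieve.generate_le_iff]
  rintro _ _ ⟨i⟩
  rw [Sieve.overEquiv_iff]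
  exact ⟨Q i, Over.homMk (𝟙 _) (by simp), π i, Presieve.ofArrows.mk i, by ext; simp⟩

variable {𝒳 : AlgSt.Cat S} (h𝒳 : AlgSt.IsAlgStack Scheme.fppfPrecoverage 𝒳) {ι : Type u}
  (P : ι → Piece 𝒳) (hcov : ∀ z : AlgSt.Points 𝒳, ∃ i, z ∈ Set.range (AlgSt.Points.map (P i).g))

include hcov in
/-- A piece is cartesian over the glued space. -/
theorem exists_isTwoCartOver_piece (i : ι) :
    ∃ e : BasedFunctor.comp (P i).g (gluedπ h𝒳 P hcov) ≅
        BasedFunctor.comp (P i).π (AlgSt.ofSpMap (inclM h𝒳 P i)),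
      FibCat.IsTwoCartOver (P i).g (P i).π e := by
  have hX := h𝒳.isStack.1
  obtain ⟨e⟩ := nonempty_iso_gluedπ h𝒳 P hcov i
  refine ⟨e, isTwoCartOver_of_local (P i).alg.isStack h𝒳.isStack (StkGerb.Section.isStack_ofSp _)
    (isPrestack_of_isStack (StkGerb.Section.isStack_ofSp _)) ((P i).faithful h𝒳) e
    (fun {T w w'} hw hw' β hβ hv => ?_) fun a m hm => ?_⟩
  · have := hβ.isIso hX
    let D := pairData h𝒳 (P i) (P i)
    let ξ : ((P i).inter (P i)).obj := fpMk (F := (P i).g) (G := (P i).g) w w' (asIso β) hβ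
    let ξ₀ : ((P i).inter (P i)).obj := (FibCat.diag (P i).g).obj w
    obtain ⟨r, hr⟩ := (AlgSp.yon S).map_surjective (valAt D.π ξ hw)
    obtain ⟨r₀, hr₀⟩ := (AlgSp.yon S).map_surjective (valAt D.π ξ₀ hw)
    have hrr : r = r₀ := by
      refine D.ext h𝒳 r r₀ ((AlgSp.yon S).map_injective ?_) ((AlgSp.yon S).map_injective ?_)
      · rw [Functor.map_comp, Functor.map_comp, hr, hr₀, ← D.commA ξ hw, ← D.commA ξ₀ hw]
        rfl
      · rw [Functor.map_comp, Functor.map_comp, hr, hr₀, ← D.commB ξ hw, ← D.commB ξ₀ hw]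
        exact hv.symm
    obtain ⟨γ, hγ, hfst⟩ := D.homA (w := ξ₀) (w' := ξ) hw hw (𝟙 w) (isVert_id _)
      (by rw [← hr, ← hr₀, hrr])
    have hc : (P i).g.map γ.hom.fst ≫ β = (Iso.refl ((P i).g.obj w)).hom ≫ (P i).g.map γ.hom.snd := γ.hom.w
    have e₁ : (P i).g.map γ.hom.fst = 𝟙 _ :=
      (congrArg (P i).g.map hfst).trans ((P i).g.toFunctor.map_id w)
    have hc' : β = (P i).g.map γ.hom.snd := (Category.id_comp β).symm.trans
      ((congrArg (· ≫ β) e₁.symm).trans (hc.trans (Category.id_comp _)))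
    exact ⟨γ.hom.snd, isVert_of_map (F := (P i).g) (by rw [← hc']; exact hβ), hc'.symm⟩
  · obtain ⟨m₀, rfl⟩ := (AlgSp.yon S).map_surjective m
    choose V c w hw φ hφ het hsurj using fun j => (P j).exists_chart h𝒳 a rfl
    have hjs : ∀ t, ∃ j, t ∈ Set.range (c j).left := fun t =>
      (hcov (AlgSt.Points.ofChart (overFunctor hX a rfl) t)).imp fun j => hsurj j t
    have : ∀ j, Etale (c j).left := het
    refine ⟨_, mem_J_of_fppf c (ofArrows_mem_fppf_of_etale (fun j => (c j).left) hjs), fun V' f hf => ?_⟩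
    obtain ⟨j, q, rfl⟩ := (Sieve.mem_ofArrows_iff V c f).1 hf
    obtain ⟨y, hy⟩ := (AlgSp.yon S).map_surjective (valAt (P j).π (w j) (hw j))
    have hrel : Rel h𝒳 (P i) (P j) (c j ≫ m₀) y := by
      refine (inclM_eq_iff h𝒳 P _ _).1 ?_
      rw [hy, Functor.map_comp, Category.assoc, ← hm]
      exact valAt_gluedπ h𝒳 P hcov rfl (c j) (hw j) (φ j) (hφ j)
    obtain ⟨r, hra, hrb⟩ := hrel
    let D := pairData h𝒳 (P i) (P j)
    obtain ⟨ξ, hξ, β, hβ, hv⟩ := D.liftB (w j) (hw j) ((AlgSp.yon S).map r)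
      (by rw [← Functor.map_comp, hrb, hy])
    obtain ⟨w', l, hw', hl⟩ := exists_lift' (P i).alg.isStack.1 (x := ξ.obj.fst) (q ≫ eqToHom hξ.symm)
    refine ⟨w', hw', (P i).g.map l ≫ ξ.obj.iso.hom ≫ (P j).g.map β ≫ φ j, ?_, ?_⟩
    · simp only [Functor.map_comp, map_map, hl, (fp_isVert ξ).map_eq, hβ.map_eq, hφ j]
      simp
    · refine (valAt_map (P i).π (hb := hξ) l hl).trans ?_
      refine (congrArg ((AlgSp.yon S).map q ≫ ·) ((D.commA ξ hξ).trans (congrArg (· ≫ _) hv))).trans ?_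
      simp only [← Functor.map_comp]
      rw [hra, Category.assoc]

end Groth.KeelMori
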