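import Groth.Agent.GitQuot.KeelMori.Desc
import Groth.Agent.GitQuot.KeelMori.GluedCart
import Groth.Agent.GitQuot.StkInertia.Descent
import Groth.Agent.GitQuot.StkSlice.Chart

/-!
# The diagonal of a stack with a finite locally free chart from a separated scheme is finite
-/

set_option autoImplicit false
set_option backward.isDefEq.respectTransparency false
set_option backward.isDefEq.respectTransparency.types false

universe u

open CategoryTheory CategoryTheory.Limits AlgebraicGeometry Opposite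
open Groth.StkBase Groth.AlgStBasic Groth.AlgSpBasic Groth.GitQuot.StkInertia

noncomputable section

namespace Groth.KeelMori

variable {S : Scheme.{u}} {𝒳 : AlgSt.Cat S}

/-- Parallel vertical morphisms of the base are equal. -/
theorem selfVert_eq {A B : (FibCat.selfOver (Over S)).obj} {f g : A ⟶ B}
    (hf : IsVert (FibCat.selfOver (Over S)).p f) (hg : IsVert (FibCat.selfOver (Over S)).p g) : f = g :=
  hf.map_eq.trans hg.map_eq.symm

theorem repWith_overMap_finite {U V : Over S} (q : U ⟶ V) (h : IsFinite q.left) :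
    AlgSt.RepByAlgSpWith AlgSp.IsFiniteMor (AlgSt.overMap q) := by
  have h' : AlgSt.RepByAlgSpWith AlgSp.IsFiniteMor
      (BasedFunctor.comp (AlgSt.ofOverCat U)
        (BasedFunctor.comp (AlgSt.ofSpMap ((AlgSp.yon S).map q)) (AlgSt.toOverCat V))) :=
    (repWith_precomp_equiv (isEquivOver_ofOverCat U) _).2
      ((repWith_postcomp_equiv _ (isEquivOver_toOverCat V)).2
        (repWith_ofPshMap_of_stable (F := ⟨_, AlgSp.IsAlgSpace.yon_obj U⟩)
          (G := ⟨_, AlgSp.IsAlgSpace.yon_obj V⟩) stableBaseChange_isFiniteMor _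
          (by rw [isFiniteMor_eq]; exact (AlgSp.repWith_yon_map_iff _ q).2 h)))
  exact h'

variable {U : Over S} {c : FibCat.overCat U ⥤ᵇ 𝒳}

/-- Pairs of points of the chart over the base are finite over pairs of objects. -/
theorem repWith_finite_fpPost_chart [IsSeparated U.hom] (hc : AlgSt.RepByAlgSpWith (FinCov S) c) :
    AlgSt.RepByAlgSpWith AlgSp.IsFiniteMor (fpPost c c (FibCat.toSelf 𝒳)) := by
  obtain ⟨R, c₀, E, hE, ⟨α₁⟩, hfin, -, -, -⟩ := exists_rep hc c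
  let G := BasedFunctor.comp E (FibCat.fpSnd c c)
  let b : R ⟶ U := eqToHom (G.w_obj (idObj R)).symm ≫ (G.obj (idObj R)).hom
  obtain ⟨α₂⟩ : Nonempty (G ≅ AlgSt.overMap b) := by
    refine (nonempty_overIso_iff (isFibGrpd_overCat U) _ _).2
      ⟨Over.homMk (eqToHom (G.w_obj (idObj R))) ?_, ⟨G.w_obj (idObj R), rfl⟩⟩
    show eqToHom _ ≫ 𝟙 R ≫ b = _
    simp [b]
  let q : R ⟶ StkSlice.sq U := Over.homMk (pullback.lift c₀.left b.left ((Over.w c₀).trans (Over.w b).symm))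
    (show pullback.lift _ _ _ ≫ pullback.fst _ _ ≫ U.hom = R.hom by
      rw [pullback.lift_fst_assoc]; exact Over.w c₀)
  have hq₁ : q ≫ StkSlice.sqFst U = c₀ := Over.OverMorphism.ext (pullback.lift_fst _ _ _)
  have hq₂ : q ≫ StkSlice.sqSnd U = b := Over.OverMorphism.ext (pullback.lift_snd _ _ _)
  have hqfin : IsFinite q.left := by
    have hs : IsSeparated (pullback.fst U.hom U.hom) := inferInstance
    have : IsFinite (q.left ≫ pullback.fst U.hom U.hom) := by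
      have e : q.left ≫ pullback.fst U.hom U.hom = c₀.left := congrArg Over.Hom.left hq₁
      rw [e]; exact hfin
    exact IsFinite.of_comp q.left (pullback.fst U.hom U.hom)
  obtain ⟨β₁⟩ := nonempty_overMap_comp_iso q (StkSlice.sqFst U)
  obtain ⟨β₂⟩ := nonempty_overMap_comp_iso q (StkSlice.sqSnd U)
  let γ₁ := α₁.trans ((eqToIso (congrArg AlgSt.overMap hq₁.symm)).trans β₁.symm)
  let γ₂ := α₂.trans ((eqToIso (congrArg AlgSt.overMap hq₂.symm)).trans β₂.symm)
  let g := BasedFunctor.comp c (FibCat.toSelf 𝒳)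
  let A := BasedFunctor.comp E (fpPost c c (FibCat.toSelf 𝒳))
  let B := BasedFunctor.comp (AlgSt.overMap q) (StkSlice.sqFun c)
  have κ : A ≅ B := fpIsoMk γ₁ γ₂ fun a =>
    selfVert_eq ((isVert_map (F := g) (isVert_isoApp γ₁ a)).comp (fp_isVert _))
      ((fp_isVert _).comp (isVert_map (F := g) (isVert_isoApp γ₂ a)))
  exact (repWith_precomp_equiv hE _).1 (repWith_of_iso κ.symm
    ((repWith_postcomp_equiv _ (StkSlice.isEquivOver_sqFun c)).2 (repWith_overMap_finite q hqfin)))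

/-- **The diagonal of a stack with a finite locally free chart from a separated scheme is finite.** -/
theorem repWith_finite_diag_of_finCov (h𝒳 : AlgSt.IsAlgStack Scheme.fppfPrecoverage 𝒳)
    [IsSeparated U.hom] (hc : AlgSt.RepByAlgSpWith (FinCov S) c) :
    AlgSt.RepByAlgSpWith AlgSp.IsFiniteMor (FibCat.diag (FibCat.toSelf 𝒳)) := by
  have hX := h𝒳.isStack.1
  let g := FibCat.toSelf 𝒳
  have hpre : AlgSt.RepByAlgSpWith AlgSp.IsFiniteMor (FibCat.fpFst (fpPre c c g g) (FibCat.diag g)) :=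
    (repWith_precomp_equiv (isEquivOver_diagFp' c c g) _).1
      (repWith_of_iso (fpIsoMk (Iso.refl _) (Iso.refl _) fun _ => by simp [fpPost, diagFp'])
        (repWith_finite_fpPost_chart hc))
  refine repWith_of_locally_tests stableBaseChange_isFiniteMor isLocalOnBase_fppf_isFiniteMor
    h𝒳.diag fun T y => ?_
  let o := y.obj (idObj T)
  have hT₁ : 𝒳.p.obj o.obj.fst = T := y.w_obj (idObj T)
  have hT₂ : 𝒳.p.obj o.obj.snd = T := (fp_p_snd o).trans hT₁
  obtain ⟨P₁, a₁, c₁, φ₁, hφ₁, _, _, _, _⟩ := exists_cover hX hc o.obj.fst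
  obtain ⟨P₂, a₂, c₂, φ₂, hφ₂, _, _, _, _⟩ := exists_cover hX hc o.obj.snd
  let d₁ : P₁ ⟶ T := c₁ ≫ eqToHom hT₁
  let d₂ : P₂ ⟶ T := c₂ ≫ eqToHom hT₂
  have hd₁ : Flat d₁.left ∧ LocallyOfFinitePresentation d₁.left ∧ Surjective d₁.left :=
    ⟨inferInstanceAs (Flat (c₁.left ≫ (eqToHom hT₁).left)),
      inferInstanceAs (LocallyOfFinitePresentation (c₁.left ≫ (eqToHom hT₁).left)),
      inferInstanceAs (Surjective (c₁.left ≫ (eqToHom hT₁).left))⟩
  have hd₂ : Flat d₂.left ∧ LocallyOfFinitePresentation d₂.left ∧ Surjective d₂.left :=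
    ⟨inferInstanceAs (Flat (c₂.left ≫ (eqToHom hT₂).left)),
      inferInstanceAs (LocallyOfFinitePresentation (c₂.left ≫ (eqToHom hT₂).left)),
      inferInstanceAs (Surjective (c₂.left ≫ (eqToHom hT₂).left))⟩
  obtain ⟨_, _, _⟩ := hd₁
  obtain ⟨_, _, _⟩ := hd₂
  let W : Over S := Over.mk (pullback.fst d₁.left d₂.left ≫ P₁.hom)
  let w₁ : W ⟶ P₁ := Over.homMk (pullback.fst d₁.left d₂.left) rfl
  let w₂ : W ⟶ P₂ := Over.homMk (pullback.snd d₁.left d₂.left) (by
    show _ = pullback.fst _ _ ≫ P₁.hom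
    rw [← Over.w d₁, pullback.condition_assoc, Over.w d₂])
  have hw : w₁ ≫ d₁ = w₂ ≫ d₂ := Over.OverMorphism.ext pullback.condition
  let w : W ⟶ T := w₁ ≫ d₁
  refine ⟨_, mem_J_of_fppf (fun _ : PUnit.{u + 1} => w) ?_, fun V h hh => ?_⟩
  · rw [Scheme.fppfPrecoverage, Scheme.ofArrows_mem_precoverage_iff]
    have : Surjective w.left := inferInstanceAs (Surjective (pullback.fst d₁.left d₂.left ≫ d₁.left))
    exact ⟨fun b => ⟨PUnit.unit, w.left.surjective b⟩, fun _ =>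
      ⟨inferInstanceAs (Flat (pullback.fst d₁.left d₂.left ≫ d₁.left)),
        inferInstanceAs (LocallyOfFinitePresentation (pullback.fst d₁.left d₂.left ≫ d₁.left))⟩⟩
  obtain ⟨-, l, rfl⟩ := (Sieve.mem_ofArrows_iff _ _ h).1 hh
  let r₁ : V ⟶ P₁ := l ≫ w₁
  let r₂ : V ⟶ P₂ := l ≫ w₂
  let q : V ⟶ StkSlice.sq U :=
    Over.homMk (pullback.lift (r₁ ≫ a₁).left (r₂ ≫ a₂).left ((Over.w _).trans (Over.w _).symm))
      (show pullback.lift _ _ _ ≫ pullback.fst _ _ ≫ U.hom = V.hom by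
        rw [pullback.lift_fst_assoc]; exact Over.w (r₁ ≫ a₁))
  have hq₁ : q ≫ StkSlice.sqFst U = r₁ ≫ a₁ := Over.OverMorphism.ext (pullback.lift_fst _ _ _)
  have hq₂ : q ≫ StkSlice.sqSnd U = r₂ ≫ a₂ := Over.OverMorphism.ext (pullback.lift_snd _ _ _)
  let z := BasedFunctor.comp (AlgSt.overMap q) (StkSlice.sqFun c)
  let Z := BasedFunctor.comp z (fpPre c c g g)
  let Y := BasedFunctor.comp (AlgSt.overMap (l ≫ w)) y
  let o' : (FibCat.overCat T).obj := (AlgSt.overMap (l ≫ w)).obj (idObj V)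
  let g₁ : (FibCat.overCat U).obj := (AlgSt.overMap (StkSlice.sqFst U)).obj ((AlgSt.overMap q).obj (idObj V))
  let g₂ : (FibCat.overCat U).obj := (AlgSt.overMap (StkSlice.sqSnd U)).obj ((AlgSt.overMap q).obj (idObj V))
  have hg₁ : g₁.hom = r₁ ≫ a₁ := by
    show (𝟙 V ≫ q) ≫ StkSlice.sqFst U = _
    rw [Category.id_comp, hq₁]
  have hg₂ : g₂.hom = r₂ ≫ a₂ := by
    show (𝟙 V ≫ q) ≫ StkSlice.sqSnd U = _
    rw [Category.id_comp, hq₂]
  let k₁ : g₁ ⟶ Over.mk a₁ := Over.homMk r₁ hg₁.symm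
  let k₂ : g₂ ⟶ Over.mk a₂ := Over.homMk r₂ hg₂.symm
  let L := y.map (toId o')
  have hL : (FibCat.fp g g).p.map L = eqToHom (y.w_obj o') ≫ o'.hom ≫ eqToHom (y.w_obj (idObj T)).symm :=
    map_map y (toId o')
  have ho' : o'.hom = l ≫ w := Category.id_comp _
  have hk₁ : (FibCat.overCat U).p.map k₁ = r₁ := rfl
  have hk₂ : (FibCat.overCat U).p.map k₂ = r₂ := rfl
  have e₁ : (fun z : V ⟶ T => z) (l ≫ w) = r₁ ≫ d₁ := (Category.assoc _ _ _).symm
  have e₂ : (fun z : V ⟶ T => z) (l ≫ w) = r₂ ≫ d₂ := by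
    show l ≫ w₁ ≫ d₁ = (l ≫ w₂) ≫ d₂
    rw [hw, Category.assoc]
  obtain ⟨i₁, hi₁, -⟩ := exists_vert_iso_of_lifts hX (c.map k₁ ≫ φ₁) L.hom.fst
    ((c.w_obj g₁).trans (y.w_obj o').symm) (by
      rw [Functor.map_comp, map_map c k₁, hk₁, hφ₁,
        show 𝒳.p.map L.hom.fst = _ from hL, ho', show l ≫ w = r₁ ≫ d₁ from e₁]
      simp [d₁])
  obtain ⟨i₂, hi₂, -⟩ := exists_vert_iso_of_lifts hX (c.map k₂ ≫ φ₂) L.hom.snd
    ((c.w_obj g₂).trans ((fp_p_snd (y.obj o')).trans (y.w_obj o')).symm) (by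
      rw [Functor.map_comp, map_map c k₂, hk₂, hφ₂, fp_map_snd,
        show 𝒳.p.map L.hom.fst = _ from hL, ho', show l ≫ w = r₂ ≫ d₂ from e₂]
      simp [d₂])
  let ψ : Z.obj (idObj V) ⟶ Y.obj (idObj V) := fpHom (x := Z.obj (idObj V)) (y := Y.obj (idObj V))
    i₁.hom i₂.hom (selfVert_eq ((isVert_map (F := g) hi₁).comp (fp_isVert _))
      ((fp_isVert _).comp (isVert_map (F := g) hi₂)))
  obtain ⟨β⟩ : Nonempty (Z ≅ Y) := (nonempty_overIso_iff (isFibGrpd_fp hX hX isFibGrpd_selfOver) _ _).2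
    ⟨ψ, (isVert_fp_iff ψ).2 hi₁⟩
  exact RepFst.of_equiv (isEquivOver_comp (isEquivOver_fpPaste z (fpPre c c g g) (FibCat.diag g))
    (isEquivOver_fpCongr β (Iso.refl (FibCat.diag g)))) (Iso.refl _) (hpre V z)

/-- A stack with a finite locally free chart from a separated scheme is separated with finite inertia. -/
theorem separated_finite_inertia_of_finCov (h𝒳 : AlgSt.IsAlgStack Scheme.fppfPrecoverage 𝒳)
    [IsSeparated U.hom] (hc : AlgSt.RepByAlgSpWith (FinCov S) c) :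
    AlgSt.IsSeparatedOver 𝒳 ∧
      AlgSt.RepByAlgSpWith AlgSp.IsFiniteMor (FibCat.inertiaToBase (FibCat.toSelf 𝒳)) :=
  ⟨repWith_mono (fun _ _ _ hX hY h => Groth.AlgSp2.isProperMor_of_isFiniteMor hX hY h)
      (repWith_finite_diag_of_finCov h𝒳 hc),
    repWith_inertiaToBase _ (repWith_finite_diag_of_finCov h𝒳 hc)⟩

end Groth.KeelMori
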