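import Groth.Prelude.Def_RedSub
import Groth.Agent.PnCoh.OverAffine
import Groth.Agent.Variety2.ProjBasics
import Groth.Agent.S7388

/-!
# Schemes quasi-projective Zariski-locally over the base
-/

set_option autoImplicit false
set_option backward.isDefEq.respectTransparency false
set_option backward.isDefEq.respectTransparency.types false

universe u

open CategoryTheory CategoryTheory.Limits AlgebraicGeometry

noncomputable section

namespace Groth.KeelMori

variable {S : Scheme.{u}} {U : Over S}

instance isSeparated_toBase (n : ℕ) (T : Scheme.{u}) : IsSeparated (CohB1.ProjSpaceOver.toBase n T) :=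
  inferInstanceAs (IsSeparated (pullback.snd _ _))

/-- A locally quasi-projective scheme is separated over the base. -/
theorem isSeparated_of_locallyQuasiProjective (hU : RedSub.IsLocallyQuasiProjective U) :
    IsSeparated U.hom := by
  choose V hV n e he hfac using hU
  refine IsZariskiLocalAtTarget.of_iSup_eq_top (P := @IsSeparated) V
    (top_unique fun s _ => TopologicalSpace.Opens.mem_iSup.2 ⟨s, hV s⟩) fun s => ?_
  refine (MorphismProperty.arrow_mk_iso_iff @IsSeparated (morphismRestrictOpensRange U.hom (V s).ι)).2 ?_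
    |> fun h => (congrArg (fun W => IsSeparated (U.hom ∣_ W)) (Scheme.Opens.opensRange_ι (V s))).mp h
  show IsSeparated (Red.bc (V s).ι U).hom
  have := he s
  rw [← hfac s]; infer_instance

/-- A finite set of points over one point of the base lies in an affine open. -/
theorem exists_affineOpen_of_finite_fibre (hU : RedSub.IsLocallyQuasiProjective U) (s : S)
    (E : Set U.left) (hE : E.Finite) (hs : ∀ x ∈ E, U.hom x = s) :
    ∃ A : U.left.Opens, IsAffineOpen A ∧ E ⊆ (A : Set U.left) := by
  obtain ⟨V, hsV, n, e, he, hfac⟩ := hU s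
  obtain ⟨V', hV', hsV', hle⟩ := exists_isAffineOpen_mem_and_subset hsV
  let R : CommRingCat.{u} := Γ(S, V')
  let X := pullback U.hom V'.ι
  let j : X ⟶ U.left := pullback.fst U.hom V'.ι
  let m : X ⟶ (Red.bc V.ι U).left :=
    pullback.lift j (pullback.snd U.hom V'.ι ≫ S.homOfLE hle) (by
      rw [Category.assoc, Scheme.homOfLE_ι]; exact pullback.condition)
  have : IsImmersion (m ≫ pullback.fst U.hom V.ι) := by
    have h : m ≫ pullback.fst U.hom V.ι = j := pullback.lift_fst _ _ _
    rw [h]; infer_instance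
  have : IsImmersion m := IsImmersion.of_comp m (pullback.fst U.hom V.ι)
  let T := CohB1.ProjSpace.toSpec n (ULift.{u} ℤ)
  let b : Spec (CommRingCat.of ↥R) ⟶ (V : Scheme.{u}) := hV'.isoSpec.inv ≫ S.homOfLE hle
  let ψ : CohB1.ProjSpaceOver n (Spec (CommRingCat.of ↥R)) ⟶ CohB1.ProjSpaceOver n (V : Scheme.{u}) :=
    pullback.lift (pullback.fst _ _) (pullback.snd _ _ ≫ b) (specULiftZIsTerminal.hom_ext _ _)
  let k : X ⟶ CohB1.ProjSpaceOver n (Spec (CommRingCat.of ↥R)) :=
    pullback.lift (m ≫ e ≫ pullback.fst _ _) (pullback.snd U.hom V'.ι ≫ hV'.isoSpec.hom)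
      (specULiftZIsTerminal.hom_ext _ _)
  have hk : k ≫ ψ = m ≫ e := by
    apply pullback.hom_ext
    · erw [Category.assoc, pullback.lift_fst, pullback.lift_fst, Category.assoc]
    · have h₂ : e ≫ pullback.snd _ _ = pullback.snd U.hom V.ι := hfac
      have h₃ : m ≫ pullback.snd U.hom V.ι = pullback.snd U.hom V'.ι ≫ S.homOfLE hle :=
        pullback.lift_snd _ _ _
      erw [Category.assoc, pullback.lift_snd, Category.assoc m, h₂, h₃, ← Category.assoc k,
        pullback.lift_snd, Category.assoc]
      simp [b]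
  have : IsImmersion (k ≫ ψ) := by rw [hk]; infer_instance
  have : IsImmersion k := IsImmersion.of_comp k ψ
  let ι : X ⟶ Proj (CohB1.polyGrading n ↥R) := k ≫ (PnCoh.overIso n ↥R).inv
  obtain ⟨A, hA, hEA⟩ := Groth.Agent.S7388.result (CohB1.polyGrading n ↥R) ι (j ⁻¹' E)
    (hE.preimage j.isOpenEmbedding.injective.injOn)
  refine ⟨j ''ᵁ A, hA.image_of_isOpenImmersion j, fun x hx => ?_⟩
  have hxr : x ∈ Set.range j := by
    rw [Scheme.Pullback.range_fst, Scheme.Opens.range_ι]
    show U.hom x ∈ V'
    rw [hs x hx]; exact hsV'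
  obtain ⟨y, rfl⟩ := hxr
  exact ⟨y, hEA hx, rfl⟩

end Groth.KeelMori
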