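import Groth.Agent.GitQuot.KeelMori.UnifModuli
import Groth.Agent.GitQuot.GrpdInvAffine
import Groth.Agent.GitQuot.QSplit.Loops
import Groth.Agent.AlgStBasic.OpenSub

/-!
# Well-nigh affine open neighbourhoods in a stack with a finite locally free chart
-/

set_option autoImplicit false
set_option backward.isDefEq.respectTransparency false
set_option backward.isDefEq.respectTransparency.types false

universe u

open CategoryTheory CategoryTheory.Limits AlgebraicGeometry Opposite Topology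
open Groth.StkBase Groth.AlgSpBasic Groth.AlgStBasic

noncomputable section

namespace Groth.KeelMori

variable {S : Scheme.{u}} {𝒲 : AlgSt.Cat S}

/-- The open substack of a set of points with affine preimage in a finite locally free chart is
well-nigh affine. -/
theorem wellNighAffine_inPts (hW : FibCat.IsFibGrpd 𝒲.p) {Z : Over S}
    {q : FibCat.overCat Z ⥤ᵇ 𝒲} (hq : AlgSt.RepByAlgSpWith (FinCov S) q)
    (T : Set (AlgSt.Points 𝒲)) (O : Z.left.Opens) (hO : IsAffineOpen O)
    (hOT : ∀ a, a ∈ O ↔ AlgSt.Points.ofChart q a ∈ T) :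
    AlgSt.IsWellNighAffine (AlgSt.fullSub 𝒲 (inPts T)) := by
  let i := AlgSt.subIncl 𝒲 (inPts T)
  let OV : Over S := Over.mk (O.ι ≫ Z.hom)
  let j : OV ⟶ Z := Over.homMk O.ι
  have hmem : ∀ g : (FibCat.overCat OV).obj, inPts T (q.obj ((AlgSt.overMap j).obj g)) := fun g => by
    refine (inPts_obj_iff hW q _).2 fun a => ?_
    exact (hOT _).1 (g.hom.left a).2
  let B : FibCat.overCat OV ⥤ᵇ AlgSt.fullSub 𝒲 (inPts T) :=
    { toFunctor := ObjectProperty.lift _ (BasedFunctor.comp (AlgSt.overMap j) q).toFunctor hmem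
      w := (BasedFunctor.comp (AlgSt.overMap j) q).w }
  let γ : BasedFunctor.comp (AlgSt.overMap j) q ≅ BasedFunctor.comp B i := Iso.refl _
  let Λ := FibCat.fpLift (F := q) (G := i) (AlgSt.overMap j) B γ
  have hΛ : FibCat.IsEquivOver Λ := by
    have hj : Mono j.left := inferInstanceAs (Mono O.ι)
    refine isEquivOver_of_fullyFaithful _ ⟨fun {g g'} h => ?_⟩ ⟨fun {g g'} a b e => ?_⟩ (fun p => ?_)
    · have hw : h.hom.fst.left ≫ g'.hom ≫ j = g.hom ≫ j := Over.w h.hom.fst
      have hm : Mono j := (Over.forget S).mono_of_mono_map hj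
      let a : g ⟶ g' := Over.homMk h.hom.fst.left ((cancel_mono j).1 (by rw [Category.assoc, hw]))
      refine ⟨a, fp_hom_ext (Over.OverMorphism.ext rfl) ?_⟩
      have w := h.hom.w
      simp [Λ, i, γ, FibCat.fpLift, AlgSt.subIncl] at w
      have w' : q.map h.hom.fst = h.hom.snd.hom :=
        ((Category.comp_id _).symm.trans w).trans (Category.id_comp _)
      apply ObjectProperty.hom_ext
      exact (congrArg q.map (Over.OverMorphism.ext rfl)).trans w'
    · exact Over.OverMorphism.ext (congrArg (fun t => t.hom.fst.left) e)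
    · have hg := (inPts_obj_iff hW q p.obj.fst).1
        (inPts_of_hom p.obj.iso.hom p.obj.snd.property)
      have hr : Set.range p.obj.fst.hom.left ⊆ Set.range O.ι := by
        rintro _ ⟨a, rfl⟩
        rw [Scheme.Opens.range_ι]
        exact (hOT _).2 (hg a)
      let l : p.obj.fst.left ⟶ OV := Over.homMk (IsOpenImmersion.lift O.ι p.obj.fst.hom.left hr) (by
        show IsOpenImmersion.lift O.ι p.obj.fst.hom.left hr ≫ O.ι ≫ Z.hom = _
        rw [← Category.assoc, IsOpenImmersion.lift_fac, Over.w])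
      have hl : l ≫ j = p.obj.fst.hom := Over.OverMorphism.ext (IsOpenImmersion.lift_fac _ _ _)
      let φ : (AlgSt.overMap j).obj (Over.mk l) ≅ p.obj.fst :=
        Over.isoMk (Iso.refl _) (by show 𝟙 _ ≫ p.obj.fst.hom = l ≫ j; rw [hl, Category.id_comp])
      let ψ : B.obj (Over.mk l) ≅ p.obj.snd :=
        (ObjectProperty.fullyFaithfulι _).preimageIso (q.toFunctor.mapIso φ ≪≫ p.obj.iso)
      refine ⟨Over.mk l, fpObjIso φ ψ ?_, ?_⟩
      · simp [Λ, i, γ, ψ, FibCat.fpLift, AlgSt.subIncl]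
        exact (Category.id_comp _).symm
      · exact ⟨rfl, rfl⟩
  have : IsAffine O.toScheme := hO
  exact ⟨OV, B, this, repWith_of_iso (f := BasedFunctor.comp Λ (FibCat.fpSnd q i)) (Iso.refl _)
    ((repWith_precomp_equiv hΛ _).2 (repWith_fpSnd q i hq))⟩

section Orbit

variable {hW : FibCat.IsFibGrpd 𝒲.p} {Z R : Over S} {q : FibCat.overCat Z ⥤ᵇ 𝒲}
  {ω : StkSlice.Arr q R} (hω : StkSlice.Univ hW ω)

include hω

/-- Points with the same image are related by the chart groupoid, and conversely. -/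
theorem ofChart_eq_iff (a b : ↥Z.left) :
    AlgSt.Points.ofChart q a = AlgSt.Points.ofChart q b ↔
      ∃ r : ↥R.left, ω.src.left r = a ∧ ω.tgt.left r = b := by
  constructor
  · intro e
    obtain ⟨p, la, lb, -⟩ := (mk_eq_mk_iff hW).1 e
    let ba : Over.mk (Z.left.fromSpecResidueField a ≫ Z.hom) ⟶ Z :=
      Over.homMk (Z.left.fromSpecResidueField a) rfl
    let bb : Over.mk (Z.left.fromSpecResidueField b ≫ Z.hom) ⟶ Z :=
      Over.homMk (Z.left.fromSpecResidueField b) rfl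
    change p.obj ⟶ q.obj (Over.mk ba) at la
    change p.obj ⟶ q.obj (Over.mk bb) at lb
    let ca := eqToHom p.lies.symm ≫ 𝒲.p.map la ≫ eqToHom (q.w_obj (Over.mk ba))
    let cb := eqToHom p.lies.symm ≫ 𝒲.p.map lb ≫ eqToHom (q.w_obj (Over.mk bb))
    obtain ⟨ja, hja, -⟩ := exists_vert_iso_of_lifts hW (StkSlice.Arr.xMap q ca ba) la
      ((q.w_obj (Over.mk (ca ≫ ba))).trans p.lies.symm)
      (by rw [StkSlice.Arr.xMap_p]; simp [ca])
    obtain ⟨jb, hjb, -⟩ := exists_vert_iso_of_lifts hW (StkSlice.Arr.xMap q cb bb) lb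
      ((q.w_obj (Over.mk (cb ≫ bb))).trans p.lies.symm)
      (by rw [StkSlice.Arr.xMap_p]; simp [cb])
    let A : StkSlice.Arr q (Over.mk p.str) :=
      ⟨ca ≫ ba, cb ≫ bb, ja.hom ≫ jb.inv, hja.comp hjb.inv⟩
    refine ⟨(StkSlice.arrHom hω A).left (IsLocalRing.closedPoint p.K), ?_, ?_⟩
    · have h := congrArg (fun k : Over.mk p.str ⟶ Z => k.left (IsLocalRing.closedPoint p.K))
        (StkSlice.arrHom_src hω A)
      exact h.trans (Scheme.fromSpecResidueField_apply a _)
    · have h := congrArg (fun k : Over.mk p.str ⟶ Z => k.left (IsLocalRing.closedPoint p.K))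
        (StkSlice.arrHom_tgt hω A)
      exact h.trans (Scheme.fromSpecResidueField_apply b _)
  · rintro ⟨r, rfl, rfl⟩
    rw [← ofChart_overMap, ← ofChart_overMap]
    exact mk_eq_of_hom (ω.pull hW (Over.homMk (R.left.fromSpecResidueField r) rfl :
      Over.mk (R.left.fromSpecResidueField r ≫ R.hom) ⟶ R)).hom

end Orbit

/-- A point of a stack with a finite locally free chart, quasi-finite and separated over an affine scheme, has
well-nigh affine open neighbourhoods in every open set containing it. -/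
theorem exists_wna_nhd (hA : AlgSt.IsAlgStack Scheme.fppfPrecoverage 𝒲) {Z V : Over S}
    {q : FibCat.overCat Z ⥤ᵇ 𝒲} (hq : AlgSt.RepByAlgSpWith (FinCov S) q) [IsAffine V.left]
    (k : Z ⟶ V) [IsSeparated k.left] [LocallyQuasiFinite k.left] [LocallyOfFiniteType k.left]
    (T' : Set (AlgSt.Points 𝒲)) (hT' : IsOpen T') (z₀ : AlgSt.Points 𝒲) (hz₀ : z₀ ∈ T') :
    ∃ T : Set (AlgSt.Points 𝒲), IsOpen T ∧ z₀ ∈ T ∧ T ⊆ T' ∧
      AlgSt.IsWellNighAffine (AlgSt.fullSub 𝒲 (inPts T)) := by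
  have hW := hA.isStack.1
  obtain ⟨R, ω, hω, hfin, hflat, hlfp, -⟩ := exists_finite_chart_groupoid hW hq
  let G := StkSlice.groupoid hω
  have : IsFinite G.s := hfin
  have : Flat G.s := hflat
  have : LocallyOfFinitePresentation G.s := hlfp
  obtain ⟨a, rfl⟩ := surjective_ofChart hW
    (repWith_mono (fun _ _ _ _ _ h => h.1.1.1) hq) z₀
  let O : Z.left.Opens := ⟨AlgSt.Points.ofChart q ⁻¹' T', hT'.preimage (continuous_ofChart hA q)⟩
  have horb : ∀ r : G.R, G.s r = a → G.t r ∈ O := fun r hr => by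
    have e := (ofChart_eq_iff hω a (G.t r)).2 ⟨r, hr, rfl⟩
    show AlgSt.Points.ofChart q (G.t r) ∈ T'
    rw [← e]; exact hz₀
  let E : Set O.toScheme := O.ι ⁻¹' (⇑G.t '' (⇑G.s ⁻¹' {a}))
  have hE : E.Finite :=
    ((G.s.finite_preimage_singleton a).image _).preimage O.ι.isOpenEmbedding.injective.injOn
  obtain ⟨V₀, hV₀, hEV, -⟩ := QSplit.exists_affine_qf (O.ι ≫ k.left) E hE fun x _ =>
    Scheme.Hom.quasiFiniteAt_iff_isOpen_singleton_asFiber.1 ((O.ι ≫ k.left).quasiFiniteAt x)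
  obtain ⟨W₁, hWaff, haW, hWle, hWinv⟩ := GrpdBasic.exists_invariant_affineOpen G a (O.ι ''ᵁ V₀)
    (hV₀.image_of_isOpenImmersion O.ι) fun r hr => ⟨⟨G.t r, horb r hr⟩, hEV ⟨r, hr, rfl⟩, rfl⟩
  let W : Z.left.Opens := W₁
  let T := AlgSt.Points.ofChart q '' (W : Set Z.left)
  have hpre : ∀ b, b ∈ W ↔ AlgSt.Points.ofChart q b ∈ T := fun b => by
    refine ⟨fun hb => ⟨b, hb, rfl⟩, ?_⟩
    rintro ⟨b', hb', e⟩
    obtain ⟨r, rfl, rfl⟩ := (ofChart_eq_iff hω b' b).1 e
    exact (SetLike.ext_iff.1 hWinv r).1 hb'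
  refine ⟨T, ?_, ⟨a, haW, rfl⟩, ?_, wellNighAffine_inPts hW hq T W hWaff hpre⟩
  · exact isOpenMap_ofChart hW (repWith_mono (fun _ _ _ _ _ h => h.1.1.2) hq)
      (repWith_mono (fun _ _ _ _ _ h => h.2) hq) _ W.2
  · rintro _ ⟨b, hb, rfl⟩
    obtain ⟨⟨b', hb''⟩, -, rfl⟩ := (hWle hb).1
    exact hb''

end Groth.KeelMori
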