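import Groth.Agent.GitQuot.KeelMori.TransferIso
import Groth.Agent.GitQuot.KeelMori.FinCovDiag
import Groth.Agent.GitQuot.KeelMori.LocQProj
import Groth.Agent.GitQuot.KeelMori.WnaNhd
import Groth.Agent.GitQuot.KeelMori.EtaleNhd
import Groth.Agent.GitQuot.KeelMori.Lft
import Groth.Agent.GitQuot.KeelMori.MSep

/-!
# Pieces which are open substacks, for a finite locally free chart from a quasi-projective scheme
-/

set_option autoImplicit false
set_option backward.isDefEq.respectTransparency false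
set_option backward.isDefEq.respectTransparency.types false

universe u

open CategoryTheory CategoryTheory.Limits AlgebraicGeometry Opposite Topology
open Groth.StkBase Groth.AlgStBasic Groth.AlgSpBasic

noncomputable section

namespace Groth.KeelMori

variable {S : Scheme.{u}} {𝒳 : AlgSt.Cat S}

theorem finCov_of (U : Over S) {c : FibCat.overCat U ⥤ᵇ 𝒳}
    (hc : AlgSt.RepByAlgSpWith (AlgSp.IsFiniteMor ⊓ AlgSp.LocP (@Flat ⊓ @LocallyOfFinitePresentation) ⊓
      AlgSp.IsSurjectiveMor) c) : AlgSt.RepByAlgSpWith (FinCov S) c :=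
  repWith_mono (fun _ _ _ _ _ h => ⟨⟨⟨h.2, locP_mono (fun _ _ _ hk => hk.1) h.1.2⟩, h.1.1⟩,
    locP_mono (fun _ _ _ hk => hk.2) h.1.2⟩) hc

/-- The pieces: invariant affine opens of the chart. -/
theorem exists_open_pieces (h𝒳 : AlgSt.IsAlgStack Scheme.fppfPrecoverage 𝒳) {U : Over S}
    (hU : RedSub.IsLocallyQuasiProjective U) {c : FibCat.overCat U ⥤ᵇ 𝒳}
    (hc : AlgSt.RepByAlgSpWith (FinCov S) c) :
    ∃ (ι : Type u) (P : ι → Piece 𝒳),
      (∀ z : AlgSt.Points 𝒳, ∃ i, z ∈ Set.range (AlgSt.Points.map (P i).g)) ∧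
      ∀ i, (P i).g.toFunctor.Full := by
  have hX := h𝒳.isStack.1
  obtain ⟨R, ω, hω, hfin, hflat, hlfp, -⟩ := exists_finite_chart_groupoid hX hc
  let G := StkSlice.groupoid hω
  have : IsFinite G.s := hfin
  have : Flat G.s := hflat
  have : LocallyOfFinitePresentation G.s := hlfp
  have key : ∀ a : U.left, ∃ P : Piece 𝒳, AlgSt.Points.ofChart c a ∈ Set.range (AlgSt.Points.map P.g) ∧
      P.g.toFunctor.Full := by
    intro a
    obtain ⟨A, hA, hEA⟩ := exists_affineOpen_of_finite_fibre hU (U.hom a) (⇑G.t '' (⇑G.s ⁻¹' {a}))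
      ((G.s.finite_preimage_singleton a).image _) (by
        rintro _ ⟨r, hr, rfl⟩
        have e : ω.tgt.left ≫ U.hom = ω.src.left ≫ U.hom := (Over.w ω.tgt).trans (Over.w ω.src).symm
        have e' := congrArg (fun f : R.left ⟶ S => f r) e
        simp only [Scheme.Hom.comp_apply] at e'
        rw [show G.t r = ω.tgt.left r from rfl, e', show ω.src.left r = a from hr])
    obtain ⟨W₁, hWaff, haW, -, hWinv⟩ := GrpdBasic.exists_invariant_affineOpen G a A hA
      fun r hr => hEA ⟨r, hr, rfl⟩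
    let W : U.left.Opens := W₁
    let T := AlgSt.Points.ofChart c '' (W : Set U.left)
    have hT : IsOpen T := isOpenMap_ofChart hX (repWith_mono (fun _ _ _ _ _ h => h.1.1.2) hc)
      (repWith_mono (fun _ _ _ _ _ h => h.2) hc) _ W.2
    have hpre : ∀ b, b ∈ W ↔ AlgSt.Points.ofChart c b ∈ T := fun b => by
      refine ⟨fun hb => ⟨b, hb, rfl⟩, ?_⟩
      rintro ⟨b', hb', e⟩
      obtain ⟨r, rfl, rfl⟩ := (ofChart_eq_iff hω b' b).1 e
      exact (SetLike.ext_iff.1 hWinv r).1 hb'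
    let g := AlgSt.subIncl 𝒳 (inPts T)
    have hW : AlgSt.IsAlgStack Scheme.fppfPrecoverage (AlgSt.fullSub 𝒳 (inPts T)) :=
      (isOpenSubstack_inPts h𝒳 hT).2.1
    have hwna := wellNighAffine_inPts hX hc T W hWaff hpre
    have hes := repWith_etaleSep_subIncl h𝒳 hT
    have hfull : g.toFunctor.Full := inferInstanceAs (ObjectProperty.ι _).Full
    have hfaith : g.toFunctor.Faithful := inferInstanceAs (ObjectProperty.ι _).Faithful
    have haut : ∀ w, Function.Bijective (Gerb.autMap g w) :=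
      bijective_autMap_of hW.isStack.1 hfaith fun w β hβ => by
        obtain ⟨α, hα⟩ := hfull.map_surjective β
        exact ⟨α, isVert_of_map (F := g) (by rw [hα]; exact hβ), hα⟩
    obtain ⟨M, π, h₁, h₂, h₃, h₄, h₅, h₆⟩ := exists_wna_moduli hW hwna
    refine ⟨⟨_, g, hW, hwna, repWith_mono (fun _ _ _ _ hB h => isEtaleMor_of_locP hB h.1) hes,
      ((tfae_separated (repWith_repByAlgSp1 hes)).out 0 2).1 (repWith_mono (fun _ _ _ _ _ h => h.2) hes),
      haut, M, π, h₁, h₂, h₃, h₄, h₅, h₆⟩, ?_, hfull⟩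
    show AlgSt.Points.ofChart c a ∈ Set.range (AlgSt.Points.map (AlgSt.subIncl 𝒳 (inPts T)))
    rw [range_subIncl_inPts_eq]
    exact ⟨a, haW, rfl⟩
  choose P hP hPf using key
  refine ⟨U.left, P, fun z => ?_, hPf⟩
  obtain ⟨a, rfl⟩ := surjective_ofChart hX (repWith_mono (fun _ _ _ _ _ h => h.1.1.1) hc) z
  exact ⟨a, hP a⟩

/-- **A stack with a finite locally free chart from a locally quasi-projective scheme has a coarse
moduli scheme.** -/
theorem exists_scheme_coarse (h𝒳 : AlgSt.IsAlgStack Scheme.fppfPrecoverage 𝒳) {U : Over S}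
    (hU : RedSub.IsLocallyQuasiProjective U) {c : FibCat.overCat U ⥤ᵇ 𝒳}
    (hc : AlgSt.RepByAlgSpWith (FinCov S) c) :
    ∃ (Y : Over S) (π : 𝒳 ⥤ᵇ AlgSt.ofSch Y),
      AlgSt.IsCoarseModuli π ∧ AlgSt.IsSeparatedMor π ∧ AlgSt.IsUnivHomeo Scheme.fppfPrecoverage π ∧
      (∀ (M' : AlgSp.Sp S), AlgSp.IsAlgSpace M' → ∀ g : M' ⟶ (AlgSp.yon S).obj Y, AlgSp.LocP @Flat g →
        AlgSt.IsCoarseModuli (FibCat.fpFst (AlgSt.ofSpMap g) π)) ∧
      (AlgSt.IsSeparatedOver 𝒳 → IsSeparated Y.hom) ∧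
      (IsLocallyNoetherian S → AlgSt.LocQ (AlgSp.LocP @LocallyOfFiniteType) (FibCat.toSelf 𝒳) →
        LocallyOfFiniteType Y.hom) := by
  have hX := h𝒳.isStack.1
  have := isSeparated_of_locallyQuasiProjective hU
  obtain ⟨-, hI⟩ := separated_finite_inertia_of_finCov h𝒳 hc
  obtain ⟨ι, P, hcov, hfull⟩ := exists_open_pieces h𝒳 hU hc
  obtain ⟨Y, ⟨θ'⟩⟩ := exists_iso_yon_gluedM h𝒳 P hfull
  let θ := θ'.symm
  have hM := isAlgSpace_gluedM h𝒳 P
  have hY := AlgSp.IsAlgSpace.yon_obj Y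
  let π₀ := gluedπ h𝒳 P hcov
  let π : 𝒳 ⥤ᵇ AlgSt.ofSch Y := BasedFunctor.comp π₀ (AlgSt.ofSpMap θ.hom)
  have hu := isUnifCatModuli_gluedπ h𝒳 P hcov
  have hcat : AlgSt.IsCatModuli π := isCatModuli_transfer hu.1 θ hY
  have hi : GeomInj π := geomInj_transfer (geomInj_gluedπ h𝒳 P hcov) θ
  have hs : GeomSurj π := geomSurj_transfer (geomSurj_gluedπ h𝒳 P hcov) θ
  refine ⟨Y, π, ⟨hcat, geomPtBij_of hX hi hs⟩,
    repWith_diag_postcomp_equiv (AlgStImm.isEquivOver_ofSpMap θ) (isSeparatedMor_gluedπ h𝒳 P hcov),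
    isUnivHomeo_transfer h𝒳 hM hY (isUnivHomeo_gluedπ h𝒳 P hcov) θ,
    fun M' hM' g hg => ⟨isUnifCatModuli_transfer_fp hu θ hM' g hg, geomPtBij_fpFst hX hi hs g⟩,
    fun hsep => ?_, fun hN hlft => ?_⟩
  · have h : IsClosedImmersion (pullback.diagonal Y.hom) :=
      (AlgSp.repWith_diag_yon_iff @IsClosedImmersion Y).1 (isSeparatedSp_moduli h𝒳 hI hcat hsep)
    exact ⟨h⟩
  · let Z : Over S := Over.mk (𝟙 S)
    obtain ⟨e', he', -, -⟩ := isEquivOver_symm (isEquivOver_toSelf_base (S := S))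
    have hZn : AlgSp.IsLocNoethSp ((AlgSp.yon S).obj Z) :=
      ⟨Z, 𝟙 _, repWith_isIso _, repWith_isIso _, hN⟩
    obtain ⟨U', V', x, y, k, i, hx, hxs, hy, hk⟩ := hlft
    have hp : AlgSt.LocQ (AlgSp.LocP @LocallyOfFiniteType) (BasedFunctor.comp (FibCat.toSelf 𝒳) e') :=
      ⟨U', V', x, BasedFunctor.comp y e', k, whiskerRightIso i e', hx, hxs,
        (repWith_postcomp_equiv _ he').2 hy, hk⟩
    let T := AlgSp2.SectionPoint.isTerminalYon S
    have hg := locP_lft_moduli h𝒳 hI (AlgSp.IsAlgSpace.yon_obj Z) hZn _ hp hcat (T.from _)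
      (nonempty_iso_of_homOf fun _ => T.hom_ext _ _)
    let q : Y ⟶ Z := Over.homMk Y.hom (Category.comp_id _)
    rw [T.hom_ext (T.from _) ((AlgSp.yon S).map q)] at hg
    exact (left_prop_of_locP_yon (P := @LocallyOfFiniteType) hg : LocallyOfFiniteType q.left)

end Groth.KeelMori
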