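import Mathlib
import Groth.Prelude.Def_Grpd
import Groth.Agent.GitQuot.AffGpd.QuotAffine
import Groth.Agent.GitQuot.AffGpd.Points
import Groth.Agent.GitQuot.IsQuot

/-!
# Flat base change of the quotient of an affine groupoid
-/

set_option autoImplicit false

universe u

open AlgebraicGeometry CategoryTheory CategoryTheory.Limits TensorProduct

noncomputable section

namespace Groth.KeelMori

section Ring

variable {C A B C' A' B' : CommRingCat.{u}} (f : C ⟶ A) (σ τ : A ⟶ B) (g : C ⟶ C')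

/-- Invariants commute with a flat base change. -/
theorem flat_pushout_inv (hg : g.hom.Flat) (hf : Function.Injective f.hom)
    (hex : ∀ a, σ.hom a = τ.hom a → ∃ c, f.hom c = a) (hw : f ≫ σ = f ≫ τ)
    {i : A ⟶ A'} {j : C' ⟶ A'} (hA : IsPushout f g i j)
    {i' : B ⟶ B'} {j' : C' ⟶ B'} (hB : IsPushout (f ≫ σ) g i' j') (σ' τ' : A' ⟶ B')
    (h₁ : i ≫ σ' = σ ≫ i') (h₂ : j ≫ σ' = j') (h₃ : i ≫ τ' = τ ≫ i') (h₄ : j ≫ τ' = j') :
    Function.Injective j.hom ∧ ∀ x, σ'.hom x = τ'.hom x → ∃ c, j.hom c = x := by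
  letI : Algebra C A := f.hom.toAlgebra
  letI : Algebra C B := (f ≫ σ).hom.toAlgebra
  letI : Algebra C C' := g.hom.toAlgebra
  haveI : Module.Flat C C' := hg
  let TA := ((CommRingCat.isPushout_tensorProduct C C' A).flip).isoIsPushout _ _ hA
  let TB := ((CommRingCat.isPushout_tensorProduct C C' B).flip).isoIsPushout _ _ hB
  have hA1 : ∀ c : C', TA.hom.hom (c ⊗ₜ 1) = j.hom c := fun c =>
    congrArg (fun φ : C' ⟶ A' => φ.hom c)
      (((CommRingCat.isPushout_tensorProduct C C' A).flip).inr_isoIsPushout_hom _ _ hA)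
  have hA2 : ∀ a : A, TA.hom.hom ((1 : C') ⊗ₜ a) = i.hom a := fun a =>
    congrArg (fun φ : A ⟶ A' => φ.hom a)
      (((CommRingCat.isPushout_tensorProduct C C' A).flip).inl_isoIsPushout_hom _ _ hA)
  have hB1 : ∀ c : C', TB.hom.hom (c ⊗ₜ 1) = j'.hom c := fun c =>
    congrArg (fun φ : C' ⟶ B' => φ.hom c)
      (((CommRingCat.isPushout_tensorProduct C C' B).flip).inr_isoIsPushout_hom _ _ hB)
  have hB2 : ∀ b : B, TB.hom.hom ((1 : C') ⊗ₜ b) = i'.hom b := fun b =>
    congrArg (fun φ : B ⟶ B' => φ.hom b)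
      (((CommRingCat.isPushout_tensorProduct C C' B).flip).inl_isoIsPushout_hom _ _ hB)
  let σl : A →ₐ[C] B := { σ.hom with commutes' := fun _ => rfl }
  let τl : A →ₐ[C] B :=
    { τ.hom with commutes' := fun c => (congrArg (fun φ : C ⟶ B => φ.hom c) hw).symm }
  have key : ∀ (ρ : A →ₐ[C] B) (ρ' : A' ⟶ B'), i ≫ ρ' = CommRingCat.ofHom ρ.toRingHom ≫ i' →
      j ≫ ρ' = j' → ∀ z : C' ⊗[C] A,
        ρ'.hom (TA.hom.hom z) = TB.hom.hom (ρ.toLinearMap.lTensor C' z) := by
    intro ρ ρ' e₁ e₂ z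
    induction z using TensorProduct.induction_on with
    | zero => simp
    | add s t hs ht => simp only [map_add, hs, ht]
    | tmul c a =>
      rw [LinearMap.lTensor_tmul, AlgHom.toLinearMap_apply]
      have eA : c ⊗ₜ[C] a = (c ⊗ₜ[C] (1 : A)) * ((1 : C') ⊗ₜ[C] a) := by
        rw [Algebra.TensorProduct.tmul_mul_tmul, mul_one, one_mul]
      have eB : c ⊗ₜ[C] (ρ a) = (c ⊗ₜ[C] (1 : B)) * ((1 : C') ⊗ₜ[C] (ρ a)) := by
        rw [Algebra.TensorProduct.tmul_mul_tmul, mul_one, one_mul]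
      rw [eA, eB]
      erw [map_mul, map_mul, map_mul]
      rw [hA1, hA2, hB1, hB2]
      exact congrArg₂ (· * ·) (congrArg (fun φ : C' ⟶ B' => φ.hom c) e₂)
        (congrArg (fun φ : A ⟶ B' => φ.hom a) e₁)
  have hbij : Function.Bijective TA.hom.hom := TA.commRingCatIsoToRingEquiv.bijective
  have hbijB : Function.Bijective TB.hom.hom := TB.commRingCatIsoToRingEquiv.bijective
  have hj : ∀ c : C', TA.hom.hom ((Algebra.linearMap C A).lTensor C' (c ⊗ₜ 1)) = j.hom c := fun c => by
    rw [LinearMap.lTensor_tmul, Algebra.linearMap_apply, map_one, hA1]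
  refine ⟨fun c c' e => ?_, fun x hx => ?_⟩
  · rw [← hj, ← hj] at e
    have := Module.Flat.lTensor_preserves_injective_linearMap (M := C') (Algebra.linearMap C A) hf
      (hbij.1 e)
    simpa using congrArg (TensorProduct.rid C C') this
  · obtain ⟨z, rfl⟩ := hbij.2 x
    rw [key σl σ' h₁ h₂, key τl τ' h₃ h₄] at hx
    have hex' : Function.Exact (Algebra.linearMap C A) (σl.toLinearMap - τl.toLinearMap) := by
      intro a
      rw [LinearMap.sub_apply, sub_eq_zero]
      exact ⟨fun e => hex a e, by rintro ⟨c, rfl⟩; exact congrArg (fun φ : C ⟶ B => φ.hom c) hw⟩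
    obtain ⟨w, rfl⟩ := (Module.Flat.lTensor_exact C' hex' z).1
      (by rw [LinearMap.lTensor_sub, LinearMap.sub_apply, hbijB.1 hx, sub_self])
    obtain ⟨c, rfl⟩ : ∃ c : C', c ⊗ₜ (1 : C) = w :=
      ⟨TensorProduct.rid C C' w, by rw [← TensorProduct.rid_symm_apply, LinearEquiv.symm_apply_apply]⟩
    exact ⟨c, (hj c).symm⟩

end Ring

variable {S : Scheme.{u}} (G : Grpd.GroupoidScheme S)

theorem toQuot_appTop :
    G.toQuot.appTop = (Scheme.ΓSpecIso (CommRingCat.of G.invariants)).hom ≫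
      CommRingCat.ofHom G.invariants.subtype := by
  rw [Grpd.GroupoidScheme.toQuot, Scheme.Hom.comp_appTop, Scheme.toSpecΓ_appTop,
    Scheme.ΓSpecIso_naturality]

theorem toQuot_appTop_injective : Function.Injective G.toQuot.appTop.hom := by
  rw [toQuot_appTop]
  exact Subtype.val_injective.comp
    (Scheme.ΓSpecIso (CommRingCat.of G.invariants)).commRingCatIsoToRingEquiv.injective

theorem exists_toQuot_appTop_eq (a : Γ(G.U, ⊤)) (ha : G.s.appTop.hom a = G.t.appTop.hom a) :
    ∃ c, G.toQuot.appTop.hom c = a := by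
  refine ⟨(Scheme.ΓSpecIso (CommRingCat.of G.invariants)).inv.hom ⟨a, ha⟩, ?_⟩
  rw [toQuot_appTop, CommRingCat.comp_apply]
  exact congrArg Subtype.val
    ((Scheme.ΓSpecIso (CommRingCat.of G.invariants)).commRingCatIsoToRingEquiv.apply_symm_apply ⟨a, ha⟩)

variable [IsAffine G.U] [IsAffine G.R] [IsFinite G.s] [Flat G.s] [LocallyOfFinitePresentation G.s]

omit [IsFinite G.s] [Flat G.s] [LocallyOfFinitePresentation G.s] in
/-- Descent against affine schemes over an affine scheme flat over the quotient. -/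
theorem existsUnique_desc_affine {P E R' : Scheme.{u}} [IsAffine E]
    (e : E ⟶ Spec (CommRingCat.of G.invariants)) [Flat e] (u : P ⟶ G.U) (pE : P ⟶ E)
    (sq : IsPullback u pE G.toQuot e) (fR : R' ⟶ G.R) (rE : R' ⟶ E)
    (sqR : IsPullback fR rE (G.s ≫ G.toQuot) e) (s' t' : R' ⟶ P)
    (hs₁ : s' ≫ u = fR ≫ G.s) (hs₂ : s' ≫ pE = rE) (ht₁ : t' ≫ u = fR ≫ G.t) (ht₂ : t' ≫ pE = rE)
    {Z : Scheme.{u}} [IsAffine Z] (g : P ⟶ Z) (hg : t' ≫ g = s' ≫ g) : ∃! g' : E ⟶ Z, pE ≫ g' = g := by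
  have hA := isPushout_appTop_of_isPullback sq
  have hB := isPushout_appTop_of_isPullback sqR
  rw [Scheme.Hom.comp_appTop] at hB
  obtain ⟨hinj, hrange⟩ := flat_pushout_inv G.toQuot.appTop G.s.appTop G.t.appTop e.appTop e.flat_appTop
    (toQuot_appTop_injective G) (fun a ha => exists_toQuot_appTop_eq G a ha)
    (by rw [← Scheme.Hom.comp_appTop, ← Scheme.Hom.comp_appTop, AffGpd.t_toQuot]) hA hB
    s'.appTop t'.appTop
    (by rw [← Scheme.Hom.comp_appTop, ← Scheme.Hom.comp_appTop, hs₁])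
    (by rw [← Scheme.Hom.comp_appTop, hs₂])
    (by rw [← Scheme.Hom.comp_appTop, ← Scheme.Hom.comp_appTop, ht₁])
    (by rw [← Scheme.Hom.comp_appTop, ht₂])
  have hmem : ∀ z, ∃ c, pE.appTop.hom c = g.appTop.hom z := fun z => hrange _ <| by
    have := congrArg (fun φ : R' ⟶ Z => φ.appTop.hom z) hg
    simpa only [Scheme.Hom.comp_appTop, CommRingCat.comp_apply] using this.symm
  let ν := RingEquiv.ofBijective pE.appTop.hom.rangeRestrict
    ⟨fun a b h => hinj (congrArg Subtype.val h), pE.appTop.hom.rangeRestrict_surjective⟩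
  let ψ : Γ(Z, ⊤) ⟶ Γ(E, ⊤) :=
    CommRingCat.ofHom (ν.symm.toRingHom.comp (g.appTop.hom.codRestrict _ hmem))
  have hψ : ψ ≫ pE.appTop = g.appTop :=
    CommRingCat.hom_ext (RingHom.ext fun z => congrArg Subtype.val (ν.apply_symm_apply _))
  let g' : E ⟶ Z := E.toSpecΓ ≫ Spec.map ψ ≫ Z.isoSpec.inv
  refine ⟨g', ext_of_isAffine ?_, fun g'' hg'' => ext_of_isAffine ?_⟩
  · have : g'.appTop = ψ := by
      apply Spec.map_injective
      rw [← cancel_epi E.toSpecΓ, ← Scheme.toSpecΓ_naturality]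
      simp only [g', Category.assoc]
      rw [show Z.isoSpec.inv ≫ Z.toSpecΓ = 𝟙 _ from Z.isoSpec.inv_hom_id, Category.comp_id]
    rw [Scheme.Hom.comp_appTop, this, hψ]
  · refine CommRingCat.hom_ext (RingHom.ext fun z => hinj ?_)
    have e₁ : g'.appTop ≫ pE.appTop = g.appTop := by
      have : g'.appTop = ψ := by
        apply Spec.map_injective
        rw [← cancel_epi E.toSpecΓ, ← Scheme.toSpecΓ_naturality]
        simp only [g', Category.assoc]
        rw [show Z.isoSpec.inv ≫ Z.toSpecΓ = 𝟙 _ from Z.isoSpec.inv_hom_id, Category.comp_id]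
      rw [this, hψ]
    have e₂ : g''.appTop ≫ pE.appTop = g.appTop := by rw [← Scheme.Hom.comp_appTop, hg'']
    exact congrArg (fun φ : Γ(Z, ⊤) ⟶ Γ(P, ⊤) => φ.hom z) (e₂.trans e₁.symm)

omit [IsAffine G.R] [IsFinite G.s] [Flat G.s] [LocallyOfFinitePresentation G.s] in
theorem isIntegralHom_toQuot [IsAffine G.R] [IsFinite G.s] [Flat G.s]
    [LocallyOfFinitePresentation G.s] : IsIntegralHom G.toQuot := by
  have : IsIso G.U.toSpecΓ := inferInstanceAs (IsIso G.U.isoSpec.hom)
  have : IsIntegralHom (Spec.map (CommRingCat.ofHom G.invariants.subtype)) :=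
    (IsIntegralHom.SpecMap_iff).2 (fun a => (AffGpd.ofScheme G).isIntegral.isIntegral a)
  exact MorphismProperty.comp_mem @IsIntegralHom _ _ inferInstance this

/-- The quotient stays a quotient after flat base change. -/
theorem isQuot_baseChange {E : Scheme.{u}} (e : E ⟶ Spec (CommRingCat.of G.invariants)) [Flat e] :
    Groth.Quot.IsQuot
      (pullback.map (G.s ≫ G.toQuot) e G.toQuot e G.s (𝟙 E) (𝟙 _) (by simp) (by simp))
      (pullback.map (G.s ≫ G.toQuot) e G.toQuot e G.t (𝟙 E) (𝟙 _)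
        (by simp [AffGpd.t_toQuot G]) (by simp))
      (pullback.snd G.toQuot e) := by
  have hwq := AffGpd.t_toQuot G
  let sE : pullback (G.s ≫ G.toQuot) e ⟶ pullback G.toQuot e :=
    pullback.map (G.s ≫ G.toQuot) e G.toQuot e G.s (𝟙 E) (𝟙 _) (by simp) (by simp)
  let tE : pullback (G.s ≫ G.toQuot) e ⟶ pullback G.toQuot e :=
    pullback.map (G.s ≫ G.toQuot) e G.toQuot e G.t (𝟙 E) (𝟙 _) (by simp [hwq]) (by simp)
  let p := pullback.snd G.toQuot e
  have hs₁ : sE ≫ pullback.fst G.toQuot e = pullback.fst _ _ ≫ G.s := pullback.lift_fst _ _ _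
  have hs₂ : sE ≫ p = pullback.snd _ _ := (pullback.lift_snd _ _ _).trans (Category.comp_id _)
  have ht₁ : tE ≫ pullback.fst G.toQuot e = pullback.fst _ _ ≫ G.t := pullback.lift_fst _ _ _
  have ht₂ : tE ≫ p = pullback.snd _ _ := (pullback.lift_snd _ _ _).trans (Category.comp_id _)
  have hw : tE ≫ p = sE ≫ p := ht₂.trans hs₂.symm
  have hsurj : Function.Surjective p := by
    intro y
    obtain ⟨v, hv⟩ := AffGpd.toQuot_surjective G (e y)
    obtain ⟨z, -, hz⟩ := Scheme.Pullback.exists_preimage_pullback v y hv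
    exact ⟨z, hz⟩
  have hfib : ∀ a b, p a = p b → ∃ r, tE r = a ∧ sE r = b := by
    intro a b hab
    obtain ⟨z, hza, hzb⟩ := Scheme.Pullback.exists_preimage_pullback a b hab
    let K := AlgebraicClosure ((pullback p p).residueField z)
    let k : Spec (CommRingCat.of K) ⟶ pullback p p :=
      Spec.map (CommRingCat.ofHom (algebraMap ((pullback p p).residueField z) K)) ≫
        (pullback p p).fromSpecResidueField z
    let α := k ≫ pullback.fst p p
    let β := k ≫ pullback.snd p p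
    have hαβ : α ≫ p = β ≫ p := by simp only [α, β, Category.assoc, pullback.condition]
    obtain ⟨r, hrt, hrs⟩ := (AffGpd.point_eq_iff G K (α ≫ pullback.fst G.toQuot e)
      (β ≫ pullback.fst G.toQuot e)).1 (by
        have h := congrArg (· ≫ e) hαβ
        simp only [Category.assoc, p] at h ⊢
        rwa [← pullback.condition] at h)
    let ρ : Spec (CommRingCat.of K) ⟶ pullback (G.s ≫ G.toQuot) e :=
      pullback.lift r (α ≫ p) (by
        rw [← Category.assoc, hrs, Category.assoc, pullback.condition, ← Category.assoc, hαβ])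
    have hα : ρ ≫ tE = α := by
      apply pullback.hom_ext
      · rw [Category.assoc, ht₁, pullback.lift_fst_assoc, hrt]
      · rw [Category.assoc, show tE ≫ pullback.snd G.toQuot e = _ from ht₂, pullback.lift_snd]
    have hβ : ρ ≫ sE = β := by
      apply pullback.hom_ext
      · rw [Category.assoc, hs₁, pullback.lift_fst_assoc, hrs]
      · rw [Category.assoc, show sE ≫ pullback.snd G.toQuot e = _ from hs₂, pullback.lift_snd]; exact hαβ
    obtain ⟨x⟩ : Nonempty (Spec (CommRingCat.of K)) := inferInstance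
    have hk : k x = z := by
      rw [Scheme.Hom.comp_apply]
      exact Scheme.fromSpecResidueField_apply _ _
    refine ⟨ρ x, ?_, ?_⟩
    · rw [← Scheme.Hom.comp_apply, hα, Scheme.Hom.comp_apply, hk, hza]
    · rw [← Scheme.Hom.comp_apply, hβ, Scheme.Hom.comp_apply, hk, hzb]
  have hsq : IsPullback (pullback.fst (G.s ≫ G.toQuot) e) sE G.s (pullback.fst G.toQuot e) := by
    refine IsPullback.of_bot ?_ hs₁.symm (IsPullback.of_hasPullback G.toQuot e)
    rw [show sE ≫ pullback.snd G.toQuot e = _ from hs₂]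
    exact IsPullback.of_hasPullback (G.s ≫ G.toQuot) e
  have : Flat sE := MorphismProperty.of_isPullback (P := @Flat) hsq inferInstance
  have : LocallyOfFinitePresentation sE :=
    MorphismProperty.of_isPullback (P := @LocallyOfFinitePresentation) hsq inferInstance
  have : IsIntegralHom G.toQuot := isIntegralHom_toQuot G
  have : IsIntegralHom p := MorphismProperty.pullback_snd _ _ inferInstance
  have hopen : IsOpenMap p := by
    intro V hV
    rw [← (p.isClosedMap.isQuotientMap p.continuous hsurj).isCoinducing.isOpen_preimage]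
    have : ⇑p ⁻¹' (⇑p '' V) = sE '' (tE ⁻¹' V) := by
      ext b
      constructor
      · rintro ⟨a, ha, hab⟩
        obtain ⟨r, rfl, rfl⟩ := hfib a b hab
        exact ⟨r, ha, rfl⟩
      · rintro ⟨r, hr, rfl⟩
        exact ⟨tE r, hr, by rw [← Scheme.Hom.comp_apply, hw, Scheme.Hom.comp_apply]⟩
    rw [this]
    exact sE.isOpenMap _ (hV.preimage tE.continuous)
  refine ⟨hw, hsurj, hopen, hfib, fun V hV y hy => ?_⟩
  obtain ⟨W, hW, hyW, hWV⟩ := exists_isAffineOpen_mem_and_subset (x := y) (U := ⟨V, hV⟩) hy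
  have : IsAffine W.toScheme := hW
  let e' : W.toScheme ⟶ Spec (CommRingCat.of G.invariants) := W.ι ≫ e
  let jU : pullback G.toQuot e' ⟶ pullback G.toQuot e :=
    pullback.map G.toQuot e' G.toQuot e (𝟙 _) W.ι (𝟙 _) (by simp) (by simp [e'])
  have hjU₁ : jU ≫ pullback.fst G.toQuot e = pullback.fst _ _ :=
    (pullback.lift_fst _ _ _).trans (Category.comp_id _)
  have hjU₂ : jU ≫ p = pullback.snd _ _ ≫ W.ι := pullback.lift_snd _ _ _
  have hpb : IsPullback jU (pullback.snd G.toQuot e') p W.ι := by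
    refine IsPullback.of_right ?_ hjU₂ (IsPullback.of_hasPullback G.toQuot e)
    rw [hjU₁]
    exact IsPullback.of_hasPullback G.toQuot e'
  refine ⟨_, _, W.ι, jU, pullback.snd G.toQuot e', ⟨inferInstance,
    MorphismProperty.of_isPullback (P := @IsOpenImmersion) hpb.flip inferInstance, hjU₂.symm, ?_, ?_⟩,
    ?_, ?_⟩
  · rw [← hpb.isoPullback_hom_fst, Scheme.Hom.comp_base, TopCat.coe_comp,
      Set.range_comp, Set.range_eq_univ.2 hpb.isoPullback.hom.surjective, Set.image_univ]
    exact Scheme.Pullback.range_fst ..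
  · intro Z _ g hg
    let sW : pullback (G.s ≫ G.toQuot) e' ⟶ pullback G.toQuot e' :=
      pullback.map (G.s ≫ G.toQuot) e' G.toQuot e' G.s (𝟙 _) (𝟙 _) (by simp) (by simp)
    let tW : pullback (G.s ≫ G.toQuot) e' ⟶ pullback G.toQuot e' :=
      pullback.map (G.s ≫ G.toQuot) e' G.toQuot e' G.t (𝟙 _) (𝟙 _) (by simp [hwq]) (by simp)
    refine existsUnique_desc_affine G e' _ _ (IsPullback.of_hasPullback _ _) _ _
      (IsPullback.of_hasPullback _ _) sW tW (pullback.lift_fst _ _ _)
      ((pullback.lift_snd _ _ _).trans (Category.comp_id _)) (pullback.lift_fst _ _ _)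
      ((pullback.lift_snd _ _ _).trans (Category.comp_id _)) g ?_
    let k : pullback (G.s ≫ G.toQuot) e' ⟶ pullback (G.s ≫ G.toQuot) e :=
      pullback.map (G.s ≫ G.toQuot) e' (G.s ≫ G.toQuot) e (𝟙 _) W.ι (𝟙 _) (by simp) (by simp [e'])
    have hk₁ : k ≫ pullback.fst (G.s ≫ G.toQuot) e = pullback.fst _ _ :=
      (pullback.lift_fst _ _ _).trans (Category.comp_id _)
    have hk₂ : k ≫ pullback.snd (G.s ≫ G.toQuot) e = pullback.snd _ _ ≫ W.ι := pullback.lift_snd _ _ _
    have hW₁ : ∀ (r : pullback (G.s ≫ G.toQuot) e' ⟶ pullback G.toQuot e') (a : G.R ⟶ G.U),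
        r ≫ pullback.fst G.toQuot e' = pullback.fst _ _ ≫ a →
        r ≫ pullback.snd G.toQuot e' = pullback.snd _ _ →
        ∀ (rE : pullback (G.s ≫ G.toQuot) e ⟶ pullback G.toQuot e),
        rE ≫ pullback.fst G.toQuot e = pullback.fst _ _ ≫ a →
        rE ≫ p = pullback.snd _ _ → k ≫ rE = r ≫ jU := by
      intro r a h₁ h₂ rE h₃ h₄
      apply pullback.hom_ext
      · rw [Category.assoc, h₃, ← Category.assoc, hk₁, Category.assoc, hjU₁, h₁]
      · rw [Category.assoc, show rE ≫ pullback.snd G.toQuot e = _ from h₄, hk₂, Category.assoc,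
          show jU ≫ pullback.snd G.toQuot e = _ from hjU₂, ← Category.assoc r, h₂]
    exact hg _ tW sW k
      (hW₁ tW G.t (pullback.lift_fst _ _ _) ((pullback.lift_snd _ _ _).trans (Category.comp_id _))
        tE ht₁ ht₂)
      (hW₁ sW G.s (pullback.lift_fst _ _ _) ((pullback.lift_snd _ _ _).trans (Category.comp_id _))
        sE hs₁ hs₂)
  · rw [Scheme.Opens.range_ι]; exact hyW
  · rw [Scheme.Opens.range_ι]; exact hWV

end Groth.KeelMori
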