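import Groth.Agent.GitQuot.KeelMori.GluedSep
import Groth.Agent.GitQuot.StkInertia.Equiv
import Groth.Agent.StkGerb.Glue

/-!
# Etale morphisms preserving automorphism groups and the induced map of moduli spaces
-/

set_option autoImplicit false
set_option backward.isDefEq.respectTransparency false
set_option backward.isDefEq.respectTransparency.types false

universe u

open CategoryTheory CategoryTheory.Limits AlgebraicGeometry Opposite
open Groth.StkBase Groth.AlgStBasic Groth.AlgSpBasic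

noncomputable section

namespace Groth.KeelMori

variable {S : Scheme.{u}} {𝒳 𝒳' : AlgSt.Cat S}

/-- Finite inertia passes to etale covers preserving automorphism groups. -/
theorem finite_inertia_of (h𝒳 : AlgSt.IsAlgStack Scheme.fppfPrecoverage 𝒳)
    (h𝒳' : AlgSt.IsAlgStack Scheme.fppfPrecoverage 𝒳') (h : 𝒳' ⥤ᵇ 𝒳) (hrep : AlgSt.RepByAlgSp1 h)
    (haut : ∀ x' : 𝒳'.obj, Function.Bijective (Gerb.autMap h x'))
    (hI : AlgSt.RepByAlgSpWith AlgSp.IsFiniteMor (FibCat.inertiaToBase (FibCat.toSelf 𝒳))) :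
    AlgSt.RepByAlgSpWith AlgSp.IsFiniteMor (FibCat.inertiaToBase (FibCat.toSelf 𝒳')) := by
  have hE := GitQuot.StkInertia.isEquivOver_inertiaToBC h h𝒳'.isStack.1
    (faithful_of_repByAlgSp1 h𝒳'.isStack.1 h𝒳.isStack.1 h hrep)
    (fun x => liftsAut_of_bijective h𝒳.isStack.1 (haut x))
  rw [← GitQuot.StkInertia.inertiaToBC_fpFst h]
  exact (repWith_precomp_equiv hE _).2 (repWith_fpFst _ h hI)

variable (h𝒳 : AlgSt.IsAlgStack Scheme.fppfPrecoverage 𝒳) {ι : Type u} (P : ι → Piece 𝒳)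
  (hcov : ∀ z : AlgSt.Points 𝒳, ∃ i, z ∈ Set.range (AlgSt.Points.map (P i).g))
  (h𝒳' : AlgSt.IsAlgStack Scheme.fppfPrecoverage 𝒳') {ι' : Type u} (P' : ι' → Piece 𝒳')
  (hcov' : ∀ z : AlgSt.Points 𝒳', ∃ i, z ∈ Set.range (AlgSt.Points.map (P' i).g))
  (h : 𝒳' ⥤ᵇ 𝒳) (het : AlgSt.RepByAlgSpWith AlgSp.IsEtaleMor h) (hsep : AlgSt.IsSeparatedMor h)
  (haut : ∀ x' : 𝒳'.obj, Function.Bijective (Gerb.autMap h x'))
  (g₀ : gluedM h𝒳' P' ⟶ gluedM h𝒳 P)
  (hg₀ : ∀ {T : Over S} (w : 𝒳'.obj) (hw : 𝒳'.p.obj w = T),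
    valAt (gluedπ h𝒳 P hcov) (h.obj w) ((h.w_obj w).trans hw) = valAt (gluedπ h𝒳' P' hcov') w hw ≫ g₀)

include h𝒳 h𝒳' het hsep haut in
/-- The base change of a piece along `h` has the base change of the moduli spaces as moduli space. -/
theorem exists_pieceBC (i : ι) : ∃ (N : Over S) (π'' : FibCat.fp h (P i).g ⥤ᵇ AlgSt.ofSch N)
    (a : (AlgSp.yon S).obj N ⟶ (AlgSp.yon S).obj (P i).M)
    (e : BasedFunctor.comp (FibCat.fpSnd h (P i).g) (P i).π ≅ BasedFunctor.comp π'' (AlgSt.ofSpMap a)),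
    AlgSp.IsEtaleMor a ∧ AlgSp.IsSeparatedMor a ∧ FibCat.IsTwoCartOver (FibCat.fpSnd h (P i).g) π'' e ∧
      AlgSt.IsCatModuli π'' := by
  have hX := h𝒳.isStack.1
  have hX' := h𝒳'.isStack.1
  have hrep : AlgSt.RepByAlgSp1 h := repWith_repByAlgSp1 het
  have hsep' : AlgSt.RepByAlgSpWith AlgSp.IsSeparatedMor h := ((tfae_separated hrep).out 2 0).1 hsep
  have hW := (P i).alg.isStack.1
  have hI := isFibGrpd_fp hX' hW hX (F := h) (G := (P i).g)
  have halg : AlgSt.IsAlgStack Scheme.fppfPrecoverage (FibCat.fp h (P i).g) :=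
    isAlgStack_fp h𝒳.isStack h𝒳.diag h𝒳' (P i).alg h (P i).g
  have hrep' := repByAlgSp1_fpSnd h (P i).g hrep
  have hl : ∀ w, LiftsAut (FibCat.fpSnd h (P i).g) w := fun w α hα => by
    obtain ⟨γ, hγ, e⟩ := liftsAut_of_bijective hX (haut w.obj.fst)
      (w.obj.iso.hom ≫ (P i).g.map α ≫ w.obj.iso.inv)
      ((fp_isVert w).comp ((isVert_map hα).comp (IsVert.inv (fp_isVert w))))
    exact ⟨fpHom (x := w) (y := w) γ α (by rw [e]; simp), (isVert_fp_iff _).2 hγ, rfl⟩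
  obtain ⟨N, π'', a, e, ha, has, hc⟩ := exists_scheme_isTwoCartOver (P i).alg halg (P i).wna
    (FibCat.fpSnd h (P i).g) (repWith_fpSnd h (P i).g het)
    (((tfae_separated hrep').out 0 2).1 (repWith_fpSnd h (P i).g hsep'))
    (bijective_autMap_of hI (faithful_of_repByAlgSp1 hI hW _ hrep') hl)
    _ (P i).π (P i).unif.1
  refine ⟨N, π'', a, e, ha, has, hc, ?_⟩
  have hm := (P i).unif.2 _ (AlgSp.IsAlgSpace.yon_obj N) a
    (locP_mono (fun _ _ f (_ : Etale f) => (inferInstance : Flat f)) (locP_of_isEtaleMor ha))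
  exact isCatModuli_precomp (π := FibCat.fpFst (AlgSt.ofSpMap a) (P i).π) hm
    (E := BasedFunctor.comp (FibCat.fpLift (FibCat.fpSnd h (P i).g) π'' e) (fpSwap (P i).π (AlgSt.ofSpMap a)))
    (isEquivOver_comp hc (isEquivOver_fpSwap _ _))

include het hsep haut hg₀ in
/-- The moduli space of the base change is the base change of the moduli spaces. -/
theorem exists_isPullback_pieceBC (i : ι) : ∃ (N : Over S)
    (π'' : FibCat.fp h (P i).g ⥤ᵇ AlgSt.ofSch N)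
    (a : (AlgSp.yon S).obj N ⟶ (AlgSp.yon S).obj (P i).M) (u : (AlgSp.yon S).obj N ⟶ gluedM h𝒳' P')
    (e : BasedFunctor.comp (FibCat.fpSnd h (P i).g) (P i).π ≅ BasedFunctor.comp π'' (AlgSt.ofSpMap a)),
    AlgSp.IsEtaleMor a ∧ AlgSp.IsSeparatedMor a ∧ FibCat.IsTwoCartOver (FibCat.fpSnd h (P i).g) π'' e ∧
      IsPullback u a g₀ (inclM h𝒳 P i) ∧
      ∀ {T : Over S} (ξ : (FibCat.fp h (P i).g).obj) (hξ : (FibCat.fp h (P i).g).p.obj ξ = T),
        valAt (gluedπ h𝒳' P' hcov') ξ.obj.fst hξ = valAt π'' ξ hξ ≫ u := by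
  obtain ⟨N, π'', a, e, ha, has, hc, hm⟩ := exists_pieceBC h𝒳 P h𝒳' h het hsep haut i
  obtain ⟨εi, hci⟩ := exists_isTwoCartOver_piece h𝒳 P hcov i
  let π := gluedπ h𝒳 P hcov
  let π' := gluedπ h𝒳' P' hcov'
  let M' := gluedM h𝒳' P'
  have hM' : AlgSp.IsAlgSpace M' := isAlgSpace_gluedM h𝒳' P'
  let m := inclM h𝒳 P i
  obtain ⟨u, hu⟩ := exists_factor hm hM' (BasedFunctor.comp (FibCat.fpFst h (P i).g) π')
  have hua : u ≫ g₀ = a ≫ m := hom_ext_of_moduli hm (isAlgSpace_gluedM h𝒳 P) fun ξ => by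
    rw [← Category.assoc, ← hu ξ rfl, valAt_comp, ← hg₀, ← Category.assoc, ← valAt_comm e ξ rfl]
    refine Eq.trans ?_ (valAt_gluedπ_g h𝒳 P hcov ξ.obj.snd (fp_p_snd ξ))
    exact valAt_vert π ξ.obj.iso.hom (fp_isVert ξ) _ _
  let Q := pullback g₀ m
  let p₁ : Q ⟶ M' := pullback.fst g₀ m
  let p₂ : Q ⟶ (AlgSp.yon S).obj (P i).M := pullback.snd g₀ m
  have hQ : AlgSp.IsAlgSpace Q := isAlgSpace_of_isPullback (IsPullback.of_hasPullback g₀ m)
    (isAlgSpace_gluedM h𝒳 P).diag hM' (AlgSp.IsAlgSpace.yon_obj _)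
  have hp₁ : AlgSp.LocP @Flat p₁ := locP_of_isPullback (AlgSp.IsAlgSpace.yon_obj _)
    (isAlgSpace_gluedM h𝒳 P) hM' (IsPullback.of_hasPullback g₀ m).flip
    (locP_of_repWith (repWith_mono (fun _ _ f (_ : Etale f) => (inferInstance : Flat f)) (etale_inclM h𝒳 P i)))
  have hmQ := (isUnifCatModuli_gluedπ h𝒳' P' hcov').2 Q hQ p₁ hp₁
  let Z := FibCat.fp (AlgSt.ofSpMap p₁) π'
  let pz : Z ⥤ᵇ AlgSt.ofSp Q := FibCat.fpFst (AlgSt.ofSpMap p₁) π'
  let px : Z ⥤ᵇ 𝒳' := FibCat.fpSnd (AlgSt.ofSpMap p₁) π'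
  obtain ⟨κ⟩ : Nonempty (BasedFunctor.comp (BasedFunctor.comp px h) π ≅
      BasedFunctor.comp (BasedFunctor.comp pz (AlgSt.ofSpMap p₂)) (AlgSt.ofSpMap m)) :=
    nonempty_iso_of_homOf fun ζ => by
      have e₁ : valAt (BasedFunctor.comp (BasedFunctor.comp px h) π) ζ rfl =
          valAt (BasedFunctor.comp (BasedFunctor.comp pz (AlgSt.ofSpMap p₂)) (AlgSt.ofSpMap m)) ζ rfl := by
        rw [valAt_ofSpMap, valAt_ofSpMap, Category.assoc, ← pullback.condition, ← Category.assoc,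
          ← valAt_ofSpMap, valAt_of_iso (FibCat.fpIso (AlgSt.ofSpMap p₁) π'), valAt_comp,
          valAt_comp]
        exact hg₀ _ _
      simpa only [valAt, eqToHom_refl, CategoryTheory.Functor.map_id, Category.id_comp] using e₁
  let F := FibCat.fpLift (BasedFunctor.comp px h) (BasedFunctor.comp pz (AlgSt.ofSpMap p₂)) κ
  obtain ⟨I, -, -, ⟨b⟩⟩ := isEquivOver_symm hci
  let GW := BasedFunctor.comp F I
  let i₁ : BasedFunctor.comp GW (P i).g ≅ BasedFunctor.comp px h :=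
    whiskerRightIso (whiskerLeftIso F b) (FibCat.fpFst π (AlgSt.ofSpMap m))
  let i₂ : BasedFunctor.comp GW (P i).π ≅ BasedFunctor.comp pz (AlgSt.ofSpMap p₂) :=
    whiskerRightIso (whiskerLeftIso F b) (FibCat.fpSnd π (AlgSt.ofSpMap m))
  let G := FibCat.fpLift px GW i₁.symm
  obtain ⟨v, hv⟩ := exists_factor (π := pz) hmQ (AlgSp.IsAlgSpace.yon_obj N) (BasedFunctor.comp G π'')
  have hva : v ≫ a = p₂ := hom_ext_of_moduli (π := pz) hmQ (AlgSp.IsAlgSpace.yon_obj _) fun ζ => by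
    rw [← Category.assoc, ← hv ζ rfl, valAt_comp, ← valAt_comm e, ← valAt_ofSpMap, ← valAt_of_iso i₂,
      valAt_comp]
    rfl
  have hvu : v ≫ u = p₁ := hom_ext_of_moduli (π := pz) hmQ hM' fun ζ => by
    rw [← Category.assoc, ← hv ζ rfl, valAt_comp, ← hu, valAt_comp, ← valAt_ofSpMap,
      valAt_of_iso (FibCat.fpIso (AlgSt.ofSpMap p₁) π'), valAt_comp]
    rfl
  let l : (AlgSp.yon S).obj N ⟶ Q := pullback.lift u a hua
  have hl₁ : l ≫ p₁ = u := pullback.lift_fst _ _ _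
  have hl₂ : l ≫ p₂ = a := pullback.lift_snd _ _ _
  have hvl : v ≫ l = 𝟙 Q := pullback.hom_ext (by
    rw [Category.assoc, Category.id_comp]
    exact (congrArg (v ≫ ·) hl₁).trans hvu) (by
    rw [Category.assoc, Category.id_comp]
    exact (congrArg (v ≫ ·) hl₂).trans hva)
  have hlv : l ≫ v = 𝟙 _ := hom_ext_of_moduli hm (AlgSp.IsAlgSpace.yon_obj N) fun ξ => by
    let q := valAt π'' ξ rfl ≫ l
    have hq : q ≫ p₁ = valAt π' ξ.obj.fst rfl := by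
      rw [Category.assoc, hl₁, ← hu, valAt_comp]
      rfl
    let ζ : Z.obj := mkFp (g := p₁) (π := π') q ξ.obj.fst (rfl : 𝒳'.p.obj ξ.obj.fst = _) hq
    have hζ : valAt pz ζ rfl = q := by
      show (AlgSp.yon S).map (𝟙 _) ≫ homOf (FibCat.fpFst (AlgSt.ofSpMap p₁) π') ζ = _
      rw [CategoryTheory.Functor.map_id, Category.id_comp, homOf_fpFst]
      exact Equiv.symm_apply_apply _ _
    let w₁ := (G.obj ζ).obj.snd
    let w₂ := ξ.obj.snd
    let k₁ : h.obj ξ.obj.fst ≅ (P i).g.obj w₁ := (G.obj ζ).obj.iso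
    have hk₁ : IsVert 𝒳.p k₁.hom := fp_isVert (G.obj ζ)
    have hw₂ : (P i).W.p.obj w₂ = 𝒳'.p.obj ξ.obj.fst := fp_p_snd ξ
    have hw₁ : (P i).W.p.obj w₁ = 𝒳'.p.obj ξ.obj.fst := (fp_p_snd (G.obj ζ)).trans ((G.w_obj ζ).trans rfl)
    have eW : valAt (P i).π w₁ hw₁ = valAt (P i).π w₂ hw₂ := by
      have e₁ := valAt_of_iso i₂ ζ rfl
      rw [valAt_comp, valAt_ofSpMap, hζ, Category.assoc, hl₂] at e₁
      refine Eq.trans e₁ ?_
      exact (valAt_comm e ξ rfl).symm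
    obtain ⟨γ, hγ, hγg⟩ := exists_hom_of_twoCart hci hw₁ hw₂ (k₁.inv ≫ ξ.obj.iso.hom)
      ((IsVert.inv hk₁).comp (fp_isVert ξ)) eW
    let f : G.obj ζ ⟶ ξ := fpHom (x := G.obj ζ) (y := ξ) (𝟙 ξ.obj.fst) γ (by
      show h.map (𝟙 ξ.obj.fst) ≫ ξ.obj.iso.hom = k₁.hom ≫ (P i).g.map γ
      rw [hγg, Iso.hom_inv_id_assoc,
        show h.map (𝟙 ξ.obj.fst) = 𝟙 _ from h.toFunctor.map_id _, Category.id_comp])
    have hf : IsVert (FibCat.fp h (P i).g).p f := (isVert_fp_iff f).2 (isVert_id _)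
    have e₁ := hv ζ (rfl : Z.p.obj ζ = 𝒳'.p.obj ξ.obj.fst)
    rw [hζ, valAt_comp, valAt_vert π'' f hf (hb := rfl)] at e₁
    rw [Category.comp_id, ← Category.assoc]
    exact e₁.symm
  exact ⟨N, π'', a, u, e, ha, has, hc,
    IsPullback.of_iso_pullback ⟨hua⟩ ⟨l, v, hlv, hvl⟩ hl₁ hl₂,
    fun ξ hξ => (valAt_comp (FibCat.fpFst h (P i).g) π' ξ hξ).symm.trans (hu ξ hξ)⟩

include het hsep haut hcov hcov' hg₀ in
/-- The induced map of moduli spaces is etale and separated. -/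
theorem etale_sep_induced : AlgSp.IsEtaleMor g₀ ∧ AlgSp.IsSeparatedMor g₀ := by
  choose N π'' a u e ha has hc hsq hval using
    fun i => exists_isPullback_pieceBC h𝒳 P hcov h𝒳' P' hcov' h het hsep haut g₀ hg₀ i
  have hM := isAlgSpace_gluedM h𝒳 P
  have hcovM : AlgSp.IsFppfCover (fun i => (AlgSp.yon S).obj (P i).M) (fun i => inclM h𝒳 P i) := by
    refine ⟨fun i => ⟨locP_of_repWith (repWith_mono (fun _ _ f (_ : Etale f) => (inferInstance : Flat f))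
      (etale_inclM h𝒳 P i)), locP_of_repWith (repWith_mono
        (fun _ _ f (_ : Etale f) => (inferInstance : LocallyOfFinitePresentation f)) (etale_inclM h𝒳 P i))⟩,
      fun p => ?_⟩
    obtain ⟨z, rfl⟩ := surjective_map_of_repWith (gluedM_spec h𝒳 P).2.2 p
    obtain ⟨t, rfl⟩ := (AlgSp.Points.schemeHomeo _).surjective z
    obtain ⟨i, v, hv⟩ := HenselPoint.exists_sigmaIncl_eq (V := fun i => (P i).M) t
    refine ⟨i, AlgSp.Points.schemeHomeo _ v, ?_⟩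
    show AlgSp.Points.map ((AlgSp.yon S).map (inclU P i) ≫ yonQuotπ (rS h𝒳 P) (rT h𝒳 P)) _ = _
    rw [AlgSp.Points.map_comp, AlgSp.Points.map_yon_map_apply]
    exact congrArg _ (congrArg _ hv)
  refine ⟨isEtaleMor_of_locP hM ((isLocalOnBase_fppf_locP @Etale _ _ hM
      (fun i => AlgSp.IsAlgSpace.yon_obj _) hcovM g₀ (isAlgSpace_gluedM h𝒳' P') _ a u
      (fun i => AlgSp.IsAlgSpace.yon_obj _) hsq).2 fun i => locP_of_isEtaleMor (ha i)), ?_⟩
  exact (isLocalOnBase_fppf_sep _ _ hM (fun i => AlgSp.IsAlgSpace.yon_obj _) hcovM g₀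
    (isAlgSpace_gluedM h𝒳' P') _ a u (fun i => AlgSp.IsAlgSpace.yon_obj _) hsq).2 has

include het hsep haut hcov hcov' hg₀ in
/-- Objects lift along the square of moduli spaces, etale locally. -/
theorem exists_local_lift_induced (x : 𝒳.obj) (m : (AlgSp.yon S).obj (𝒳.p.obj x) ⟶ gluedM h𝒳' P')
    (hm : valAt (gluedπ h𝒳 P hcov) x rfl = m ≫ g₀) :
    ∃ R ∈ AlgSp.J S (𝒳.p.obj x), ∀ ⦃V : Over S⦄ (f : V ⟶ 𝒳.p.obj x), R.arrows f →
      ∃ (w : 𝒳'.obj) (hw : 𝒳'.p.obj w = V) (α : h.obj w ⟶ x),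
        𝒳.p.map α = eqToHom ((h.w_obj w).trans hw) ≫ f ∧
          valAt (gluedπ h𝒳' P' hcov') w hw = (AlgSp.yon S).map f ≫ m := by
  choose V c wj hwj φ hφ het' hsurj using fun j => (P j).exists_chart h𝒳 x rfl
  have hjs : ∀ t, ∃ j, t ∈ Set.range (c j).left := fun t =>
    (hcov (AlgSt.Points.ofChart (overFunctor h𝒳.isStack.1 x rfl) t)).imp fun j => hsurj j t
  have : ∀ j, Etale (c j).left := het'
  refine ⟨_, mem_J_of_fppf c (ofArrows_mem_fppf_of_etale (fun j => (c j).left) hjs), fun V' f hf => ?_⟩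
  obtain ⟨j, q, rfl⟩ := (Sieve.mem_ofArrows_iff V c f).1 hf
  obtain ⟨N, π'', a, u, e, -, -, hc, hsq, hval⟩ :=
    exists_isPullback_pieceBC h𝒳 P hcov h𝒳' P' hcov' h het hsep haut g₀ hg₀ j
  obtain ⟨w₁, hw₁, φ₁, hφ₁, hv₁⟩ := exists_res P (hwj j) (φ j) (by simpa using hφ j) q
  have hcomm : ((AlgSp.yon S).map (q ≫ c j) ≫ m) ≫ g₀ = valAt (P j).π w₁ hw₁ ≫ inclM h𝒳 P j := by
    rw [Category.assoc, ← hm]
    exact valAt_gluedπ h𝒳 P hcov rfl (q ≫ c j) hw₁ φ₁ (by simpa using hφ₁)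
  obtain ⟨r, hr⟩ : ∃ r, r = hsq.lift _ _ hcomm := ⟨_, rfl⟩
  obtain ⟨ξ, hξ, β, hβ, hξv⟩ := exists_lift_of_twoCart hc w₁ hw₁ r (by rw [hr, hsq.lift_snd])
  refine ⟨ξ.obj.fst, hξ, ξ.obj.iso.hom ≫ (P j).g.map β ≫ φ₁, ?_,
    by rw [hval ξ hξ, hξv, hr, hsq.lift_fst]⟩
  rw [Functor.map_comp, Functor.map_comp, hφ₁, map_map, hβ.map_eq, (fp_isVert ξ).map_eq]
  simp

include het hsep haut hcov hcov' hg₀ in
/-- Morphisms lift along the square of moduli spaces. -/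
theorem exists_hom_induced {T : Over S} {w w' : 𝒳'.obj} (hw : 𝒳'.p.obj w = T) (hw' : 𝒳'.p.obj w' = T)
    (β : h.obj w ⟶ h.obj w') (hβ : IsVert 𝒳.p β)
    (hv : valAt (gluedπ h𝒳' P' hcov') w hw = valAt (gluedπ h𝒳' P' hcov') w' hw') :
    ∃ γ : w ⟶ w', IsVert 𝒳'.p γ ∧ h.map γ = β := by
  subst hw
  have hX := h𝒳.isStack.1
  have hX' := h𝒳'.isStack.1
  let π' := gluedπ h𝒳' P' hcov'
  have hf := faithful_of_repByAlgSp1 hX' hX h (repWith_repByAlgSp1 het)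
  choose V c wj hwj φ hφ het' hsurj using fun j => (P j).exists_chart h𝒳 (h.obj w) (h.w_obj w)
  have hjs : ∀ t, ∃ j, t ∈ Set.range (c j).left := fun t =>
    (hcov (AlgSt.Points.ofChart (overFunctor hX (h.obj w) (h.w_obj w)) t)).imp fun j => hsurj j t
  have : ∀ j, Etale (c j).left := het'
  let R : Sieve (𝒳'.p.obj w) := Sieve.ofArrows V c
  have hR : R ∈ AlgSp.J S (𝒳'.p.obj w) :=
    mem_J_of_fppf c (ofArrows_mem_fppf_of_etale (fun j => (c j).left) hjs)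
  have hpre := (isPrestack_of_isStack h𝒳'.isStack).2 R hR
  have key : ∀ ⦃a' : 𝒳'.obj⦄ (l : a' ⟶ w), R (𝒳'.p.map l) →
      ∃ μ : a' ⟶ w', 𝒳'.p.map μ = 𝒳'.p.map l ≫ eqToHom hw'.symm ∧ h.map μ = h.map l ≫ β := by
    intro a' l hl
    obtain ⟨j, q, hq⟩ := (Sieve.mem_ofArrows_iff V c _).1 hl
    obtain ⟨N, π'', a, u, e, -, -, hc, hsq, hval⟩ :=
      exists_isPullback_pieceBC h𝒳 P hcov h𝒳' P' hcov' h het hsep haut g₀ hg₀ j
    obtain ⟨w₁', l', hw₁', hl'⟩ := exists_lift' hX' (x := w') (𝒳'.p.map l ≫ eqToHom hw'.symm)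
    obtain ⟨β₁, hβ₁, hβ₁e⟩ := exists_vert_iso_of_lifts hX (h.map l ≫ β) (h.map l')
      ((h.w_obj a').trans (hw₁'.symm.trans (h.w_obj w₁').symm)) (by
        rw [Functor.map_comp, map_map, map_map, hl', hβ.map_eq]; simp)
    obtain ⟨v, lv, hvb, hlv⟩ := exists_lift' (P j).alg.isStack.1 (x := wj j) (q ≫ eqToHom (hwj j).symm)
    obtain ⟨κ, hκ, -⟩ := exists_vert_iso_of_lifts hX (h.map l) ((P j).g.map lv ≫ φ j)
      ((h.w_obj a').trans (hvb.symm.trans ((P j).g.w_obj v).symm)) (by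
        rw [Functor.map_comp, map_map, map_map, hlv, hφ j, hq]
        simp)
    let ξ : (FibCat.fp h (P j).g).obj := fpMk (F := h) (G := (P j).g) a' v κ hκ
    let ξ' : (FibCat.fp h (P j).g).obj :=
      fpMk (F := h) (G := (P j).g) w₁' v (β₁.symm ≪≫ κ) ((IsVert.inv hβ₁).comp hκ)
    have hπ'' : valAt π'' ξ (rfl : (FibCat.fp h (P j).g).p.obj ξ = 𝒳'.p.obj a') = valAt π'' ξ' hw₁' := by
      refine hsq.hom_ext ?_ ?_
      · rw [← hval ξ rfl, ← hval ξ' hw₁']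
        refine (valAt_map π' (ha := rfl) (hb := rfl) l (c := 𝒳'.p.map l) (by simp)).trans ?_
        rw [hv]
        exact (valAt_map π' (ha := hw₁') (hb := hw') l' hl').symm
      · rw [← valAt_comm e ξ rfl, ← valAt_comm e ξ' hw₁']
        rfl
    obtain ⟨γ, hγ, hγs⟩ := exists_hom_of_twoCart hc (w := ξ) (w' := ξ') rfl hw₁' (𝟙 v) (isVert_id _) hπ''
    have e₁ : h.map γ.hom.fst ≫ (β₁.inv ≫ κ.hom) = κ.hom ≫ (P j).g.map γ.hom.snd := γ.hom.w
    rw [show γ.hom.snd = 𝟙 v from hγs, show (P j).g.map (𝟙 v) = 𝟙 _ from (P j).g.toFunctor.map_id v,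
      Category.comp_id, ← Category.assoc] at e₁
    have e₂ : h.map γ.hom.fst ≫ β₁.inv = 𝟙 _ :=
      (cancel_mono κ.hom).1 (e₁.trans (Category.id_comp _).symm)
    have e₃ : h.map γ.hom.fst = β₁.hom := (Category.comp_id _).symm.trans
      ((congrArg (h.map γ.hom.fst ≫ ·) β₁.inv_hom_id.symm).trans ((Category.assoc _ _ _).symm.trans
        ((congrArg (· ≫ β₁.hom) e₂).trans (Category.id_comp _))))
    refine ⟨γ.hom.fst ≫ l', ?_, ?_⟩
    · rw [Functor.map_comp, hl', ((isVert_fp_iff γ).1 hγ).map_eq]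
      simp
    · rw [Functor.map_comp, e₃, hβ₁e]
  choose μ hμ hhμ using key
  obtain ⟨χ, hχ, hχl⟩ := StkGerb.glue_hom hX' hw'.symm R hpre.1 μ hμ fun a' a'' l hl k hkl =>
    hf.map_injective (by rw [Functor.map_comp, hhμ, hhμ, Functor.map_comp, Category.assoc])
  refine ⟨χ, hχ, ?_⟩
  refine vert_hom_ext_of_local hX (R.pullback (eqToHom (h.w_obj w)))
    ((isPrestack_of_isStack h𝒳.isStack).2 _ ((AlgSp.J S).pullback_stable _ hR)).2 (isVert_map hχ) hβ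
    fun a' l hl => ?_
  obtain ⟨a'', l'', ha'', hl''⟩ := exists_lift' hX' (x := w) (𝒳.p.map l ≫ eqToHom (h.w_obj w))
  have hl₂ : R (𝒳'.p.map l'') := by
    rw [hl'']
    exact R.downward_closed hl (eqToHom ha'')
  obtain ⟨i, -, hil⟩ := exists_vert_iso_of_lifts hX l (h.map l'') (ha''.symm.trans (h.w_obj a'').symm)
    (by rw [map_map, hl'']; simp)
  rw [← hil, Category.assoc, Category.assoc, ← Functor.map_comp, hχl _ hl₂, hhμ]

end Groth.KeelMori
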