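import Groth.Agent.GitQuot.KeelMori.Quot
import Groth.Agent.AlgStBasic.StTopology

/-!
# The map of a stack to the glued moduli space
-/

set_option autoImplicit false
set_option backward.isDefEq.respectTransparency false
set_option backward.isDefEq.respectTransparency.types false

universe u

open CategoryTheory CategoryTheory.Limits AlgebraicGeometry Opposite
open Groth.StkBase Groth.AlgStBasic Groth.AlgSpBasic

noncomputable section

namespace Groth.KeelMori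

variable {S : Scheme.{u}} {𝒳 : AlgSt.Cat S}

/-- An atlas gives a small covering family of pieces. -/
theorem exists_pieces (h𝒳 : AlgSt.IsAlgStack Scheme.fppfPrecoverage 𝒳)
    (hI : AlgSt.RepByAlgSpWith AlgSp.IsFiniteMor (FibCat.inertiaToBase (FibCat.toSelf 𝒳))) :
    ∃ (ι : Type u) (P : ι → Piece 𝒳), ∀ z : AlgSt.Points 𝒳, ∃ i, z ∈ Set.range (AlgSt.Points.map (P i).g) := by
  obtain ⟨U, x, -, hxs⟩ := h𝒳.atlas
  choose P hP using fun t : U.left => exists_piece h𝒳 hI (AlgSt.Points.ofChart x t)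
  refine ⟨U.left, P, fun z => ?_⟩
  obtain ⟨t, rfl⟩ := surjective_ofChart h𝒳.isStack.1 hxs z
  exact ⟨t, hP t⟩

namespace Piece

variable (h𝒳 : AlgSt.IsAlgStack Scheme.fppfPrecoverage 𝒳) (P : Piece 𝒳)

include h𝒳 in
/-- The etale chart of a piece over an object. -/
theorem exists_chart {T : Over S} (z : 𝒳.obj) (hz : 𝒳.p.obj z = T) :
    ∃ (V : Over S) (c : V ⟶ T) (w : P.W.obj) (hw : P.W.p.obj w = V) (φ : P.g.obj w ⟶ z),
      𝒳.p.map φ = eqToHom ((P.g.w_obj w).trans hw) ≫ c ≫ eqToHom hz.symm ∧ Etale c.left ∧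
        ∀ t : T.left, AlgSt.Points.ofChart (overFunctor h𝒳.isStack.1 z hz) t ∈
          Set.range (AlgSt.Points.map P.g) → t ∈ Set.range c.left := by
  have hX := h𝒳.isStack.1
  let y := overFunctor hX z hz
  have het' : AlgSt.RepByAlgSpWith (AlgSp.LocP @Etale) P.g :=
    repWith_mono (fun _ _ _ _ _ hq => locP_of_isEtaleMor hq) P.et
  obtain ⟨H, c, L, hL, ⟨α⟩, hP⟩ := exists_scheme_chart (f := P.g)
    (repWith_inf stableBaseChange_sep
      (repWith_mono (fun _ _ _ _ _ hq => locP_mono (fun _ _ k (_ : Etale k) =>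
        (⟨Groth.AlgSp2.locallyQuasiFinite_of_etale k, inferInstance⟩ :
          LocallyQuasiFinite k ∧ LocallyOfFiniteType k)) hq) het') P.sep') y
  obtain ⟨i, hi⟩ := overFunctor_eval hX z hz
  let o := L.obj (idObj H)
  let j := isoApp α (idObj H)
  have hj := isVert_isoApp α (idObj H)
  have hw : P.W.p.obj o.obj.snd = H := (fp_p_snd o).trans (L.w_obj (idObj H))
  let φ : P.g.obj o.obj.snd ⟶ z := o.obj.iso.inv ≫ y.map (j.hom ≫ toId _) ≫ i.hom
  refine ⟨H, c, o.obj.snd, hw, φ, ?_, left_prop_of_locP_yon (P := @Etale) (hP _ stableBaseChange_locP het'),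
    fun t ht => ?_⟩
  · have ej : j.hom.left = eqToHom hj.obj_eq := hj.map_eq
    simp only [φ, Functor.map_comp, map_map, hi.map_eq, (IsVert.inv (fp_isVert o)).map_eq]
    simp [AlgSt.overMap, toId, idObj]
    show eqToHom _ ≫ (j.hom.left ≫ c) ≫ eqToHom _ = _
    rw [ej]
    simp
  · obtain ⟨v, hv⟩ := ht
    rw [ofChart_eq_map] at hv
    have hmem : AlgSt.Points.ofChart (BasedFunctor.id _) t ∈
        AlgSt.Points.map y ⁻¹' (AlgSt.Points.map P.g '' Set.univ) := ⟨v, trivial, hv⟩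
    rw [range_map_fpFst P.alg.isStack.1 hX (isFibGrpd_overCat T) P.g y] at hmem
    obtain ⟨w, -, hw'⟩ := hmem
    obtain ⟨w₀, rfl⟩ := (bijective_map_of_isEquivOver hL).2 w
    rw [← AlgStBasic.map_comp, map_eq_of_iso α, ← ofChart_id_ptToScheme w₀, ← ofChart_eq_map] at hw'
    refine ⟨ptToScheme H w₀, ?_⟩
    have e := ofChart_overMap c (BasedFunctor.id _) (ptToScheme H w₀)
    rw [show BasedFunctor.comp (AlgSt.overMap c) (BasedFunctor.id _) = AlgSt.overMap c from rfl, hw'] at e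
    exact bijective_ofChart_id.1 e.symm

include h𝒳 in
/-- A related pair of objects has related values. -/
theorem rel_of_iso (Q : Piece 𝒳) {T : Over S} {w₁ : P.W.obj} {w₂ : Q.W.obj} (hw₁ : P.W.p.obj w₁ = T)
    (hw₂ : Q.W.p.obj w₂ = T) (β : P.g.obj w₁ ≅ Q.g.obj w₂) (hβ : IsVert 𝒳.p β.hom)
    {x : T ⟶ P.M} (hx : valAt P.π w₁ hw₁ = (AlgSp.yon S).map x) {y : T ⟶ Q.M}
    (hy : valAt Q.π w₂ hw₂ = (AlgSp.yon S).map y) : Rel h𝒳 P Q x y := by
  let D := pairData h𝒳 P Q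
  let ξ : (P.inter Q).obj := fpMk (F := P.g) (G := Q.g) w₁ w₂ β hβ
  obtain ⟨r, hr⟩ := (AlgSp.yon S).map_surjective (valAt D.π ξ hw₁)
  refine ⟨r, (AlgSp.yon S).map_injective ?_, (AlgSp.yon S).map_injective ?_⟩
  · rw [Functor.map_comp, hr, ← D.commA ξ hw₁]
    exact hx
  · rw [Functor.map_comp, hr, ← D.commB ξ hw₁]
    exact hy

end Piece

variable (h𝒳 : AlgSt.IsAlgStack Scheme.fppfPrecoverage 𝒳) {ι : Type u} (P : ι → Piece 𝒳)

/-- Two descriptions of the same object by pieces have the same value. -/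
theorem val_compat {i j : ι} {T : Over S} {z : 𝒳.obj} {c : T ⟶ 𝒳.p.obj z}
    {w₁ : (P i).W.obj} {w₂ : (P j).W.obj} (hw₁ : (P i).W.p.obj w₁ = T) (hw₂ : (P j).W.p.obj w₂ = T)
    (φ₁ : (P i).g.obj w₁ ⟶ z) (hφ₁ : 𝒳.p.map φ₁ = eqToHom (((P i).g.w_obj w₁).trans hw₁) ≫ c)
    (φ₂ : (P j).g.obj w₂ ⟶ z) (hφ₂ : 𝒳.p.map φ₂ = eqToHom (((P j).g.w_obj w₂).trans hw₂) ≫ c) :
    valAt (P i).π w₁ hw₁ ≫ inclM h𝒳 P i = valAt (P j).π w₂ hw₂ ≫ inclM h𝒳 P j := by
  obtain ⟨β, hβ, -⟩ := exists_vert_iso_of_lifts h𝒳.isStack.1 φ₁ φ₂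
    ((((P i).g.w_obj w₁).trans hw₁).trans (((P j).g.w_obj w₂).trans hw₂).symm) (by rw [hφ₁, hφ₂]; simp)
  obtain ⟨x, hx⟩ := (AlgSp.yon S).map_surjective (valAt (P i).π w₁ hw₁)
  obtain ⟨y, hy⟩ := (AlgSp.yon S).map_surjective (valAt (P j).π w₂ hw₂)
  rw [← hx, ← hy]
  exact (inclM_eq_iff h𝒳 P x y).2 ((P i).rel_of_iso h𝒳 (P j) hw₁ hw₂ β hβ hx.symm hy.symm)

/-- The value of the glued map at an object. -/
def IsVal (z : 𝒳.obj) (y : (AlgSp.yon S).obj (𝒳.p.obj z) ⟶ gluedM h𝒳 P) : Prop :=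
  ∀ (i : ι) (V : Over S) (c : V ⟶ 𝒳.p.obj z) (w : (P i).W.obj) (hw : (P i).W.p.obj w = V)
    (φ : (P i).g.obj w ⟶ z), 𝒳.p.map φ = eqToHom (((P i).g.w_obj w).trans hw) ≫ c →
      (AlgSp.yon S).map c ≫ y = valAt (P i).π w hw ≫ inclM h𝒳 P i

/-- Pulling back a description. -/
theorem exists_res {i : ι} {z : 𝒳.obj} {V V' : Over S} {c : V ⟶ 𝒳.p.obj z} {w : (P i).W.obj}
    (hw : (P i).W.p.obj w = V) (φ : (P i).g.obj w ⟶ z)
    (hφ : 𝒳.p.map φ = eqToHom (((P i).g.w_obj w).trans hw) ≫ c) (q : V' ⟶ V) :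
    ∃ (w' : (P i).W.obj) (hw' : (P i).W.p.obj w' = V') (φ' : (P i).g.obj w' ⟶ z),
      𝒳.p.map φ' = eqToHom (((P i).g.w_obj w').trans hw') ≫ q ≫ c ∧
        valAt (P i).π w' hw' = (AlgSp.yon S).map q ≫ valAt (P i).π w hw := by
  obtain ⟨w', l, hw', hl⟩ := exists_lift' (P i).alg.isStack.1 (x := w) (q ≫ eqToHom hw.symm)
  refine ⟨w', hw', (P i).g.map l ≫ φ, ?_, valAt_map _ l hl⟩
  rw [Functor.map_comp, map_map, hl, hφ]
  simp

variable (hcov : ∀ z : AlgSt.Points 𝒳, ∃ i, z ∈ Set.range (AlgSt.Points.map (P i).g))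

include hcov in
theorem existsUnique_isVal (z : 𝒳.obj) : ∃! y, IsVal h𝒳 P z y := by
  choose V c w hw φ hφ het hsurj using fun i => (P i).exists_chart h𝒳 z rfl
  have hφ' : ∀ i, 𝒳.p.map (φ i) = eqToHom (((P i).g.w_obj (w i)).trans (hw i)) ≫ c i := fun i => by
    simpa using hφ i
  have hjs : ∀ t, ∃ i, t ∈ Set.range (c i).left := fun t =>
    (hcov (AlgSt.Points.ofChart (overFunctor h𝒳.isStack.1 z rfl) t)).imp fun i => hsurj i t
  have : ∀ i, Etale (c i).left := het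
  have hmem := ofArrows_mem_fppf_of_etale (fun i => (c i).left) hjs
  obtain ⟨y, hy⟩ := exists_glue_of_fppf c hmem (fun i => valAt (P i).π (w i) (hw i) ≫ inclM h𝒳 P i)
    fun i j T p q e => by
      obtain ⟨w₁, hw₁, φ₁, hφ₁, hv₁⟩ := exists_res P (hw i) (φ i) (hφ' i) p
      obtain ⟨w₂, hw₂, φ₂, hφ₂, hv₂⟩ := exists_res P (hw j) (φ j) (hφ' j) q
      refine (Category.assoc _ _ _).symm.trans ((congrArg (· ≫ _) hv₁.symm).trans ?_)
      refine Eq.trans ?_ ((congrArg (· ≫ _) hv₂).trans (Category.assoc _ _ _))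
      exact val_compat h𝒳 P hw₁ hw₂ φ₁ hφ₁ φ₂ (by rw [hφ₂, e])
  refine ⟨y, fun i V' c' w' hw' φ' hφ₀ => ?_, fun y' hy' =>
    eq_of_fppf c hmem fun i => (hy' i _ _ _ _ _ (hφ' i)).trans (hy i).symm⟩
  let W : ι → Over S := fun k => Over.mk (pullback.fst c'.left (c k).left ≫ V'.hom)
  let p₁ : ∀ k, W k ⟶ V' := fun k => Over.homMk (pullback.fst c'.left (c k).left) rfl
  let p₂ : ∀ k, W k ⟶ V k := fun k => Over.homMk (pullback.snd c'.left (c k).left) (by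
    show pullback.snd _ _ ≫ (V k).hom = pullback.fst _ _ ≫ V'.hom
    rw [← Over.w c', ← Over.w (c k), ← Category.assoc, ← pullback.condition, Category.assoc])
  have hp : ∀ k, p₁ k ≫ c' = p₂ k ≫ c k := fun k => Over.OverMorphism.ext pullback.condition
  have : ∀ k, Etale (p₁ k).left := fun k => inferInstanceAs (Etale (pullback.fst c'.left (c k).left))
  have hjs' : ∀ t, ∃ k, t ∈ Set.range (p₁ k).left := fun t => by
    obtain ⟨k, v, hv⟩ := hjs (c'.left t)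
    obtain ⟨p, hp₁, -⟩ := Scheme.Pullback.exists_preimage_pullback t v hv.symm
    exact ⟨k, p, hp₁⟩
  refine eq_of_fppf p₁ (ofArrows_mem_fppf_of_etale (fun k => (p₁ k).left) hjs') fun k => ?_
  obtain ⟨w₁, hw₁, φ₁, hφ₁, hv₁⟩ := exists_res P hw' φ' hφ₀ (p₁ k)
  obtain ⟨w₂, hw₂, φ₂, hφ₂, hv₂⟩ := exists_res P (hw k) (φ k) (hφ' k) (p₂ k)
  rw [← Category.assoc, ← Functor.map_comp, hp, Functor.map_comp, Category.assoc, hy]
  refine (Category.assoc _ _ _).symm.trans ((congrArg (· ≫ _) hv₂.symm).trans ?_)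
  refine Eq.trans ?_ ((congrArg (· ≫ _) hv₁).trans (Category.assoc _ _ _))
  exact val_compat h𝒳 P hw₂ hw₁ φ₂ hφ₂ φ₁ (by rw [hφ₁, hp])

/-- The value. -/
def gluedVal (z : 𝒳.obj) : (AlgSp.yon S).obj (𝒳.p.obj z) ⟶ gluedM h𝒳 P :=
  (existsUnique_isVal h𝒳 P hcov z).choose

theorem gluedVal_spec (z : 𝒳.obj) : IsVal h𝒳 P z (gluedVal h𝒳 P hcov z) :=
  (existsUnique_isVal h𝒳 P hcov z).choose_spec.1

theorem gluedVal_map {a b : 𝒳.obj} (f : a ⟶ b) :
    (gluedM h𝒳 P).obj.map (𝒳.p.map f).op (yEquiv (gluedVal h𝒳 P hcov b)) =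
      yEquiv (gluedVal h𝒳 P hcov a) := by
  apply yEquiv.symm.injective
  rw [← yon_map_yEquiv_symm, Equiv.symm_apply_apply, Equiv.symm_apply_apply]
  refine (existsUnique_isVal h𝒳 P hcov a).choose_spec.2 _ fun i V c w hw φ hφ => ?_
  rw [← Category.assoc, ← Functor.map_comp]
  exact gluedVal_spec h𝒳 P hcov b i V (c ≫ 𝒳.p.map f) w hw (φ ≫ f)
    (by rw [Functor.map_comp, hφ, Category.assoc])

/-- The map to the glued moduli space. -/
def gluedπ : 𝒳 ⥤ᵇ AlgSt.ofSp (gluedM h𝒳 P) :=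
  sigmaFunctor (fun z => yEquiv (gluedVal h𝒳 P hcov z)) (fun {_ _} f => gluedVal_map h𝒳 P hcov f)

theorem homOf_gluedπ (z : 𝒳.obj) : homOf (gluedπ h𝒳 P hcov) z = gluedVal h𝒳 P hcov z := by
  rw [homOf, gluedπ, secOf_sigmaFunctor, Equiv.symm_apply_apply]

theorem valAt_gluedπ {T : Over S} {z : 𝒳.obj} (hz : 𝒳.p.obj z = T) {i : ι} {V : Over S} (c : V ⟶ T)
    {w : (P i).W.obj} (hw : (P i).W.p.obj w = V) (φ : (P i).g.obj w ⟶ z)
    (hφ : 𝒳.p.map φ = eqToHom (((P i).g.w_obj w).trans hw) ≫ c ≫ eqToHom hz.symm) :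
    (AlgSp.yon S).map c ≫ valAt (gluedπ h𝒳 P hcov) z hz = valAt (P i).π w hw ≫ inclM h𝒳 P i := by
  subst hz
  simp only [eqToHom_refl, Category.comp_id] at hφ
  simp only [valAt, eqToHom_refl, CategoryTheory.Functor.map_id, Category.id_comp, homOf_gluedπ]
  exact gluedVal_spec h𝒳 P hcov z i V c w hw φ hφ

theorem valAt_gluedπ_g {T : Over S} {i : ι} (w : (P i).W.obj) (hw : (P i).W.p.obj w = T) :
    valAt (gluedπ h𝒳 P hcov) ((P i).g.obj w) (((P i).g.w_obj w).trans hw) =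
      valAt (P i).π w hw ≫ inclM h𝒳 P i := by
  have := valAt_gluedπ h𝒳 P hcov (((P i).g.w_obj w).trans hw) (𝟙 T) hw (𝟙 _) (by simp)
  rwa [CategoryTheory.Functor.map_id, Category.id_comp] at this

theorem nonempty_iso_gluedπ (i : ι) : Nonempty (BasedFunctor.comp (P i).g (gluedπ h𝒳 P hcov) ≅
    BasedFunctor.comp (P i).π (AlgSt.ofSpMap (inclM h𝒳 P i))) :=
  nonempty_iso_of_homOf fun w => by
    have := valAt_gluedπ_g h𝒳 P hcov w rfl
    rw [← valAt_comp (ha := rfl), ← valAt_ofSpMap] at this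
    simpa only [valAt, eqToHom_refl, CategoryTheory.Functor.map_id, Category.id_comp] using this

end Groth.KeelMori
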