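import Groth.Agent.GitQuot.KeelMori.GluedSep
import Groth.Agent.AlgSpBasic.Glue
import Groth.Agent.AlgSpBasic.GlueHom

/-!
# The glued moduli space of pieces which are open substacks is a scheme; base change of coarse moduli
-/

set_option autoImplicit false
set_option backward.isDefEq.respectTransparency false
set_option backward.isDefEq.respectTransparency.types false

universe u

open CategoryTheory CategoryTheory.Limits AlgebraicGeometry Opposite
open Groth.StkBase Groth.AlgStBasic Groth.AlgSpBasic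

noncomputable section

namespace Groth.KeelMori

variable {S : Scheme.{u}} {𝒳 : AlgSt.Cat S} (h𝒳 : AlgSt.IsAlgStack Scheme.fppfPrecoverage 𝒳)

/-- The two maps of the overlap of a full piece with itself agree. -/
theorem pairData_a_eq_b (P : Piece 𝒳) (hf : P.g.toFunctor.Full) :
    (pairData h𝒳 P P).a = (pairData h𝒳 P P).b := by
  let D := pairData h𝒳 P P
  refine (AlgSp.yon S).map_injective (hom_ext_of_moduli D.moduli (AlgSp.IsAlgSpace.yon_obj _) fun z => ?_)
  rw [← D.commA z rfl, ← D.commB z rfl]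
  obtain ⟨γ, hγ⟩ := hf.map_surjective z.obj.iso.hom
  exact valAt_vert P.π γ (isVert_of_map (F := P.g) (by rw [hγ]; exact fp_isVert z)) _ _

variable {ι : Type u} (P : ι → Piece 𝒳)

theorem mono_inclM (i : ι) (hf : (P i).g.toFunctor.Full) : Mono (inclM h𝒳 P i) := by
  refine ⟨fun {Z} f f' e => GlueHom.hom_ext_yon fun T t => ?_⟩
  obtain ⟨a, ha⟩ := (AlgSp.yon S).map_surjective (t ≫ f)
  obtain ⟨b, hb⟩ := (AlgSp.yon S).map_surjective (t ≫ f')
  rw [← ha, ← hb]
  obtain ⟨r, rfl, rfl⟩ := (inclM_eq_iff h𝒳 P a b).1 (by rw [ha, hb, Category.assoc, Category.assoc, e])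
  rw [pairData_a_eq_b h𝒳 (P i) hf]

theorem openImm_inclM (i : ι) (hf : (P i).g.toFunctor.Full) :
    AlgSp.RepWith @IsOpenImmersion (inclM h𝒳 P i) := by
  have := mono_inclM h𝒳 P i hf
  refine ⟨(etale_inclM h𝒳 P i).rep, fun _ _ y fst g sq => ?_⟩
  have hg : Etale g.left := (etale_inclM h𝒳 P i).property y fst g sq
  have : Mono ((AlgSp.yon S).map g) := MorphismProperty.of_isPullback (P := MorphismProperty.monomorphisms _) sq
    (show MorphismProperty.monomorphisms _ (inclM h𝒳 P i) from ‹_›)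
  have : Mono g := (AlgSp.yon S).mono_of_mono_map ‹_›
  have : Mono g.left := inferInstance
  exact IsOpenImmersion.of_flat_of_mono g.left

/-- The glued space of full pieces is a scheme. -/
theorem exists_iso_yon_gluedM (hf : ∀ i, (P i).g.toFunctor.Full) :
    ∃ Y : Over S, Nonempty ((AlgSp.yon S).obj Y ≅ gluedM h𝒳 P) := by
  refine exists_iso_yon_of_openImmersions (fun i => openImm_inclM h𝒳 P i (hf i)) fun T g t => ?_
  obtain ⟨V, c, y, -, hjs, hy⟩ := exists_local_lift h𝒳 P g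
  obtain ⟨i, v, rfl⟩ := hjs t
  obtain ⟨Q, snd, fst, sq⟩ := (etale_inclM h𝒳 P i).rep g
  obtain ⟨l, hl⟩ := (AlgSp.yon S).map_surjective (sq.lift ((AlgSp.yon S).map (y i)) ((AlgSp.yon S).map (c i)) (hy i).symm)
  refine ⟨i, Q, fst, snd, sq, l.left v, ?_⟩
  have e : l ≫ snd = c i := (AlgSp.yon S).map_injective (by rw [Functor.map_comp, hl, sq.lift_snd])
  rw [← e]
  rfl

omit h𝒳 in
/-- Bijectivity on geometric points is stable under base change. -/
theorem geomPtBij_fpFst (hX : FibCat.IsFibGrpd 𝒳.p) {M M' : AlgSp.Sp S} {π : 𝒳 ⥤ᵇ AlgSt.ofSp M}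
    (hi : GeomInj π) (hs : GeomSurj π) (g : M' ⟶ M) :
    AlgSt.GeomPtBij (FibCat.fpFst (AlgSt.ofSpMap g) π) := by
  have hF : FibCat.IsFibGrpd (FibCat.fp (AlgSt.ofSpMap g) π).p :=
    isFibGrpd_fp (isFibSetoid_ofPsh _).1 hX (isFibSetoid_ofPsh _).1
  refine geomPtBij_of hF (fun k _ _ s z₁ z₂ h₁ h₂ e => ?_) fun k _ _ s m => ?_
  · have key : ∀ (z : (FibCat.fp (AlgSt.ofSpMap g) π).obj) (h : (FibCat.fp (AlgSt.ofSpMap g) π).p.obj z = Over.mk s),
        valAt π z.obj.snd ((fp_p_snd z).trans h) = valAt (FibCat.fpFst (AlgSt.ofSpMap g) π) z h ≫ g := fun z h => by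
      refine (valAt_comp (FibCat.fpSnd (AlgSt.ofSpMap g) π) π z h).symm.trans ?_
      exact (valAt_of_iso (FibCat.fpIso (AlgSt.ofSpMap g) π) z h).symm.trans (valAt_ofSpMap _ g z h)
    obtain ⟨β, hβ⟩ := hi k s z₁.obj.snd z₂.obj.snd ((fp_p_snd z₁).trans h₁) ((fp_p_snd z₂).trans h₂)
      ((key z₁ h₁).trans ((congrArg (· ≫ g) e).trans (key z₂ h₂).symm))
    obtain ⟨f, hf⟩ := exists_elt_hom z₁.obj.fst z₂.obj.fst
      (eqToHom (h₁.trans h₂.symm : z₁.obj.fst.base = z₂.obj.fst.base)) (by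
        simp only [valAt, homOf_fpFst] at e
        have e' := congrArg ((AlgSp.yon S).map (eqToHom h₁) ≫ ·) e
        simp only [← Category.assoc, ← Functor.map_comp, eqToHom_trans, eqToHom_refl,
          CategoryTheory.Functor.map_id, Category.id_comp] at e'
        exact e'.symm)
    have hv : IsVert (AlgSt.ofSp M').p f := ⟨_, hf⟩
    exact ⟨fpHom (x := z₁) (y := z₂) f β (elt_eq_of_isVert ((isVert_map hv).comp (fp_isVert z₂))
      ((fp_isVert z₁).comp (isVert_map hβ))), (isVert_fp_iff _).2 hv⟩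
  · obtain ⟨a, ha, hv⟩ := hs k s (m ≫ g)
    refine ⟨mkFp m a ha hv.symm, rfl, ?_⟩
    simp only [valAt, homOf_fpFst]
    rw [eqToHom_refl]
    erw [CategoryTheory.Functor.map_id, Category.id_comp]
    exact Equiv.symm_apply_apply _ _

end Groth.KeelMori
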