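import Groth.Agent.GitQuot.KeelMori.GluedUnif
import Groth.Agent.GitQuot.KeelMori.Props
import Groth.Agent.AlgSp2.FpqcCoverBasic

/-!
# The glued moduli space: points, universal homeomorphism, separatedness
-/

set_option autoImplicit false
set_option backward.isDefEq.respectTransparency false
set_option backward.isDefEq.respectTransparency.types false

universe u

open CategoryTheory CategoryTheory.Limits AlgebraicGeometry Opposite
open Groth.StkBase Groth.AlgStBasic Groth.AlgSpBasic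

noncomputable section

namespace Groth.KeelMori

variable {S : Scheme.{u}}

/-- A nonempty etale scheme over an algebraically closed field has a rational point. -/
theorem exists_section {k : Type u} [Field k] [IsAlgClosed k] {s : Spec (CommRingCat.of k) ⟶ S}
    {V : Over S} (c : V ⟶ Over.mk s) [Etale c.left] (v : V.left) :
    ∃ σ : Over.mk s ⟶ V, σ ≫ c = 𝟙 _ := by
  let d : V.left ⟶ Spec (CommRingCat.of k) := c.left
  have : LocallyOfFiniteType d := inferInstanceAs (LocallyOfFiniteType c.left)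
  have : Nonempty V.left := ⟨v⟩
  obtain ⟨σ, hσ⟩ := AlgStLift.exists_point d
  refine ⟨Over.homMk σ ?_, Over.OverMorphism.ext hσ⟩
  show σ ≫ V.hom = s
  rw [← Over.w c, ← Category.assoc]
  exact (congrArg (· ≫ s) hσ).trans (Category.id_comp s)

/-- Closedness of a map on points is invariant under equivalence of the source. -/
theorem isClosedMap_of_equiv {A B W : AlgSt.Cat S} (hB : AlgSt.IsAlgStack Scheme.fppfPrecoverage B)
    {E : A ⥤ᵇ B} (hE : FibCat.IsEquivOver E) (f : B ⥤ᵇ W)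
    (h : IsClosedMap (AlgSt.Points.map (BasedFunctor.comp E f))) :
    IsClosedMap (AlgSt.Points.map f) := fun C hC => by
  rw [← (bijective_map_of_isEquivOver hE).2.image_preimage C, Set.image_image,
    Set.image_congr (g := AlgSt.Points.map (BasedFunctor.comp E f)) fun x _ => (AlgStBasic.map_comp E f x).symm]
  exact h _ (hC.preimage (continuous_map hB E))

variable {𝒳 : AlgSt.Cat S} (h𝒳 : AlgSt.IsAlgStack Scheme.fppfPrecoverage 𝒳) {ι : Type u}
  (P : ι → Piece 𝒳) (hcov : ∀ z : AlgSt.Points 𝒳, ∃ i, z ∈ Set.range (AlgSt.Points.map (P i).g))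

include h𝒳 hcov in
/-- An object over an algebraically closed field comes from a piece. -/
theorem exists_piece_lift (k : Type u) [Field k] [IsAlgClosed k] (s : Spec (CommRingCat.of k) ⟶ S)
    (a : 𝒳.obj) (ha : 𝒳.p.obj a = Over.mk s) :
    ∃ (i : ι) (w : (P i).W.obj) (_ : (P i).W.p.obj w = Over.mk s) (φ : (P i).g.obj w ⟶ a),
      IsVert 𝒳.p φ := by
  obtain ⟨i, hi⟩ := hcov (AlgSt.Points.mk ⟨k, s, a, ha⟩)
  obtain ⟨V, c, w, hw, φ, hφ, hc, hsurj⟩ := (P i).exists_chart h𝒳 a ha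
  obtain ⟨v, -⟩ := hsurj (IsLocalRing.closedPoint k)
    (by rw [AlgStLift.ofChart_overFunctor h𝒳.isStack.1 s a ha]; exact hi)
  obtain ⟨σ, hσ⟩ := exists_section c v
  obtain ⟨w', l, hw', hl⟩ := exists_lift' (P i).alg.isStack.1 (x := w) (σ ≫ eqToHom hw.symm)
  refine ⟨i, w', hw', (P i).g.map l ≫ φ, (((P i).g.w_obj w').trans hw').trans ha.symm, ?_⟩
  rw [Functor.map_comp, map_map, hl, hφ]
  simp only [Category.assoc, eqToHom_trans_assoc, eqToHom_refl, Category.id_comp]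
  rw [reassoc_of% hσ]
  simp

theorem geomInj_gluedπ : GeomInj (gluedπ h𝒳 P hcov) := by
  intro k _ _ s a₁ a₂ h₁ h₂ hv
  have hX := h𝒳.isStack.1
  obtain ⟨i, w₁, hw₁, φ₁, hφ₁⟩ := exists_piece_lift h𝒳 P hcov k s a₁ h₁
  obtain ⟨j, w₂, hw₂, φ₂, hφ₂⟩ := exists_piece_lift h𝒳 P hcov k s a₂ h₂
  have e₁ := valAt_gluedπ_g h𝒳 P hcov w₁ hw₁
  rw [valAt_vert _ φ₁ hφ₁ (hb := h₁), hv, ← valAt_vert _ φ₂ hφ₂ (ha := ((P j).g.w_obj w₂).trans hw₂),
    valAt_gluedπ_g h𝒳 P hcov w₂ hw₂] at e₁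
  obtain ⟨x, hx⟩ := (AlgSp.yon S).map_surjective (valAt (P i).π w₁ hw₁)
  obtain ⟨y, hy⟩ := (AlgSp.yon S).map_surjective (valAt (P j).π w₂ hw₂)
  rw [← hx, ← hy] at e₁
  obtain ⟨r, hra, hrb⟩ := (inclM_eq_iff h𝒳 P x y).1 e₁.symm
  let D := pairData h𝒳 (P i) (P j)
  obtain ⟨ξ, hξ, α, hα, hξv⟩ := D.liftA w₁ hw₁ ((AlgSp.yon S).map r)
    (by rw [← Functor.map_comp, hra, hx])
  obtain ⟨γ, hγ⟩ := (P j).inj k s ξ.obj.snd w₂ ((fp_p_snd ξ).trans hξ) hw₂
    (by rw [D.commB ξ hξ, hξv, ← Functor.map_comp, hrb, hy])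
  have := (isVert_map (F := (P i).g) hα).isIso hX
  have := hφ₁.isIso hX
  exact ⟨inv φ₁ ≫ inv ((P i).g.map α) ≫ ξ.obj.iso.hom ≫ (P j).g.map γ ≫ φ₂,
    (IsVert.inv (φ := asIso φ₁) hφ₁).comp ((IsVert.inv (φ := asIso ((P i).g.map α)) (isVert_map hα)).comp
      ((fp_isVert ξ).comp ((isVert_map hγ).comp hφ₂)))⟩

theorem geomSurj_gluedπ : GeomSurj (gluedπ h𝒳 P hcov) := by
  intro k _ _ s m
  obtain ⟨V, c, y, hc, hjs, hy⟩ := exists_local_lift h𝒳 P m
  obtain ⟨i, v, -⟩ := hjs (IsLocalRing.closedPoint k)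
  have := hc i
  obtain ⟨σ, hσ⟩ := exists_section (c i) v
  obtain ⟨w, hw, hv⟩ := (P i).surj k s ((AlgSp.yon S).map (σ ≫ y i))
  refine ⟨(P i).g.obj w, ((P i).g.w_obj w).trans hw, (valAt_gluedπ_g h𝒳 P hcov w hw).trans ?_⟩
  rw [hv, Functor.map_comp, Category.assoc, ← hy i, ← Category.assoc, ← Functor.map_comp, hσ,
    CategoryTheory.Functor.map_id, Category.id_comp]

theorem geomPtBij_gluedπ : AlgSt.GeomPtBij (gluedπ h𝒳 P hcov) :=
  geomPtBij_of h𝒳.isStack.1 (geomInj_gluedπ h𝒳 P hcov) (geomSurj_gluedπ h𝒳 P hcov)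

theorem isSurjective_diag_gluedπ : AlgSt.IsSurjective (FibCat.diag (gluedπ h𝒳 P hcov)) := by
  refine AlgStLift.isSurjective_diag_of_lift_hom h𝒳.isStack.1 (isFibSetoid_ofPsh _).1 _
    fun k _ _ s a₁ a₂ h₁ h₂ β hβ => ?_
  obtain ⟨α, hα⟩ := geomInj_gluedπ h𝒳 P hcov k s a₁ a₂ h₁ h₂ (homOf_eq_of_vert _ h₁ h₂ β hβ)
  exact ⟨α, elt_hom_ext_p ((isVert_map hα).map_eq.trans hβ.map_eq.symm)⟩

theorem isSurjective_gluedπ : AlgSt.IsSurjective (gluedπ h𝒳 P hcov) := fun z => by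
  let M := gluedM h𝒳 P
  obtain ⟨p, rfl⟩ := AlgSt.Points.mk_surjective z
  let d : Over.mk (Spec.map (CommRingCat.ofHom (algebraMap p.K (AlgebraicClosure p.K))) ≫ p.str) ⟶
      Over.mk p.str :=
    Over.homMk (Spec.map (CommRingCat.ofHom (algebraMap p.K (AlgebraicClosure p.K)))) rfl
  obtain ⟨v, hv, φ, -⟩ := exists_pullback_pt (isFibSetoid_ofPsh M.obj).1 p d
  obtain ⟨a, ha, hva⟩ := geomSurj_gluedπ h𝒳 P hcov (AlgebraicClosure p.K) _
    ((AlgSp.yon S).map (eqToHom hv.symm) ≫ yEquiv.symm v.sec)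
  refine ⟨AlgSt.Points.mk ⟨AlgebraicClosure p.K, _, a, ha⟩, ?_⟩
  obtain ⟨f, hf⟩ := exists_elt_hom ((gluedπ h𝒳 P hcov).obj a) v
    (eqToHom (((gluedπ h𝒳 P hcov).w_obj a).trans (ha.trans hv.symm))) (by
      have e := congrArg ((AlgSp.yon S).map (eqToHom (((gluedπ h𝒳 P hcov).w_obj a).trans ha)) ≫ ·) hva
      simp only [valAt, homOf_eq, ← Category.assoc, ← Functor.map_comp, eqToHom_trans, eqToHom_refl,
        CategoryTheory.Functor.map_id, Category.id_comp] at e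
      exact e.symm)
  exact (mk_eq_of_hom (p := AlgSt.FPt.map (gluedπ h𝒳 P hcov) ⟨AlgebraicClosure p.K, _, a, ha⟩)
    (q := ⟨AlgebraicClosure p.K, _, v, hv⟩) f).trans
    (mk_eq_of_hom (p := ⟨AlgebraicClosure p.K, _, v, hv⟩) (q := p) φ)

/-- The base change of the glued map to a piece is universally closed. -/
theorem isUnivClosed_piece (i : ι) : AlgSt.IsUnivClosed Scheme.fppfPrecoverage
    (FibCat.fpFst (AlgSt.ofSpMap (inclM h𝒳 P i)) (gluedπ h𝒳 P hcov)) := by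
  obtain ⟨e, hc⟩ := exists_isTwoCartOver_piece h𝒳 P hcov i
  let π := gluedπ h𝒳 P hcov
  let m := AlgSt.ofSpMap (inclM h𝒳 P i)
  have hM := isAlgStack_ofSp (isAlgSpace_gluedM h𝒳 P)
  have hMi := isAlgStack_ofSp (AlgSp.IsAlgSpace.yon_obj (P i).M)
  have hA := isAlgStack_fp hM.isStack hM.diag hMi h𝒳 m π
  have hB := isAlgStack_fp hM.isStack hM.diag h𝒳 hMi π m
  let Φ := FibCat.fpLift (P i).g (P i).π e
  have hπi : AlgSt.IsUnivClosed Scheme.fppfPrecoverage (P i).π :=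
    fun 𝒵 hZ g => ((P i).homeo 𝒵 hZ g).isClosedMap
  have hs : AlgSt.IsSurjective Φ := (bijective_map_of_isEquivOver hc).2
  have hsnd : AlgSt.IsUnivClosed Scheme.fppfPrecoverage (FibCat.fpSnd π m) :=
    StkGerb.isUnivClosed_of_comp (P i).alg hB hMi (f := Φ) (g := FibCat.fpSnd π m) hs
      (StkGerb.isUnivClosed_of_iso hMi (P i).alg (f := (P i).π) (Iso.refl _) hπi)
  exact StkGerb.isUnivClosed_of_iso hMi hA (f := BasedFunctor.comp (fpSwap m π) (FibCat.fpSnd π m))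
    (Iso.refl _) (StkGerb.isUnivClosed_comp hA hB hMi
      (StkGerb.isUnivClosed_of_isEquivOver hA hB (isEquivOver_fpSwap m π)) hsnd)

theorem repWith_flat_inclM (i : ι) : AlgSt.RepByAlgSpWith (AlgSp.LocP @Flat)
    (AlgSt.ofSpMap (inclM h𝒳 P i)) :=
  repWith_ofPshMap_of_stable (F := ⟨_, AlgSp.IsAlgSpace.yon_obj (P i).M⟩)
    (G := ⟨_, isAlgSpace_gluedM h𝒳 P⟩) stableBaseChange_locP _
    (locP_of_repWith (repWith_mono (fun _ _ f (_ : Etale f) => (inferInstance : Flat f)) (etale_inclM h𝒳 P i)))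

theorem repWith_lfp_inclM (i : ι) : AlgSt.RepByAlgSpWith (AlgSp.LocP @LocallyOfFinitePresentation)
    (AlgSt.ofSpMap (inclM h𝒳 P i)) :=
  repWith_ofPshMap_of_stable (F := ⟨_, AlgSp.IsAlgSpace.yon_obj (P i).M⟩)
    (G := ⟨_, isAlgSpace_gluedM h𝒳 P⟩) stableBaseChange_locP _
    (locP_of_repWith (repWith_mono
      (fun _ _ f (_ : Etale f) => (inferInstance : LocallyOfFinitePresentation f)) (etale_inclM h𝒳 P i)))

include hcov in
theorem exists_mem_range_inclM (z : AlgSt.Points (AlgSt.ofSp (gluedM h𝒳 P))) :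
    ∃ i, z ∈ Set.range (AlgSt.Points.map (AlgSt.ofSpMap (inclM h𝒳 P i))) := by
  obtain ⟨x, rfl⟩ := isSurjective_gluedπ h𝒳 P hcov z
  obtain ⟨i, w, rfl⟩ := hcov x
  obtain ⟨e⟩ := nonempty_iso_gluedπ h𝒳 P hcov i
  exact ⟨i, AlgSt.Points.map (P i).π w, by
    rw [← AlgStBasic.map_comp, ← AlgStBasic.map_comp, map_eq_of_iso e]⟩

theorem isUnivClosed_gluedπ : AlgSt.IsUnivClosed Scheme.fppfPrecoverage (gluedπ h𝒳 P hcov) := by
  intro 𝒵 hZ h C hC
  let π := gluedπ h𝒳 P hcov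
  let m := fun i => AlgSt.ofSpMap (inclM h𝒳 P i)
  have hM := isAlgStack_ofSp (isAlgSpace_gluedM h𝒳 P)
  have hMi := fun i => isAlgStack_ofSp (AlgSp.IsAlgSpace.yon_obj (P i).M)
  let f := FibCat.fpFst h π
  have hf := isAlgStack_fp hM.isStack hM.diag hZ h𝒳 h π
  let D := AlgSt.Points.map f '' C
  let q := fun i => FibCat.fpFst h (m i)
  let s := fun i => FibCat.fpSnd h (m i)
  have hZi := fun i => isAlgStack_fp hM.isStack hM.diag hZ (hMi i) h (m i)
  have hopen : ∀ i, IsOpenMap (AlgSt.Points.map (q i)) := fun i =>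
    isOpenMap_map_of_repWith (hZi i) hZ.isStack.1
      (repWith_fpFst (m i) h (repWith_flat_inclM h𝒳 P i))
      (repWith_fpFst (m i) h (repWith_lfp_inclM h𝒳 P i))
  have hclosed : ∀ i, IsClosed (AlgSt.Points.map (q i) ⁻¹' D) := fun i => by
    rw [range_map_fpFst hf.isStack.1 hZ.isStack.1 (hZi i).isStack.1 f (q i) C]
    have hQ := isAlgStack_fp hZ.isStack hZ.diag (hZi i) hf (q i) f
    refine (?_ : IsClosedMap (AlgSt.Points.map (FibCat.fpFst (q i) f))) _ (hC.preimage (continuous_map hf _))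
    have hA := isAlgStack_fp hM.isStack hM.diag (hMi i) h𝒳 (m i) π
    have hsm := isAlgStack_fp hM.isStack hM.diag (hZi i) h𝒳 (BasedFunctor.comp (s i) (m i)) π
    have hqh := isAlgStack_fp hM.isStack hM.diag (hZi i) h𝒳 (BasedFunctor.comp (q i) h) π
    have h₁ : IsClosedMap (AlgSt.Points.map (FibCat.fpFst (BasedFunctor.comp (s i) (m i)) π)) :=
      isClosedMap_of_equiv hsm (isEquivOver_fpPaste (s i) (m i) π) _
        (isUnivClosed_piece h𝒳 P hcov i _ (hZi i) (s i))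
    have h₂ : IsClosedMap (AlgSt.Points.map (FibCat.fpFst (BasedFunctor.comp (q i) h) π)) :=
      isClosedMap_of_equiv hqh (isEquivOver_fpCongr (FibCat.fpIso h (m i)).symm (Iso.refl π)) _ h₁
    exact isClosedMap_of_equiv hQ (isEquivOver_fpUnpaste (q i) h π) _ h₂
  rw [← isOpen_compl_iff]
  have : Dᶜ = ⋃ i, AlgSt.Points.map (q i) '' (AlgSt.Points.map (q i) ⁻¹' D)ᶜ := by
    ext z
    simp only [Set.mem_compl_iff, Set.mem_iUnion, Set.mem_image, Set.mem_preimage]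
    refine ⟨fun hz => ?_, fun ⟨i, w, hw, e⟩ => e ▸ hw⟩
    obtain ⟨i, x, hx⟩ := exists_mem_range_inclM h𝒳 P hcov (AlgSt.Points.map h z)
    obtain ⟨w, hw, -⟩ := exists_points_fp (hMi i).isStack.1 hM.isStack.1 hZ.isStack.1 (m i) h z x hx.symm
    exact ⟨i, w, by rw [hw]; exact hz, hw⟩
  rw [this]
  exact isOpen_iUnion fun i => hopen i _ (hclosed i).isOpen_compl

theorem isUnivHomeo_gluedπ : AlgSt.IsUnivHomeo Scheme.fppfPrecoverage (gluedπ h𝒳 P hcov) := by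
  intro 𝒵 hZ g
  have hM := isAlgStack_ofSp (isAlgSpace_gluedM h𝒳 P)
  exact isHomeomorph_iff_continuous_isClosedMap_bijective.2 ⟨continuous_map hZ _,
    isUnivClosed_gluedπ h𝒳 P hcov 𝒵 hZ g,
    (isUnivInjective_iff_isSurjective_diag h𝒳 hM _).2 (isSurjective_diag_gluedπ h𝒳 P hcov) 𝒵 hZ g,
    isSurjective_fpFst h𝒳.isStack.1 hM.isStack.1 hZ.isStack.1 g (isSurjective_gluedπ h𝒳 P hcov)⟩

theorem isQuasiCompactMor_gluedπ :
    AlgSt.IsQuasiCompactMor Scheme.fppfPrecoverage (gluedπ h𝒳 P hcov) :=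
  StkGerb.isQuasiCompactMor_of_isUnivHomeo h𝒳 (isAlgStack_ofSp (isAlgSpace_gluedM h𝒳 P))
    (isUnivHomeo_gluedπ h𝒳 P hcov)

end Groth.KeelMori
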