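import Groth.Agent.GitQuot.KeelMori.GluedProps
import Groth.Agent.GitQuot.StkInertia.Descent
import Groth.Agent.AlgStBasic.FppfBase

/-!
# The glued moduli space is separated under the stack; the Keel-Mori theorem
-/

set_option autoImplicit false
set_option backward.isDefEq.respectTransparency false
set_option backward.isDefEq.respectTransparency.types false

universe u

open CategoryTheory CategoryTheory.Limits AlgebraicGeometry Opposite
open Groth.StkBase Groth.AlgStBasic Groth.AlgSpBasic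

noncomputable section

namespace Groth.KeelMori

variable {S : Scheme.{u}}

/-- Parallel vertical morphisms of elements are equal. -/
theorem elt_eq_of_isVert {M : AlgSp.Sp S} {A B : (AlgSt.ofSp M).obj} {f g : A ⟶ B}
    (hf : IsVert (AlgSt.ofSp M).p f) (hg : IsVert (AlgSt.ofSp M).p g) : f = g :=
  elt_hom_ext_p (hf.map_eq.trans hg.map_eq.symm)

theorem isVert_snd {𝒳 𝒴 𝒵 : AlgSt.Cat S} {F : 𝒳 ⥤ᵇ 𝒵} {G : 𝒴 ⥤ᵇ 𝒵} {x y : (FibCat.fp F G).obj}
    (φ : x ⟶ y) (h : IsVert (FibCat.fp F G).p φ) : IsVert 𝒴.p φ.hom.snd := by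
  have h₁ : IsVert 𝒳.p φ.hom.fst := (isVert_fp_iff φ).1 h
  refine ⟨(fp_p_snd _).trans (h₁.obj_eq.trans (fp_p_snd _).symm), ?_⟩
  rw [fp_map_snd]
  simp [h₁.map_eq]

/-- Objects with the same value have isomorphic images. -/
theorem exists_iso_of_valAt {𝒳 : AlgSt.Cat S} {M : AlgSp.Sp S} (π : 𝒳 ⥤ᵇ AlgSt.ofSp M) {T : Over S}
    {w w' : 𝒳.obj} (hw : 𝒳.p.obj w = T) (hw' : 𝒳.p.obj w' = T)
    (h : valAt π w hw = valAt π w' hw') :
    ∃ i : π.obj w ≅ π.obj w', IsVert (AlgSt.ofSp M).p i.hom := by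
  obtain ⟨f, hf⟩ := exists_elt_hom (π.obj w) (π.obj w')
    (eqToHom ((π.w_obj w).trans (hw.trans (hw'.symm.trans (π.w_obj w').symm)))) (by
      have e₂ := congrArg ((AlgSp.yon S).map (eqToHom ((π.w_obj w).trans hw)) ≫ ·) h
      simp only [valAt, homOf_eq, ← Category.assoc, ← Functor.map_comp, eqToHom_trans, eqToHom_refl,
        CategoryTheory.Functor.map_id, Category.id_comp] at e₂
      exact e₂.symm)
  have hv : IsVert (AlgSt.ofSp M).p f := ⟨_, hf⟩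
  have := hv.isIso (isFibSetoid_ofPsh M.obj).1
  exact ⟨asIso f, hv⟩

variable {𝒳 : AlgSt.Cat S} (h𝒳 : AlgSt.IsAlgStack Scheme.fppfPrecoverage 𝒳) {ι : Type u}
  (P : ι → Piece 𝒳) (hcov : ∀ z : AlgSt.Points 𝒳, ∃ i, z ∈ Set.range (AlgSt.Points.map (P i).g))

/-- The pairs of objects of a piece in the pairs of objects of the stack. -/
theorem exists_pieceDiag (i : ι) : ∃ (Ψ : FibCat.fp (P i).π (P i).π ⥤ᵇ
      FibCat.fp (gluedπ h𝒳 P hcov) (gluedπ h𝒳 P hcov))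
      (Λ : (P i).W ⥤ᵇ FibCat.fp Ψ (FibCat.diag (gluedπ h𝒳 P hcov))),
      FibCat.IsEquivOver Λ ∧
        BasedFunctor.comp Λ (FibCat.fpFst Ψ (FibCat.diag (gluedπ h𝒳 P hcov))) = FibCat.diag (P i).π ∧
        BasedFunctor.comp Ψ (FibCat.fpFst (gluedπ h𝒳 P hcov) (gluedπ h𝒳 P hcov)) =
          BasedFunctor.comp (FibCat.fpFst (P i).π (P i).π) (P i).g ∧
        BasedFunctor.comp Ψ (FibCat.fpSnd (gluedπ h𝒳 P hcov) (gluedπ h𝒳 P hcov)) =
          BasedFunctor.comp (FibCat.fpSnd (P i).π (P i).π) (P i).g := by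
  obtain ⟨e, hc⟩ := exists_isTwoCartOver_piece h𝒳 P hcov i
  let π := gluedπ h𝒳 P hcov
  let g := (P i).g
  let πi := (P i).π
  let fst := FibCat.fpFst πi πi
  let snd := FibCat.fpSnd πi πi
  let κ : BasedFunctor.comp (BasedFunctor.comp fst g) π ≅ BasedFunctor.comp (BasedFunctor.comp snd g) π :=
    (whiskerLeftIso fst e).trans ((whiskerRightIso (FibCat.fpIso πi πi)
      (AlgSt.ofSpMap (inclM h𝒳 P i))).trans (whiskerLeftIso snd e.symm))
  let Ψ := FibCat.fpLift (BasedFunctor.comp fst g) (BasedFunctor.comp snd g) κ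
  let ν : BasedFunctor.comp (FibCat.diag πi) Ψ ≅ BasedFunctor.comp g (FibCat.diag π) :=
    fpIsoMk (Iso.refl _) (Iso.refl _) fun x => elt_eq_of_isVert
      ((isVert_map (F := π) (isVert_id _)).comp (fp_isVert _))
      ((fp_isVert _).comp (isVert_map (F := π) (isVert_id _)))
  let Λ := FibCat.fpLift (FibCat.diag πi) g ν
  have hX := h𝒳.isStack.1
  have hf := (P i).faithful h𝒳
  have hfib : FibCat.IsFibGrpd (FibCat.fp Ψ (FibCat.diag π)).p :=
    isFibGrpd_fp (isFibGrpd_fp (P i).alg.isStack.1 (P i).alg.isStack.1 (isFibSetoid_ofPsh _).1) hX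
      (isFibGrpd_fp hX hX (isFibSetoid_ofPsh _).1)
  refine ⟨Ψ, Λ, isEquivOver_of_fullyFaithful Λ ⟨fun {w w'} ψ => ?_⟩
    ⟨fun {w w'} a b h => congrArg (fun t => t.hom.fst.hom.fst) h⟩ (fun y => ?_), rfl, rfl, rfl⟩
  · let u₁ := ψ.hom.fst.hom.fst
    let u₂ := ψ.hom.fst.hom.snd
    let v := ψ.hom.snd
    have c := congrArg (fun t => t.hom) ψ.hom.w
    have c₁ : g.map u₁ ≫ 𝟙 _ = 𝟙 _ ≫ v := congrArg (fun t => t.fst) c
    have c₂ : g.map u₂ ≫ 𝟙 _ = 𝟙 _ ≫ v := congrArg (fun t => t.snd) c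
    rw [Category.comp_id, Category.id_comp] at c₁ c₂
    have e₁₂ : u₁ = u₂ := hf.map_injective (c₁.trans c₂.symm)
    exact ⟨u₁, fp_hom_ext (fp_hom_ext rfl e₁₂) c₁⟩
  · let ξ := y.obj.fst
    let w := ξ.obj.fst
    let w' := ξ.obj.snd
    let α₁ : g.obj w ⟶ y.obj.snd := y.obj.iso.hom.hom.fst
    let α₂ : g.obj w' ⟶ y.obj.snd := y.obj.iso.hom.hom.snd
    have hα₁ : IsVert 𝒳.p α₁ := (isVert_fp_iff y.obj.iso.hom).1 (fp_isVert y)
    have hα₂ : IsVert 𝒳.p α₂ := isVert_snd y.obj.iso.hom (fp_isVert y)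
    have := hα₂.isIso hX
    have hval : valAt πi w (rfl : (P i).W.p.obj w = _) = valAt πi w' (fp_p_snd ξ) := by
      have e₁ := valAt_of_iso (FibCat.fpIso πi πi) ξ rfl
      rw [valAt_comp, valAt_comp] at e₁
      exact e₁
    obtain ⟨γ, hγ, hγg⟩ := exists_hom_of_twoCart hc rfl (fp_p_snd ξ) (α₁ ≫ inv α₂)
      (hα₁.comp (IsVert.inv (φ := asIso α₂) hα₂)) hval
    let φ₁ : (FibCat.diag πi).obj w ⟶ ξ := fpHom (x := (FibCat.diag πi).obj w) (y := ξ) (𝟙 w) γ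
      (elt_eq_of_isVert ((isVert_map (F := πi) (isVert_id _)).comp (fp_isVert ξ))
        ((fp_isVert ((FibCat.diag πi).obj w)).comp (isVert_map (F := πi) hγ)))
    let φ : Λ.obj w ⟶ y := fpHom (x := Λ.obj w) (y := y) φ₁ α₁ (by
      refine fp_hom_ext ?_ ?_
      · show g.map (𝟙 w) ≫ α₁ = 𝟙 _ ≫ α₁
        rw [show g.map (𝟙 w) = 𝟙 _ from g.toFunctor.map_id w]
      · show g.map γ ≫ α₂ = 𝟙 _ ≫ α₁
        rw [hγg, Category.assoc, IsIso.inv_hom_id, Category.comp_id, Category.id_comp])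
    have hφ : IsVert (FibCat.fp Ψ (FibCat.diag π)).p φ :=
      (isVert_fp_iff φ).2 ((isVert_fp_iff φ₁).2 (isVert_id _))
    have := hφ.isIso hfib
    exact ⟨w, asIso φ, hφ⟩

/-- **The glued map is separated.** -/
theorem isSeparatedMor_gluedπ : AlgSt.IsSeparatedMor (gluedπ h𝒳 P hcov) := by
  let π := gluedπ h𝒳 P hcov
  have hM := isAlgStack_ofSp (isAlgSpace_gluedM h𝒳 P)
  have hX := h𝒳.isStack.1
  refine GitQuot.StkInertia.repWith_of_locally_tests stableBaseChange_proper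
    (isLocalOnBase_fppf_of_fpqc Groth.AlgSp2.isLocalOnBase_fpqc_isProperMor)
    (repByAlgSp1_diag_of_diag hX hM.isStack.1 h𝒳.diag hM.diag π) fun U y => ?_
  let Φ : FibCat.overCat U ⥤ᵇ AlgSt.ofSp (gluedM h𝒳 P) :=
    BasedFunctor.comp y (BasedFunctor.comp (FibCat.fpFst π π) π)
  obtain ⟨V, c, yv, hc, hjs, hy⟩ := exists_local_lift h𝒳 P (valAt Φ (idObj U) rfl)
  have : ∀ i, Etale (c i).left := hc
  refine ⟨_, mem_J_of_fppf c (ofArrows_mem_fppf_of_etale (fun i => (c i).left) hjs), fun V' h hh => ?_⟩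
  obtain ⟨i, q, rfl⟩ := (Sieve.mem_ofArrows_iff V c h).1 hh
  obtain ⟨Ψ, Λ, hΛ, hΛ₁, hΨ₁, hΨ₂⟩ := exists_pieceDiag h𝒳 P hcov i
  obtain ⟨e, hcart⟩ := exists_isTwoCartOver_piece h𝒳 P hcov i
  let Q := q ≫ c i
  let o := (BasedFunctor.comp (AlgSt.overMap Q) y).obj (idObj V')
  have ho : (FibCat.fp π π).p.obj o = V' := (BasedFunctor.comp (AlgSt.overMap Q) y).w_obj (idObj V')
  let o' : (FibCat.overCat U).obj := (AlgSt.overMap Q).obj (idObj V')
  have ho' : (FibCat.overCat U).p.obj o' = V' := rfl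
  have hval : valAt π o.obj.fst ho = (AlgSp.yon S).map (q ≫ yv i) ≫ inclM h𝒳 P i := by
    have e₁ : valAt Φ o' ho' = (AlgSp.yon S).map Q ≫ valAt Φ (idObj U) rfl :=
      valAt_map Φ (toId o') (by
        show o'.hom = _
        simp [o', AlgSt.overMap, idObj])
    rw [show valAt π o.obj.fst ho = valAt Φ o' ho' from by rw [valAt_comp, valAt_comp]; rfl, e₁,
      Functor.map_comp, Category.assoc, hy i, Functor.map_comp, Category.assoc]
  have hval' : valAt π o.obj.snd ((fp_p_snd o).trans ho) = (AlgSp.yon S).map (q ≫ yv i) ≫ inclM h𝒳 P i := by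
    rw [← hval]
    have e₁ := valAt_of_iso (FibCat.fpIso π π) o ho
    rw [valAt_comp, valAt_comp] at e₁
    exact e₁.symm
  obtain ⟨w, hw, α, hα, hwv⟩ := exists_lift_of_twoCart hcart o.obj.fst ho _ hval
  obtain ⟨w', hw', α', hα', hwv'⟩ := exists_lift_of_twoCart hcart o.obj.snd ((fp_p_snd o).trans ho) _ hval'
  obtain ⟨σ, hσ⟩ := exists_iso_of_valAt (P i).π hw hw' (hwv.trans hwv'.symm)
  let ξ : (FibCat.fp (P i).π (P i).π).obj := fpMk (F := (P i).π) (G := (P i).π) w w' σ hσ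
  have hF : FibCat.IsFibGrpd (FibCat.fp (P i).π (P i).π).p :=
    isFibGrpd_fp (P i).alg.isStack.1 (P i).alg.isStack.1 (isFibSetoid_ofPsh _).1
  have hP : FibCat.IsFibGrpd (FibCat.fp π π).p := isFibGrpd_fp hX hX (isFibSetoid_ofPsh _).1
  let z := overFunctor hF ξ hw
  obtain ⟨j, hj⟩ := overFunctor_eval hF ξ hw
  have h₁ : IsVert (P i).W.p j.hom.hom.fst := (isVert_fp_iff j.hom).1 hj
  have h₂ : IsVert (P i).W.p j.hom.hom.snd := isVert_snd j.hom hj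
  let μ₀ : Ψ.obj ξ ⟶ o := fpHom (x := Ψ.obj ξ) (y := o)
    (eqToHom (congrArg (fun F : FibCat.fp (P i).π (P i).π ⥤ᵇ 𝒳 => F.obj ξ) hΨ₁) ≫ α)
    (eqToHom (congrArg (fun F : FibCat.fp (P i).π (P i).π ⥤ᵇ 𝒳 => F.obj ξ) hΨ₂) ≫ α')
    (elt_eq_of_isVert ((isVert_map (F := π) ((isVert_eqToHom _).comp hα)).comp (fp_isVert o))
      ((fp_isVert (Ψ.obj ξ)).comp (isVert_map (F := π) ((isVert_eqToHom _).comp hα'))))
  have hμ₀ : IsVert (FibCat.fp π π).p μ₀ := (isVert_fp_iff μ₀).2 ((isVert_eqToHom _).comp hα)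
  let μ := Ψ.map j.hom ≫ μ₀
  have hμ : IsVert (FibCat.fp π π).p μ := (isVert_map hj).comp hμ₀
  have := hμ.isIso hP
  obtain ⟨β⟩ : Nonempty (BasedFunctor.comp z Ψ ≅ BasedFunctor.comp (AlgSt.overMap Q) y) :=
    (nonempty_overIso_iff hP _ _).2 ⟨μ, hμ⟩
  refine RepFst.of_equiv (isEquivOver_comp (isEquivOver_fpPaste z Ψ (FibCat.diag π))
    (isEquivOver_fpCongr β (Iso.refl (FibCat.diag π)))) (Iso.refl _) ?_
  have hsep : AlgSt.RepByAlgSpWith AlgSp.IsProperMor (FibCat.diag (P i).π) := (P i).sepπ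
  rw [← hΛ₁] at hsep
  exact (repWith_precomp_equiv hΛ _).1 hsep V' z

theorem isUnifCatModuli_of_pieces : AlgSt.IsUnifCatModuli (gluedπ h𝒳 P hcov) ∧
    AlgSt.IsSeparatedMor (gluedπ h𝒳 P hcov) ∧
    AlgSt.IsQuasiCompactMor Scheme.fppfPrecoverage (gluedπ h𝒳 P hcov) ∧
    AlgSt.IsUnivHomeo Scheme.fppfPrecoverage (gluedπ h𝒳 P hcov) :=
  ⟨isUnifCatModuli_gluedπ h𝒳 P hcov, isSeparatedMor_gluedπ h𝒳 P hcov,
    isQuasiCompactMor_gluedπ h𝒳 P hcov, isUnivHomeo_gluedπ h𝒳 P hcov⟩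

include h𝒳 in
/-- The moduli space of a stack with finite inertia is bijective on geometric points. -/
theorem geomPtBij_of_isCatModuli
    (hI : AlgSt.RepByAlgSpWith AlgSp.IsFiniteMor (FibCat.inertiaToBase (FibCat.toSelf 𝒳)))
    {M : AlgSp.Sp S} {π : 𝒳 ⥤ᵇ AlgSt.ofSp M} (hπ : AlgSt.IsCatModuli π) : AlgSt.GeomPtBij π := by
  obtain ⟨ι, P, hcov⟩ := exists_pieces h𝒳 hI
  obtain ⟨θ, hθ⟩ := exists_iso_of_isCatModuli (isUnifCatModuli_gluedπ h𝒳 P hcov).1 hπ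
  have key : ∀ {T : Over S} (a : 𝒳.obj) (ha : 𝒳.p.obj a = T),
      valAt π a ha = valAt (gluedπ h𝒳 P hcov) a ha ≫ θ.hom := fun a ha => by
    simp only [valAt, hθ, Category.assoc]
  refine geomPtBij_of h𝒳.isStack.1 (fun k _ _ s a₁ a₂ h₁ h₂ hv => ?_) fun k _ _ s m => ?_
  · rw [key, key, cancel_mono] at hv
    exact geomInj_gluedπ h𝒳 P hcov k s a₁ a₂ h₁ h₂ hv
  · obtain ⟨a, ha, hv⟩ := geomSurj_gluedπ h𝒳 P hcov k s (m ≫ θ.inv)
    exact ⟨a, ha, by rw [key, hv, Category.assoc, θ.inv_hom_id, Category.comp_id]⟩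

end Groth.KeelMori
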