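import Groth.Agent.GitQuot.KeelMori.GluedCart

/-!
# The glued moduli space is a uniform categorical moduli space
-/

set_option autoImplicit false
set_option backward.isDefEq.respectTransparency false
set_option backward.isDefEq.respectTransparency.types false

universe u

open CategoryTheory CategoryTheory.Limits AlgebraicGeometry Opposite
open Groth.StkBase Groth.AlgStBasic Groth.AlgSpBasic

noncomputable section

namespace Groth.KeelMori

variable {S : Scheme.{u}}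

/-- `Ext` in terms of morphisms from schemes. -/
theorem ext_iff {𝒵 : AlgSt.Cat S} {M N : AlgSp.Sp S} (p : 𝒵 ⥤ᵇ AlgSt.ofSp M) (φ : 𝒵 ⥤ᵇ AlgSt.ofSp N)
    (T : Over S) (x : (AlgSp.yon S).obj T ⟶ M) (y : (AlgSp.yon S).obj T ⟶ N) :
    Ext p φ T x y ↔ ∀ (z : 𝒵.obj) (k : 𝒵.p.obj z ⟶ T), (AlgSp.yon S).map k ≫ x = homOf p z →
      (AlgSp.yon S).map k ≫ y = homOf φ z :=
  ⟨fun h z k e => (app_eq_iff y k _).1 (h z k ((app_eq_iff x k _).2 e)),
    fun h z k e => (app_eq_iff y k _).2 (h z k ((app_eq_iff x k _).1 e))⟩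

variable {𝒳 : AlgSt.Cat S} (h𝒳 : AlgSt.IsAlgStack Scheme.fppfPrecoverage 𝒳) {ι : Type u}
  (P : ι → Piece 𝒳) (hcov : ∀ z : AlgSt.Points 𝒳, ∃ i, z ∈ Set.range (AlgSt.Points.map (P i).g))
  {B N : AlgSp.Sp S} (b : B ⟶ gluedM h𝒳 P)
  (φ : FibCat.fp (AlgSt.ofSpMap b) (gluedπ h𝒳 P hcov) ⥤ᵇ AlgSt.ofSp N)

/-- The local case, over a scheme flat over the moduli space of one piece. -/
theorem existsUnique_ext_piece (hN : AlgSp.IsAlgSpace N) {V : Over S} (x : (AlgSp.yon S).obj V ⟶ B)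
    (i : ι) (e : V ⟶ (P i).M) [Flat e.left]
    (he : (AlgSp.yon S).map e ≫ inclM h𝒳 P i = x ≫ b) :
    ∃! y, Ext (FibCat.fpFst (AlgSt.ofSpMap b) (gluedπ h𝒳 P hcov)) φ V x y := by
  obtain ⟨ε, hc⟩ := exists_isTwoCartOver_piece h𝒳 P hcov i
  let p := FibCat.fpFst (AlgSt.ofSpMap b) (gluedπ h𝒳 P hcov)
  let ey := (AlgSp.yon S).map e
  let Z := FibCat.fp (AlgSt.ofSpMap ey) (P i).π
  let pz : Z ⥤ᵇ AlgSt.ofSch V := FibCat.fpFst (AlgSt.ofSpMap ey) (P i).π
  let pw : Z ⥤ᵇ (P i).W := FibCat.fpSnd (AlgSt.ofSpMap ey) (P i).π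
  have hm := (P i).unif.2 _ (AlgSp.IsAlgSpace.yon_obj V) ey
    (locP_of_repWith ((AlgSp.repWith_yon_map_iff @Flat e).2 inferInstance))
  obtain ⟨j₁⟩ : Nonempty (BasedFunctor.comp (BasedFunctor.comp pz (AlgSt.ofSpMap x)) (AlgSt.ofSpMap b) ≅
      BasedFunctor.comp (BasedFunctor.comp pz (AlgSt.ofSpMap ey)) (AlgSt.ofSpMap (inclM h𝒳 P i))) :=
    nonempty_iso_of_homOf fun z => by
      rw [homOf_comp, homOf_comp, homOf_comp, homOf_comp, Category.assoc, Category.assoc, he]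
  let κ : BasedFunctor.comp (BasedFunctor.comp pz (AlgSt.ofSpMap x)) (AlgSt.ofSpMap b) ≅
      BasedFunctor.comp (BasedFunctor.comp pw (P i).g) (gluedπ h𝒳 P hcov) :=
    j₁.trans ((whiskerRightIso (FibCat.fpIso (AlgSt.ofSpMap ey) (P i).π)
      (AlgSt.ofSpMap (inclM h𝒳 P i))).trans (whiskerLeftIso pw ε.symm))
  let G := FibCat.fpLift (BasedFunctor.comp pz (AlgSt.ofSpMap x)) (BasedFunctor.comp pw (P i).g) κ
  obtain ⟨v, hv⟩ := exists_factor (π := pz) hm hN (BasedFunctor.comp G φ)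
  refine ⟨v, (ext_iff p φ V x v).2 fun z k hk => ?_, fun y' hy' => ?_⟩
  · let a := z.obj.snd
    have ha : 𝒳.p.obj a = (FibCat.fp (AlgSt.ofSpMap b) (gluedπ h𝒳 P hcov)).p.obj z := fp_p_snd z
    have hka : valAt (gluedπ h𝒳 P hcov) a ha = (AlgSp.yon S).map (k ≫ e) ≫ inclM h𝒳 P i := by
      rw [Functor.map_comp, Category.assoc, he, ← Category.assoc, hk]
      exact (fp_rel (gluedπ h𝒳 P hcov) b z).symm
    obtain ⟨w, hw, α, hα, hwv⟩ := exists_lift_of_twoCart hc a ha ((AlgSp.yon S).map (k ≫ e)) hka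
    let ζ : Z.obj := mkFp (g := ey) (π := (P i).π) ((AlgSp.yon S).map k) w hw (by
      rw [← Functor.map_comp]; exact hwv.symm)
    have hζ : valAt pz ζ rfl = (AlgSp.yon S).map k := by
      show (AlgSp.yon S).map (𝟙 _) ≫ homOf (FibCat.fpFst (AlgSt.ofSpMap ey) (P i).π) ζ = _
      rw [CategoryTheory.Functor.map_id, Category.id_comp, homOf_fpFst]
      exact Equiv.symm_apply_apply _ _
    have hk' : (AlgSp.yon S).map k ≫ x = yEquiv.symm z.obj.fst.sec := hk.trans (homOf_fpFst _ _ z)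
    obtain ⟨a₁, ha₁⟩ := exists_elt_hom (G.obj ζ).obj.fst z.obj.fst
      (𝟙 ((FibCat.fp (AlgSt.ofSpMap b) (gluedπ h𝒳 P hcov)).p.obj z)) (by
        erw [CategoryTheory.Functor.map_id, Category.id_comp]
        refine hk'.symm.trans ?_
        refine Eq.trans ?_ (yEquiv_symm_comp (M := (AlgSp.yon S).obj V) _ x)
        exact congrArg (· ≫ x) (Equiv.symm_apply_apply _ _).symm)
    let f : G.obj ζ ⟶ z := fpHom (x := G.obj ζ) (y := z) a₁ α (elt_hom_ext_p (by
      have e₁ : ((gluedπ h𝒳 P hcov).map α).hom = _ := map_map (gluedπ h𝒳 P hcov) α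
      have e₂ : (G.obj ζ).obj.iso.hom.hom = _ := (fp_isVert (G.obj ζ)).map_eq
      have e₃ : z.obj.iso.hom.hom = _ := (fp_isVert z).map_eq
      show a₁.hom ≫ z.obj.iso.hom.hom =
        (G.obj ζ).obj.iso.hom.hom ≫ ((gluedπ h𝒳 P hcov).map α).hom
      rw [e₁, e₂, e₃, ha₁, hα.map_eq]
      simp
      exact Category.id_comp _))
    have hf : IsVert (FibCat.fp (AlgSt.ofSpMap b) (gluedπ h𝒳 P hcov)).p f :=
      (isVert_fp_iff f).2 ⟨rfl, ha₁.trans (eqToHom_refl _ _).symm⟩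
    have e₁ := hv ζ (rfl : Z.p.obj ζ = _)
    rw [hζ, valAt_comp, valAt_vert φ f hf (hb := rfl)] at e₁
    refine e₁.symm.trans ?_
    simp only [valAt, eqToHom_refl, CategoryTheory.Functor.map_id, Category.id_comp]
  · refine hom_ext_of_moduli (π := pz) hm hN fun ζ => ?_
    rw [← hv ζ rfl, valAt_comp]
    obtain ⟨k, hk⟩ := (AlgSp.yon S).map_surjective (valAt pz ζ rfl)
    have hp : valAt p (G.obj ζ) ((G.w_obj ζ).trans rfl) = valAt pz ζ rfl ≫ x := by
      rw [← valAt_comp G p ζ rfl, ← valAt_ofSpMap]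
      rfl
    have h₁ := (ext_iff p φ V x y').1 hy' (G.obj ζ) (eqToHom (G.w_obj ζ) ≫ k) (by
      rw [Functor.map_comp, Category.assoc, hk, ← hp, valAt, ← Category.assoc, ← Functor.map_comp,
        eqToHom_trans, eqToHom_refl, CategoryTheory.Functor.map_id, Category.id_comp])
    rw [← hk, valAt, ← h₁, ← Category.assoc, ← Functor.map_comp, eqToHom_trans_assoc, eqToHom_refl,
      Category.id_comp]

variable {φ} in
theorem ext_res {T T' : Over S} (j : T' ⟶ T) {x : (AlgSp.yon S).obj T ⟶ B} {y : (AlgSp.yon S).obj T ⟶ N}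
    (h : Ext (FibCat.fpFst (AlgSt.ofSpMap b) (gluedπ h𝒳 P hcov)) φ T x y) :
    Ext (FibCat.fpFst (AlgSt.ofSpMap b) (gluedπ h𝒳 P hcov)) φ T' ((AlgSp.yon S).map j ≫ x)
      ((AlgSp.yon S).map j ≫ y) :=
  h.res j

/-- Etale charts over the moduli spaces of the pieces of a scheme flat over the glued space. -/
theorem exists_flat_charts {T : Over S} (x : (AlgSp.yon S).obj T ⟶ gluedM h𝒳 P)
    (hx : AlgSp.LocP @Flat x) :
    ∃ (V : ι → Over S) (c : ∀ i, V i ⟶ T) (e : ∀ i, V i ⟶ (P i).M),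
      (∀ i, Etale (c i).left) ∧ (∀ i, Flat (e i).left) ∧ (∀ w, ∃ i, w ∈ Set.range (c i).left) ∧
        ∀ i, (AlgSp.yon S).map (e i) ≫ inclM h𝒳 P i = (AlgSp.yon S).map (c i) ≫ x := by
  have key : ∀ i, ∃ (V : Over S) (c : V ⟶ T) (e : V ⟶ (P i).M), Etale c.left ∧ Flat e.left ∧
      IsPullback ((AlgSp.yon S).map e) ((AlgSp.yon S).map c) (inclM h𝒳 P i) x := fun i => by
    obtain ⟨V, c, fst, sq⟩ := (etale_inclM h𝒳 P i).rep x
    obtain ⟨e, rfl⟩ := (AlgSp.yon S).map_surjective fst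
    exact ⟨V, c, e, (etale_inclM h𝒳 P i).property x _ c sq, left_prop_of_locP_yon (P := @Flat)
      (locP_of_isPullback (AlgSp.IsAlgSpace.yon_obj _) (isAlgSpace_gluedM h𝒳 P)
        (AlgSp.IsAlgSpace.yon_obj _) sq.flip hx), sq⟩
  choose V c e hc he sq using key
  refine ⟨V, c, e, hc, he, fun w => ?_, fun i => (sq i).w⟩
  obtain ⟨V', c', y', -, hjs, hy'⟩ := exists_local_lift h𝒳 P x
  obtain ⟨i, v, rfl⟩ := hjs w
  obtain ⟨l, hl⟩ := (AlgSp.yon S).map_surjective
    ((sq i).lift ((AlgSp.yon S).map (y' i)) ((AlgSp.yon S).map (c' i)) (hy' i).symm)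
  have hlc : l ≫ c i = c' i := (AlgSp.yon S).map_injective (by
    rw [Functor.map_comp, hl, IsPullback.lift_snd])
  exact ⟨i, l.left v, congrArg (fun f : V' i ⟶ T => f.left v) hlc⟩

/-- Uniqueness of the extension. -/
theorem ext_unique_glued (hN : AlgSp.IsAlgSpace N) {T : Over S} {x : (AlgSp.yon S).obj T ⟶ B}
    (hx : AlgSp.LocP @Flat (x ≫ b)) {y y' : (AlgSp.yon S).obj T ⟶ N}
    (h : Ext (FibCat.fpFst (AlgSt.ofSpMap b) (gluedπ h𝒳 P hcov)) φ T x y)
    (h' : Ext (FibCat.fpFst (AlgSt.ofSpMap b) (gluedπ h𝒳 P hcov)) φ T x y') : y = y' := by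
  obtain ⟨V, c, e, hc, he, hjs, heq⟩ := exists_flat_charts h𝒳 P (x ≫ b) hx
  refine eq_of_fppf c (ofArrows_mem_fppf_of_etale (fun i => (c i).left) hjs) fun i => ?_
  have := he i
  exact (existsUnique_ext_piece h𝒳 P hcov b φ hN _ i (e i) ((heq i).trans (Category.assoc _ _ _).symm)).unique
    (h.res (c i)) (h'.res (c i))

/-- Existence and uniqueness of the extension. -/
theorem existsUnique_ext_glued (hN : AlgSp.IsAlgSpace N) {T : Over S} (x : (AlgSp.yon S).obj T ⟶ B)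
    (hx : AlgSp.LocP @Flat (x ≫ b)) :
    ∃! y, Ext (FibCat.fpFst (AlgSt.ofSpMap b) (gluedπ h𝒳 P hcov)) φ T x y := by
  let p := FibCat.fpFst (AlgSt.ofSpMap b) (gluedπ h𝒳 P hcov)
  obtain ⟨V, c, e, hc, he, hjs, heq⟩ := exists_flat_charts h𝒳 P (x ≫ b) hx
  have hmem := ofArrows_mem_fppf_of_etale (fun i => (c i).left) hjs
  choose y hy using fun i => (haveI := he i; existsUnique_ext_piece h𝒳 P hcov b φ hN _ i (e i)
    ((heq i).trans (Category.assoc _ _ _).symm)).exists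
  obtain ⟨Y, hY⟩ := exists_glue_of_fppf c hmem y fun i j T' q q' hq => by
    let W : Over S := Over.mk (pullback.fst (c i).left (c j).left ≫ (V i).hom)
    let r : W ⟶ V i := Over.homMk (pullback.fst (c i).left (c j).left) rfl
    let r' : W ⟶ V j := Over.homMk (pullback.snd (c i).left (c j).left) (by
      show pullback.snd _ _ ≫ (V j).hom = pullback.fst _ _ ≫ (V i).hom
      rw [← Over.w (c i), ← Over.w (c j), ← Category.assoc, ← pullback.condition, Category.assoc])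
    have hr : r ≫ c i = r' ≫ c j := Over.OverMorphism.ext pullback.condition
    have : Flat (r ≫ c i).left := inferInstanceAs (Flat (pullback.fst _ _ ≫ (c i).left))
    have hfl : AlgSp.LocP @Flat (((AlgSp.yon S).map (r ≫ c i) ≫ x) ≫ b) := by
      rw [Category.assoc]
      exact locP_flat_comp (isAlgSpace_gluedM h𝒳 P) _ hx
    have hk : (AlgSp.yon S).map r ≫ y i = (AlgSp.yon S).map r' ≫ y j := by
      refine ext_unique_glued h𝒳 P hcov b φ hN hfl ?_ ?_
      · rw [Functor.map_comp, Category.assoc]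
        exact (hy i).res r
      · rw [hr, Functor.map_comp, Category.assoc]
        exact (hy j).res r'
    let l : T' ⟶ W := Over.homMk (pullback.lift q.left q'.left (congrArg Over.Hom.left hq)) (by
      show pullback.lift _ _ _ ≫ pullback.fst _ _ ≫ (V i).hom = T'.hom
      rw [pullback.lift_fst_assoc]
      exact Over.w q)
    have h₁ : q = l ≫ r := Over.OverMorphism.ext (pullback.lift_fst _ _ _).symm
    have h₂ : q' = l ≫ r' := Over.OverMorphism.ext (pullback.lift_snd _ _ _).symm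
    rw [h₁, h₂, Functor.map_comp, Functor.map_comp, Category.assoc, Category.assoc, hk]
  refine ⟨Y, (ext_iff p φ T x Y).2 fun z k hk => ?_, fun y' hy' => ?_⟩
  · let T₁ := (FibCat.fp (AlgSt.ofSpMap b) (gluedπ h𝒳 P hcov)).p.obj z
    let W : ι → Over S := fun i => Over.mk (pullback.fst k.left (c i).left ≫ T₁.hom)
    let q : ∀ i, W i ⟶ T₁ := fun i => Over.homMk (pullback.fst k.left (c i).left) rfl
    let k' : ∀ i, W i ⟶ V i := fun i => Over.homMk (pullback.snd k.left (c i).left) (by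
      show pullback.snd _ _ ≫ (V i).hom = pullback.fst _ _ ≫ T₁.hom
      rw [← Over.w k, ← Over.w (c i), ← Category.assoc, ← pullback.condition, Category.assoc])
    have hqk : ∀ i, q i ≫ k = k' i ≫ c i := fun i => Over.OverMorphism.ext pullback.condition
    have : ∀ i, Etale (q i).left := fun i => inferInstanceAs (Etale (pullback.fst k.left (c i).left))
    have hjs' : ∀ t, ∃ i, t ∈ Set.range (q i).left := fun t => by
      obtain ⟨i, v, hv⟩ := hjs (k.left t)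
      obtain ⟨p, hp₁, -⟩ := Scheme.Pullback.exists_preimage_pullback t v hv.symm
      exact ⟨i, p, hp₁⟩
    refine eq_of_fppf q (ofArrows_mem_fppf_of_etale (fun i => (q i).left) hjs') fun i => ?_
    obtain ⟨z', l, hz', hl⟩ := exists_lift'
      (isFibGrpd_fp (isFibSetoid_ofPsh B.obj).1 h𝒳.isStack.1 (isFibSetoid_ofPsh _).1)
      (x := z) (q i)
    have h₁ := (ext_iff p φ (V i) _ (y i)).1 (hy i) z' (eqToHom hz' ≫ k' i) (by
      rw [← homOf_map p l, hl, ← hk, ← Category.assoc, ← Category.assoc, ← Functor.map_comp,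
        ← Functor.map_comp, Category.assoc, Category.assoc, ← hqk])
    rw [← homOf_map φ l, hl, Functor.map_comp, Functor.map_comp, Category.assoc, Category.assoc] at h₁
    rw [← Category.assoc, ← Functor.map_comp, hqk, Functor.map_comp, Category.assoc, hY]
    exact (cancel_epi ((AlgSp.yon S).map (eqToHom hz'))).1 h₁
  · refine eq_of_fppf c hmem fun i => ?_
    rw [hY]
    have := he i
    exact (existsUnique_ext_piece h𝒳 P hcov b φ hN _ i (e i)
      ((heq i).trans (Category.assoc _ _ _).symm)).unique (hy'.res (c i)) (hy i)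

omit B N b φ

/-- **The glued space is a uniform categorical moduli space.** -/
theorem isUnifCatModuli_gluedπ : AlgSt.IsUnifCatModuli (gluedπ h𝒳 P hcov) := by
  have key : ∀ (B : AlgSp.Sp S), AlgSp.IsAlgSpace B → ∀ b : B ⟶ gluedM h𝒳 P, AlgSp.LocP @Flat b →
      AlgSt.IsCatModuli (FibCat.fpFst (AlgSt.ofSpMap b) (gluedπ h𝒳 P hcov)) := by
    refine fun B hB b hb => ⟨hB, fun N hN φ => ?_⟩
    obtain ⟨v, hv, huniq⟩ := existsUnique_of_affine (FibCat.fpFst (AlgSt.ofSpMap b) (gluedπ h𝒳 P hcov)) φ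
      (isFibGrpd_fp (isFibSetoid_ofPsh B.obj).1 h𝒳.isStack.1 (isFibSetoid_ofPsh _).1) hB
      fun T _ x hx => existsUnique_ext_glued h𝒳 P hcov b φ hN x
        (locP_comp (AlgSp.IsAlgSpace.yon_obj T) hB (isAlgSpace_gluedM h𝒳 P) hx hb)
    exact ⟨v, nonempty_iso_of_secOf N.obj fun z => (secOf_comp_ofSpMap _ v z).trans (hv z),
      fun v' ⟨i⟩ => huniq v' fun z => (secOf_comp_ofSpMap _ v' z).symm.trans (secOf_eq_of_iso i z)⟩
  refine ⟨?_, key⟩
  let π := gluedπ h𝒳 P hcov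
  let M := gluedM h𝒳 P
  have h₁ := key M (isAlgSpace_gluedM h𝒳 P) (𝟙 M)
    (locP_of_repWith (repWith_isIso (P := @Flat) (𝟙 M)))
  let snd := FibCat.fpSnd (AlgSt.ofSpMap (𝟙 M)) π
  obtain ⟨i₁⟩ : Nonempty (BasedFunctor.comp π (AlgSt.ofSpMap (𝟙 M)) ≅
      BasedFunctor.comp (BasedFunctor.id 𝒳) π) := nonempty_iso_of_homOf fun z => by
    rw [homOf_comp, Category.comp_id]
    rfl
  let E := FibCat.fpLift π (BasedFunctor.id 𝒳) i₁
  refine ⟨isAlgSpace_gluedM h𝒳 P, fun N hN φ => ?_⟩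
  obtain ⟨v, ⟨i⟩, hu⟩ := h₁.2 N hN (BasedFunctor.comp snd φ)
  refine ⟨v, ⟨whiskerLeftIso E i⟩, fun v' ⟨i'⟩ => hu v' (nonempty_iso_of_homOf fun z => ?_)⟩
  rw [homOf_comp, homOf_comp_left snd φ z, ← homOf_eq_of_iso i' (snd.obj z), homOf_comp,
    ← Category.assoc]
  refine congrArg (· ≫ v') ?_
  exact ((Category.comp_id _).symm.trans (fp_rel π (𝟙 M) z))

end Groth.KeelMori
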