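import Mathlib
import Groth.Prelude.Def_Grpd
import Groth.Agent.GitQuot.GrpdShear

/-!
# Groupoids cartesian over a groupoid, rigidified by an invariant map

A scheme `U'` over the objects of `G` with a map `g : U' ⟶ W` so that `(u, g)` is jointly monomorphic,
arrows `R'` cartesian over the source, and a target with `t' ≫ g = s' ≫ g`.
-/

set_option autoImplicit false

universe u

open AlgebraicGeometry CategoryTheory CategoryTheory.Limits

noncomputable section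

namespace Groth.KeelMori

variable {S : Scheme.{u}} {G : Grpd.GroupoidScheme S}

/-- The data of a groupoid cartesian over `G`. -/
structure CartData (G : Grpd.GroupoidScheme S) where
  U' : Scheme.{u}
  R' : Scheme.{u}
  W : Scheme.{u}
  u : U' ⟶ G.U
  g : U' ⟶ W
  fR : R' ⟶ G.R
  s : R' ⟶ U'
  t : R' ⟶ U'
  sq : IsPullback fR s G.s u
  comm : fR ≫ G.t = t ≫ u
  inv : t ≫ g = s ≫ g
  ext : ∀ {T : Scheme.{u}} (x y : T ⟶ U'), x ≫ u = y ≫ u → x ≫ g = y ≫ g → x = y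

theorem stab_t (H : Grpd.GroupoidScheme S) :
    pullback.fst H.j H.diag ≫ H.t = H.stabilizerToU := by
  have h := congrArg (· ≫ pullback.fst H.pU H.pU) (pullback.condition (f := H.j) (g := H.diag))
  simp only [Category.assoc, Grpd.GroupoidScheme.j, Grpd.GroupoidScheme.diag, pullback.lift_fst,
    Category.comp_id] at h
  exact h

theorem stab_s (H : Grpd.GroupoidScheme S) :
    pullback.fst H.j H.diag ≫ H.s = H.stabilizerToU := by
  have h := congrArg (· ≫ pullback.snd H.pU H.pU) (pullback.condition (f := H.j) (g := H.diag))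
  simp only [Category.assoc, Grpd.GroupoidScheme.j, Grpd.GroupoidScheme.diag, pullback.lift_snd,
    Category.comp_id] at h
  exact h

theorem loop_cond (H : Grpd.GroupoidScheme S) {T : Scheme.{u}} (r : T ⟶ H.R) (x : T ⟶ H.U)
    (h₁ : r ≫ H.t = x) (h₂ : r ≫ H.s = x) : r ≫ H.j = x ≫ H.diag := by
  apply pullback.hom_ext
  · simp only [Category.assoc, Grpd.GroupoidScheme.j, Grpd.GroupoidScheme.diag, pullback.lift_fst,
      Category.comp_id]
    exact h₁
  · simp only [Category.assoc, Grpd.GroupoidScheme.j, Grpd.GroupoidScheme.diag, pullback.lift_snd,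
      Category.comp_id]
    exact h₂

namespace CartData

variable (D : CartData G) {T : Scheme.{u}}

theorem hom_ext {α β : T ⟶ D.R'} (h₁ : α ≫ D.fR = β ≫ D.fR) (h₂ : α ≫ D.s = β ≫ D.s) : α = β :=
  D.sq.hom_ext h₁ h₂

theorem t_g (α : T ⟶ D.R') : (α ≫ D.t) ≫ D.g = (α ≫ D.s) ≫ D.g := by
  rw [Category.assoc, D.inv, Category.assoc]

theorem fR_s (α : T ⟶ D.R') : (α ≫ D.fR) ≫ G.s = (α ≫ D.s) ≫ D.u := by
  rw [Category.assoc, D.sq.w, Category.assoc]

theorem fR_t (α : T ⟶ D.R') : (α ≫ D.fR) ≫ G.t = (α ≫ D.t) ≫ D.u := by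
  rw [Category.assoc, D.comm, Category.assoc]

/-- An arrow with given source. -/
def arr (r : T ⟶ G.R) (x : T ⟶ D.U') (h : r ≫ G.s = x ≫ D.u) : T ⟶ D.R' := D.sq.lift r x h

@[simp] theorem arr_fR (r : T ⟶ G.R) (x : T ⟶ D.U') (h : r ≫ G.s = x ≫ D.u) :
    D.arr r x h ≫ D.fR = r := D.sq.lift_fst _ _ _

@[simp] theorem arr_s (r : T ⟶ G.R) (x : T ⟶ D.U') (h : r ≫ G.s = x ≫ D.u) :
    D.arr r x h ≫ D.s = x := D.sq.lift_snd _ _ _

theorem arr_t (r : T ⟶ G.R) (x : T ⟶ D.U') (h : r ≫ G.s = x ≫ D.u) (y : T ⟶ D.U')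
    (hu : r ≫ G.t = y ≫ D.u) (hg : x ≫ D.g = y ≫ D.g) : D.arr r x h ≫ D.t = y := by
  refine D.ext _ _ ?_ ?_
  · rw [← D.fR_t, arr_fR, hu]
  · rw [D.t_g, arr_s, hg]

theorem compCond {α β : T ⟶ D.R'} (h : α ≫ D.s = β ≫ D.t) :
    (α ≫ D.fR) ≫ G.s = (β ≫ D.fR) ≫ G.t := by rw [D.fR_s, D.fR_t, h]

/-- Composition of arrows. -/
def mul (α β : T ⟶ D.R') (h : α ≫ D.s = β ≫ D.t) : T ⟶ D.R' :=
  D.arr (GrpdBasic.comp G (α ≫ D.fR) (β ≫ D.fR) (D.compCond h)) (β ≫ D.s)
    (by rw [GrpdBasic.comp_s, D.fR_s])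

theorem mul_s (α β : T ⟶ D.R') (h : α ≫ D.s = β ≫ D.t) : D.mul α β h ≫ D.s = β ≫ D.s := D.arr_s _ _ _

theorem mul_fR (α β : T ⟶ D.R') (h : α ≫ D.s = β ≫ D.t) :
    D.mul α β h ≫ D.fR = GrpdBasic.comp G (α ≫ D.fR) (β ≫ D.fR) (D.compCond h) := D.arr_fR _ _ _

theorem mul_t (α β : T ⟶ D.R') (h : α ≫ D.s = β ≫ D.t) : D.mul α β h ≫ D.t = α ≫ D.t := by
  refine D.arr_t _ _ _ _ ?_ ?_
  · rw [GrpdBasic.comp_t, D.fR_t]
  · rw [← D.t_g β, ← h, ← D.t_g α]

theorem comp_mul {T' : Scheme.{u}} (k : T' ⟶ T) (α β : T ⟶ D.R') (h : α ≫ D.s = β ≫ D.t) :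
    k ≫ D.mul α β h = D.mul (k ≫ α) (k ≫ β) (by rw [Category.assoc, h, Category.assoc]) := by
  refine D.hom_ext ?_ ?_
  · rw [Category.assoc, mul_fR, mul_fR, GrpdBasic.precomp_comp]
    exact GrpdBasic.comp_congr G _ (Category.assoc _ _ _).symm (Category.assoc _ _ _).symm
  · rw [Category.assoc, mul_s, mul_s, Category.assoc]

/-- The composition morphism. -/
def c : pullback D.s D.t ⟶ D.R' := D.mul (pullback.fst _ _) (pullback.snd _ _) pullback.condition

theorem lift_c (α β : T ⟶ D.R') (h : α ≫ D.s = β ≫ D.t) :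
    pullback.lift α β h ≫ D.c = D.mul α β h := by
  refine (D.comp_mul _ _ _ _).trans ?_
  simp only [pullback.lift_fst, pullback.lift_snd]

/-- The identity. -/
def e : D.U' ⟶ D.R' := D.arr (D.u ≫ G.e) (𝟙 _) (by rw [Category.assoc, G.e_s, Category.comp_id, Category.id_comp])

theorem e_t : D.e ≫ D.t = 𝟙 _ :=
  D.arr_t _ _ _ _ (by rw [Category.assoc, G.e_t, Category.comp_id, Category.id_comp]) rfl

/-- The inverse. -/
def i : D.R' ⟶ D.R' := D.arr (D.fR ≫ G.i) D.t (by rw [Category.assoc, G.i_s, D.comm])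

theorem i_t : D.i ≫ D.t = D.s :=
  D.arr_t _ _ _ _ (by rw [Category.assoc, G.i_t, D.sq.w]) D.inv

/-- The groupoid. -/
@[reducible] def grpd : Grpd.GroupoidScheme S where
  U := D.U'
  R := D.R'
  pU := D.u ≫ G.pU
  pR := D.fR ≫ G.pR
  s := D.s
  t := D.t
  e := D.e
  i := D.i
  c := D.c
  s_over := by rw [← Category.assoc, ← D.sq.w, Category.assoc, G.s_over]
  t_over := by rw [← Category.assoc, ← D.comm, Category.assoc, G.t_over]
  comp_s α β h := by rw [lift_c, mul_s]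
  comp_t α β h := by rw [lift_c, mul_t]
  assoc α β γ h₁ h₂ := by
    simp only [lift_c]
    refine D.hom_ext ?_ ?_
    · refine (D.mul_fR _ _ _).trans (Eq.trans ?_ (D.mul_fR _ _ _).symm)
      refine (GrpdBasic.comp_congr G _ (D.mul_fR _ _ _) rfl).trans ?_
      refine (GrpdBasic.comp_assoc G _ _ _ (D.compCond h₁) (D.compCond h₂)).trans ?_
      exact GrpdBasic.comp_congr G _ rfl (D.mul_fR _ _ _).symm
    · simp only [mul_s]
  e_s := D.arr_s _ _ _
  e_t := D.e_t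
  comp_e α := by
    rw [lift_c]
    refine D.hom_ext ?_ ?_
    · rw [mul_fR]
      refine (GrpdBasic.comp_congr G _ rfl ?_).trans (GrpdBasic.comp_unit G _ (D.fR_s α))
      simp [e]
    · simp [mul_s, e]
  e_comp α := by
    rw [lift_c]
    refine D.hom_ext ?_ ?_
    · rw [mul_fR]
      refine (GrpdBasic.comp_congr G _ ?_ rfl).trans (GrpdBasic.unit_comp G _ (D.fR_t α))
      simp [e]
    · simp [mul_s]
  i_s := D.arr_s _ _ _
  i_t := D.i_t
  comp_i α := by
    rw [lift_c]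
    refine D.hom_ext ?_ ?_
    · rw [mul_fR]
      refine (GrpdBasic.comp_congr G _ rfl ?_).trans ((GrpdBasic.comp_inv G (α ≫ D.fR)).trans ?_)
      · simp [i]
      · rw [D.fR_t]; simp [e]
    · simp [mul_s, e, i]
  i_comp α := by
    rw [lift_c]
    refine D.hom_ext ?_ ?_
    · rw [mul_fR]
      refine (GrpdBasic.comp_congr G _ ?_ rfl).trans ((GrpdBasic.inv_comp G (α ≫ D.fR)).trans ?_)
      · simp [i]
      · rw [D.fR_s]; simp [e]
    · simp [mul_s, e]

/-- The morphism to `G`. -/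
@[reducible] def hom : Grpd.GroupoidScheme.Hom D.grpd G where
  fU := D.u
  fR := D.fR
  fU_over := rfl
  comm_s := D.sq.w
  comm_t := D.comm
  comm_c α β h := by
    show (pullback.lift α β h ≫ D.c) ≫ D.fR = _
    rw [lift_c, mul_fR]
    rfl

theorem isPullback_t : IsPullback D.fR D.t G.t D.u := by
  have hi : D.i ≫ D.i = 𝟙 _ := by
    refine D.hom_ext ?_ ?_
    · rw [Category.assoc, i, arr_fR, ← Category.assoc, arr_fR, Category.assoc, GrpdBasic.i_i,
        Category.comp_id, Category.id_comp]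
    · rw [Category.assoc, i, arr_s, ← i, D.i_t, Category.id_comp]
  let I : D.R' ≅ D.R' := ⟨D.i, D.i, hi, hi⟩
  let J : G.R ≅ G.R := ⟨G.i, G.i, GrpdBasic.i_i G, GrpdBasic.i_i G⟩
  refine D.sq.of_iso I J (Iso.refl _) (Iso.refl _) ?_ ?_ ?_ ?_
  · exact ((congrArg (· ≫ D.fR) rfl).trans (D.arr_fR _ _ _)).symm
  · exact (Category.comp_id _).trans D.i_t.symm
  · exact (Category.comp_id _).trans G.i_t.symm
  · simp [I]

theorem exists_stabilizer_isPullback :
    ∃ g : D.grpd.stabilizer ⟶ G.stabilizer,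
      g ≫ pullback.fst G.j G.diag = pullback.fst D.grpd.j D.grpd.diag ≫ D.hom.fR ∧
        IsPullback g D.grpd.stabilizerToU G.stabilizerToU D.hom.fU := by
  let a : D.grpd.stabilizer ⟶ D.R' := pullback.fst D.grpd.j D.grpd.diag
  let b : D.grpd.stabilizer ⟶ D.U' := D.grpd.stabilizerToU
  let f : G.stabilizer ⟶ G.R := pullback.fst G.j G.diag
  have ht : a ≫ D.t = b := stab_t D.grpd
  have hs : a ≫ D.s = b := stab_s D.grpd
  have hloop : (a ≫ D.fR) ≫ G.j = (b ≫ D.u) ≫ G.diag :=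
    loop_cond G _ _ (by rw [D.fR_t, ht]) (by rw [D.fR_s, hs])
  let g : D.grpd.stabilizer ⟶ G.stabilizer := pullback.lift _ _ hloop
  have hg : g ≫ f = a ≫ D.fR := pullback.lift_fst _ _ _
  have hgU : g ≫ G.stabilizerToU = b ≫ D.u := pullback.lift_snd _ _ _
  have hext : ∀ {T : Scheme.{u}} (m m' : T ⟶ D.grpd.stabilizer), m ≫ a = m' ≫ a → m ≫ b = m' ≫ b →
      m = m' := fun m m' h₁ h₂ => pullback.hom_ext h₁ h₂
  have hextG : ∀ {T : Scheme.{u}} (m m' : T ⟶ G.stabilizer), m ≫ f = m' ≫ f →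
      m ≫ G.stabilizerToU = m' ≫ G.stabilizerToU → m = m' :=
    fun m m' h₁ h₂ => pullback.hom_ext h₁ h₂
  have hlift : ∀ c : PullbackCone G.stabilizerToU D.hom.fU,
      ∃ l : c.pt ⟶ D.grpd.stabilizer, l ≫ g = c.fst ∧ l ≫ b = c.snd := by
    intro c
    have hc : c.fst ≫ G.stabilizerToU = c.snd ≫ D.u := c.condition
    have hts : (c.fst ≫ f) ≫ G.t = c.snd ≫ D.u ∧ (c.fst ≫ f) ≫ G.s = c.snd ≫ D.u := by
      constructor
      · rw [Category.assoc, ← hc]; exact congrArg (c.fst ≫ ·) (stab_t G)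
      · rw [Category.assoc, ← hc]; exact congrArg (c.fst ≫ ·) (stab_s G)
    let r := D.arr (c.fst ≫ f) c.snd hts.2
    have hrs : r ≫ D.grpd.s = c.snd := D.arr_s _ _ _
    have hrt : r ≫ D.grpd.t = c.snd := D.arr_t _ _ _ _ hts.1 rfl
    let l : c.pt ⟶ D.grpd.stabilizer := pullback.lift r c.snd (loop_cond D.grpd _ _ hrt hrs)
    have hla : l ≫ a = r := pullback.lift_fst _ _ _
    have hlb : l ≫ b = c.snd := pullback.lift_snd _ _ _
    refine ⟨l, hextG _ _ ?_ ?_, hlb⟩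
    · rw [Category.assoc, hg, ← Category.assoc, hla]; exact D.arr_fR _ _ _
    · rw [Category.assoc, hgU, ← Category.assoc, hlb]; exact hc.symm
  choose l hl₁ hl₂ using hlift
  refine ⟨g, hg, ⟨⟨hgU⟩, ⟨PullbackCone.IsLimit.mk _ l hl₁ hl₂ fun c m h₁ h₂ => ?_⟩⟩⟩
  have hb : m ≫ b = l c ≫ b := (h₂ : m ≫ b = _).trans (hl₂ c).symm
  refine hext _ _ (D.hom_ext ?_ ?_) hb
  · rw [Category.assoc, ← hg, Category.assoc, ← hg, reassoc_of% (hl₁ c)]
    exact (Category.assoc _ _ _).symm.trans (congrArg (· ≫ f) h₁)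
  · rw [Category.assoc, hs, Category.assoc, hs, hb]

/-- Restriction to a subscheme stable under the groupoid. -/
@[reducible] def restrict {V R'' : Scheme.{u}} (ι : V ⟶ D.U') [Mono ι] (jR : R'' ⟶ D.R')
    (s' t' : R'' ⟶ V) (hs : IsPullback jR s' D.s ι) (ht : jR ≫ D.t = t' ≫ ι) : CartData G where
  U' := V
  R' := R''
  W := D.W
  u := ι ≫ D.u
  g := ι ≫ D.g
  fR := jR ≫ D.fR
  s := s'
  t := t'
  sq := hs.paste_horiz D.sq
  comm := by rw [Category.assoc, D.comm, ← Category.assoc, ht, Category.assoc]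
  inv := by rw [← Category.assoc, ← ht, ← Category.assoc, ← hs.w, Category.assoc, D.inv, Category.assoc]
  ext x y h₁ h₂ := (cancel_mono ι).1 (D.ext _ _ (by simpa using h₁) (by simpa using h₂))

end CartData

end Groth.KeelMori
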