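import Groth.Agent.GitQuot.KeelMori.Pairs

/-!
# The relation of the overlaps of pieces is an equivalence relation on points
-/

set_option autoImplicit false
set_option backward.isDefEq.respectTransparency false
set_option backward.isDefEq.respectTransparency.types false

universe u

open CategoryTheory CategoryTheory.Limits AlgebraicGeometry Opposite
open Groth.StkBase Groth.AlgStBasic Groth.AlgSpBasic

noncomputable section

namespace Groth.KeelMori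

variable {S : Scheme.{u}} {𝒳 : AlgSt.Cat S}

/-- Maps out of a categorical moduli space are determined on the values. -/
theorem hom_ext_of_moduli {M N : AlgSp.Sp S} {π : 𝒳 ⥤ᵇ AlgSt.ofSp M} (hπ : AlgSt.IsCatModuli π)
    (hN : AlgSp.IsAlgSpace N) {f f' : M ⟶ N}
    (h : ∀ z, valAt π z rfl ≫ f = valAt π z rfl ≫ f') : f = f' :=
  (hπ.2 N hN (BasedFunctor.comp π (AlgSt.ofSpMap f))).unique ⟨Iso.refl _⟩
    (nonempty_iso_of_homOf fun z => by
      have := h z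
      simp only [valAt, eqToHom_refl, CategoryTheory.Functor.map_id, Category.id_comp] at this
      rw [homOf_comp, homOf_comp, this])

/-- A functor to an algebraic space factors through a categorical moduli space. -/
theorem exists_factor {M N : AlgSp.Sp S} {π : 𝒳 ⥤ᵇ AlgSt.ofSp M} (hπ : AlgSt.IsCatModuli π)
    (hN : AlgSp.IsAlgSpace N) (φ : 𝒳 ⥤ᵇ AlgSt.ofSp N) :
    ∃ f : M ⟶ N, ∀ {T : Over S} (z : 𝒳.obj) (hz : 𝒳.p.obj z = T), valAt φ z hz = valAt π z hz ≫ f := by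
  obtain ⟨f, ⟨i⟩, -⟩ := hπ.2 N hN φ
  exact ⟨f, fun z hz => by rw [← valAt_of_iso i z hz, valAt_ofSpMap]⟩

namespace PairData

variable {P Q R : Piece 𝒳}

/-- The pair of maps is jointly injective on points. -/
theorem ext (h𝒳 : AlgSt.IsAlgStack Scheme.fppfPrecoverage 𝒳) (D : PairData P Q) {T : Over S}
    (r r' : T ⟶ D.N) (ha : r ≫ D.a = r' ≫ D.a) (hb : r ≫ D.b = r' ≫ D.b) : r = r' := by
  have het : AlgSp.IsEtaleMor ((AlgSp.yon S).map D.a) :=
    isEtaleMor_of_locP (AlgSp.IsAlgSpace.yon_obj _)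
      (locP_of_repWith ((AlgSp.repWith_yon_map_iff @Etale D.a).2 D.etale_a))
  refine (AlgSp.yon S).map_injective (GitQuot.StkInertia.eq_of_geom_points (AlgSp.IsAlgSpace.yon_obj _)
    (AlgSp.IsAlgSpace.yon_obj _) het (by rw [← Functor.map_comp, ← Functor.map_comp, ha])
    fun K _ _ s g => ?_)
  have lift : ∀ m : (AlgSp.yon S).obj (Over.mk s) ⟶ (AlgSp.yon S).obj D.N,
      ∃ (w : (P.inter Q).obj) (hw : (P.inter Q).p.obj w = Over.mk s), valAt D.π w hw = m := fun m => by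
    obtain ⟨a₀, ha₀, hv⟩ := P.surj K s (m ≫ (AlgSp.yon S).map D.a)
    obtain ⟨w, hw, -, -, hv'⟩ := D.liftA a₀ ha₀ m hv
    exact ⟨w, hw, hv'⟩
  obtain ⟨w, hw, hv⟩ := lift ((AlgSp.yon S).map g ≫ (AlgSp.yon S).map r)
  obtain ⟨w', hw', hv'⟩ := lift ((AlgSp.yon S).map g ≫ (AlgSp.yon S).map r')
  obtain ⟨α, hα⟩ := P.inj K s w.obj.fst w'.obj.fst hw hw' (by
    rw [D.commA w hw, D.commA w' hw', hv, hv', Category.assoc, Category.assoc, ← Functor.map_comp,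
      ← Functor.map_comp, ← Functor.map_comp, ← Functor.map_comp, ha])
  obtain ⟨β, hβ⟩ := Q.inj K s w.obj.snd w'.obj.snd ((fp_p_snd w).trans hw) ((fp_p_snd w').trans hw') (by
    rw [D.commB w hw, D.commB w' hw', hv, hv', Category.assoc, Category.assoc, ← Functor.map_comp,
      ← Functor.map_comp, ← Functor.map_comp, ← Functor.map_comp, hb])
  have hX := h𝒳.isStack.1
  have hv₁ : IsVert 𝒳.p (w.obj.iso.hom ≫ Q.g.map β) := (fp_isVert w).comp (isVert_map hβ)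
  have := hv₁.isIso hX
  obtain ⟨η, hη, hη'⟩ := Q.lifts h𝒳 w'.obj.snd
    (inv (w.obj.iso.hom ≫ Q.g.map β) ≫ P.g.map α ≫ w'.obj.iso.hom)
    ((IsVert.inv (φ := asIso (w.obj.iso.hom ≫ Q.g.map β)) hv₁).comp
      ((isVert_map hα).comp (fp_isVert w')))
  rw [← hv, ← hv']
  refine valAt_vert D.π (fpHom (x := w) (y := w') α (β ≫ η) ?_) ((isVert_fp_iff _).2 hα) hw hw'
  rw [Functor.map_comp, hη', ← Category.assoc w.obj.iso.hom, IsIso.hom_inv_id_assoc]

end PairData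

variable (h𝒳 : AlgSt.IsAlgStack Scheme.fppfPrecoverage 𝒳)

/-- The chosen overlap. -/
def pairData (P Q : Piece 𝒳) : PairData P Q := (nonempty_pairData h𝒳 P Q).some

/-- Related points of two moduli spaces. -/
def Rel (P Q : Piece 𝒳) {T : Over S} (x : T ⟶ P.M) (y : T ⟶ Q.M) : Prop :=
  ∃ r : T ⟶ (pairData h𝒳 P Q).N, r ≫ (pairData h𝒳 P Q).a = x ∧ r ≫ (pairData h𝒳 P Q).b = y

theorem rel_refl (P : Piece 𝒳) {T : Over S} (x : T ⟶ P.M) : Rel h𝒳 P P x x := by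
  let D := pairData h𝒳 P P
  let δ : P.W ⥤ᵇ P.inter P := FibCat.diag P.g
  obtain ⟨f, hf⟩ := exists_factor P.unif.1 (AlgSp.IsAlgSpace.yon_obj D.N) (BasedFunctor.comp δ D.π)
  obtain ⟨d, rfl⟩ := (AlgSp.yon S).map_surjective f
  have ha : d ≫ D.a = 𝟙 _ := (AlgSp.yon S).map_injective (by
    refine hom_ext_of_moduli P.unif.1 (AlgSp.IsAlgSpace.yon_obj _) fun z => ?_
    rw [Functor.map_comp, ← Category.assoc, ← hf z rfl, valAt_comp, ← D.commA,
      CategoryTheory.Functor.map_id, Category.comp_id]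
    rfl)
  have hb : d ≫ D.b = 𝟙 _ := (AlgSp.yon S).map_injective (by
    refine hom_ext_of_moduli P.unif.1 (AlgSp.IsAlgSpace.yon_obj _) fun z => ?_
    rw [Functor.map_comp, ← Category.assoc, ← hf z rfl, valAt_comp, ← D.commB,
      CategoryTheory.Functor.map_id, Category.comp_id]
    rfl)
  exact ⟨x ≫ d, by rw [Category.assoc, ha, Category.comp_id], by rw [Category.assoc, hb, Category.comp_id]⟩

theorem rel_symm {P Q : Piece 𝒳} {T : Over S} {x : T ⟶ P.M} {y : T ⟶ Q.M} (h : Rel h𝒳 P Q x y) :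
    Rel h𝒳 Q P y x := by
  obtain ⟨r, rfl, rfl⟩ := h
  let D := pairData h𝒳 P Q
  let D' := pairData h𝒳 Q P
  let σ := fpSwap P.g Q.g
  obtain ⟨f, hf⟩ := exists_factor D.moduli (AlgSp.IsAlgSpace.yon_obj D'.N) (BasedFunctor.comp σ D'.π)
  obtain ⟨d, rfl⟩ := (AlgSp.yon S).map_surjective f
  have ha : d ≫ D'.a = D.b := (AlgSp.yon S).map_injective (by
    refine hom_ext_of_moduli D.moduli (AlgSp.IsAlgSpace.yon_obj _) fun z => ?_
    rw [Functor.map_comp, ← Category.assoc, ← hf z rfl, valAt_comp, ← D'.commA, ← D.commB]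
    rfl)
  have hb : d ≫ D'.b = D.a := (AlgSp.yon S).map_injective (by
    refine hom_ext_of_moduli D.moduli (AlgSp.IsAlgSpace.yon_obj _) fun z => ?_
    rw [Functor.map_comp, ← Category.assoc, ← hf z rfl, valAt_comp, ← D'.commB, ← D.commA]
    rfl)
  exact ⟨r ≫ d, by rw [Category.assoc, ha], by rw [Category.assoc, hb]⟩

theorem rel_trans_mid {P Q R : Piece 𝒳} {T : Over S} {x : T ⟶ P.M} {y : T ⟶ Q.M} {z : T ⟶ R.M}
    (h₁ : Rel h𝒳 Q P y x) (h₂ : Rel h𝒳 Q R y z) : Rel h𝒳 P R x z := by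
  obtain ⟨r₁, rfl, rfl⟩ := h₁
  obtain ⟨r₂, e, rfl⟩ := h₂
  let D₁ := pairData h𝒳 Q P
  let D₂ := pairData h𝒳 Q R
  let D := pairData h𝒳 P R
  let Y : Over S := Over.mk (pullback.fst D₁.a.left D₂.a.left ≫ D₁.N.hom)
  let q₁ : Y ⟶ D₁.N := Over.homMk (pullback.fst D₁.a.left D₂.a.left) rfl
  let q₂ : Y ⟶ D₂.N := Over.homMk (pullback.snd D₁.a.left D₂.a.left) (by
    show pullback.snd _ _ ≫ D₂.N.hom = pullback.fst _ _ ≫ D₁.N.hom
    rw [← Over.w D₁.a, ← Over.w D₂.a, ← Category.assoc, ← Category.assoc, pullback.condition])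
  have hq : q₁ ≫ D₁.a = q₂ ≫ D₂.a := Over.OverMorphism.ext pullback.condition
  have := D₁.etale_a
  have := D₂.etale_a
  let h : (AlgSp.yon S).obj Y ⟶ (AlgSp.yon S).obj Q.M := (AlgSp.yon S).map (q₁ ≫ D₁.a)
  have hflat : AlgSp.LocP @Flat h :=
    locP_of_repWith ((AlgSp.repWith_yon_map_iff @Flat _).2
      (inferInstanceAs (Flat (pullback.fst D₁.a.left D₂.a.left ≫ D₁.a.left))))
  have hm := Q.unif.2 _ (AlgSp.IsAlgSpace.yon_obj Y) h hflat
  let Z := FibCat.fp (AlgSt.ofSpMap h) Q.π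
  let pz : Z ⥤ᵇ AlgSt.ofSch Y := FibCat.fpFst (AlgSt.ofSpMap h) Q.π
  let pw : Z ⥤ᵇ Q.W := FibCat.fpSnd (AlgSt.ofSpMap h) Q.π
  have mk : ∀ (O : Piece 𝒳) (E : PairData Q O) (q : Y ⟶ E.N) (_ : h = (AlgSp.yon S).map (q ≫ E.a)),
      ∃ G : Z ⥤ᵇ Q.inter O, Nonempty (BasedFunctor.comp G (FibCat.fpFst Q.g O.g) ≅ pw) ∧
        Nonempty (BasedFunctor.comp G E.π ≅ BasedFunctor.comp pz (AlgSt.ofSpMap ((AlgSp.yon S).map q))) := by
    intro O E q hh
    obtain ⟨i⟩ : Nonempty (BasedFunctor.comp pw Q.π ≅ BasedFunctor.comp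
        (BasedFunctor.comp pz (AlgSt.ofSpMap ((AlgSp.yon S).map q)))
        (AlgSt.ofSpMap ((AlgSp.yon S).map E.a))) := nonempty_iso_of_homOf fun z => by
      rw [← homOf_eq_of_iso (FibCat.fpIso (AlgSt.ofSpMap h) Q.π) z]
      show homOf (BasedFunctor.comp pz (AlgSt.ofSpMap h)) z = _
      rw [homOf_comp, homOf_comp, homOf_comp, hh, Functor.map_comp, Category.assoc]
    let F := FibCat.fpLift pw (BasedFunctor.comp pz (AlgSt.ofSpMap ((AlgSp.yon S).map q))) i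
    obtain ⟨I, -, -, ⟨b⟩⟩ := isEquivOver_symm E.cartA
    refine ⟨BasedFunctor.comp F I, ⟨?_⟩, ⟨?_⟩⟩
    · exact whiskerRightIso (whiskerLeftIso F b) (FibCat.fpFst Q.π _)
    · exact whiskerRightIso (whiskerLeftIso F b) (FibCat.fpSnd Q.π _)
  obtain ⟨G₁, ⟨i₁⟩, ⟨j₁⟩⟩ := mk P D₁ q₁ rfl
  obtain ⟨G₂, ⟨i₂⟩, ⟨j₂⟩⟩ := mk R D₂ q₂ (by rw [← hq])
  let A := BasedFunctor.comp G₁ (FibCat.fpSnd Q.g P.g)
  let C := BasedFunctor.comp G₂ (FibCat.fpSnd Q.g R.g)
  let κ : BasedFunctor.comp A P.g ≅ BasedFunctor.comp C R.g :=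
    (whiskerLeftIso G₁ (FibCat.fpIso Q.g P.g)).symm.trans ((whiskerRightIso i₁ Q.g).trans
      ((whiskerRightIso i₂ Q.g).symm.trans (whiskerLeftIso G₂ (FibCat.fpIso Q.g R.g))))
  obtain ⟨f, hf⟩ := exists_factor (π := pz) hm (AlgSp.IsAlgSpace.yon_obj D.N)
    (BasedFunctor.comp (FibCat.fpLift A C κ) D.π)
  obtain ⟨d, rfl⟩ := (AlgSp.yon S).map_surjective f
  have hda : d ≫ D.a = q₁ ≫ D₁.b := (AlgSp.yon S).map_injective (by
    refine hom_ext_of_moduli (π := pz) hm (AlgSp.IsAlgSpace.yon_obj _) fun w => ?_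
    rw [Functor.map_comp, ← Category.assoc, ← hf w rfl, valAt_comp, ← D.commA, Functor.map_comp,
      ← Category.assoc, ← valAt_ofSpMap, ← valAt_of_iso j₁, valAt_comp, ← D₁.commB]
    rfl)
  have hdb : d ≫ D.b = q₂ ≫ D₂.b := (AlgSp.yon S).map_injective (by
    refine hom_ext_of_moduli (π := pz) hm (AlgSp.IsAlgSpace.yon_obj _) fun w => ?_
    rw [Functor.map_comp, ← Category.assoc, ← hf w rfl, valAt_comp, ← D.commB, Functor.map_comp,
      ← Category.assoc, ← valAt_ofSpMap, ← valAt_of_iso j₂, valAt_comp, ← D₂.commB]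
    rfl)
  let r : T ⟶ Y := Over.homMk (pullback.lift r₁.left r₂.left (congrArg Over.Hom.left e).symm) (by
    show pullback.lift _ _ _ ≫ pullback.fst _ _ ≫ D₁.N.hom = T.hom
    rw [pullback.lift_fst_assoc]
    exact Over.w r₁)
  have hr₁ : r ≫ q₁ = r₁ := Over.OverMorphism.ext (pullback.lift_fst _ _ _)
  have hr₂ : r ≫ q₂ = r₂ := Over.OverMorphism.ext (pullback.lift_snd _ _ _)
  exact ⟨r ≫ d, by rw [Category.assoc, hda, reassoc_of% hr₁], by rw [Category.assoc, hdb, reassoc_of% hr₂]⟩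

theorem rel_trans {P Q R : Piece 𝒳} {T : Over S} {x : T ⟶ P.M} {y : T ⟶ Q.M} {z : T ⟶ R.M}
    (h₁ : Rel h𝒳 P Q x y) (h₂ : Rel h𝒳 Q R y z) : Rel h𝒳 P R x z :=
  rel_trans_mid h𝒳 (rel_symm h𝒳 h₁) h₂

end Groth.KeelMori
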