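import Groth.Agent.GitQuot.KeelMori.Pieces

/-!
# The overlaps of pieces: schemes etale over both moduli spaces
-/

set_option autoImplicit false
set_option backward.isDefEq.respectTransparency false
set_option backward.isDefEq.respectTransparency.types false

universe u

open CategoryTheory CategoryTheory.Limits AlgebraicGeometry Opposite
open Groth.StkBase Groth.AlgStBasic Groth.AlgSpBasic

noncomputable section

namespace Groth.KeelMori

variable {S : Scheme.{u}} {𝒳 : AlgSt.Cat S}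

/-- The data of the overlap of two pieces. -/
structure PairData (P Q : Piece 𝒳) where
  N : Over S
  π : P.inter Q ⥤ᵇ AlgSt.ofSch N
  a : N ⟶ P.M
  b : N ⟶ Q.M
  moduli : AlgSt.IsCatModuli π
  eA : BasedFunctor.comp (FibCat.fpFst P.g Q.g) P.π ≅ BasedFunctor.comp π (AlgSt.ofSpMap ((AlgSp.yon S).map a))
  cartA : FibCat.IsTwoCartOver (FibCat.fpFst P.g Q.g) π eA
  etale_a : Etale a.left
  etale_b : Etale b.left
  sep_a : IsSeparated a.left
  commA : ∀ {T : Over S} (w : (P.inter Q).obj) (hw : (P.inter Q).p.obj w = T),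
    valAt P.π w.obj.fst hw = valAt π w hw ≫ (AlgSp.yon S).map a
  commB : ∀ {T : Over S} (w : (P.inter Q).obj) (hw : (P.inter Q).p.obj w = T),
    valAt Q.π w.obj.snd ((fp_p_snd w).trans hw) = valAt π w hw ≫ (AlgSp.yon S).map b
  liftA : ∀ {T : Over S} (a₀ : P.W.obj) (ha₀ : P.W.p.obj a₀ = T) (m : (AlgSp.yon S).obj T ⟶ (AlgSp.yon S).obj N),
    valAt P.π a₀ ha₀ = m ≫ (AlgSp.yon S).map a →
      ∃ (w : (P.inter Q).obj) (hw : (P.inter Q).p.obj w = T) (α : w.obj.fst ⟶ a₀),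
        IsVert P.W.p α ∧ valAt π w hw = m
  liftB : ∀ {T : Over S} (b₀ : Q.W.obj) (hb₀ : Q.W.p.obj b₀ = T) (m : (AlgSp.yon S).obj T ⟶ (AlgSp.yon S).obj N),
    valAt Q.π b₀ hb₀ = m ≫ (AlgSp.yon S).map b →
      ∃ (w : (P.inter Q).obj) (hw : (P.inter Q).p.obj w = T) (β : w.obj.snd ⟶ b₀),
        IsVert Q.W.p β ∧ valAt π w hw = m
  homA : ∀ {T : Over S} {w w' : (P.inter Q).obj} (hw : (P.inter Q).p.obj w = T)
    (hw' : (P.inter Q).p.obj w' = T) (α : w.obj.fst ⟶ w'.obj.fst), IsVert P.W.p α →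
      valAt π w hw = valAt π w' hw' → ∃ γ : w ⟶ w', IsVert (P.inter Q).p γ ∧ γ.hom.fst = α

variable (h𝒳 : AlgSt.IsAlgStack Scheme.fppfPrecoverage 𝒳)

include h𝒳

theorem nonempty_pairData (P Q : Piece 𝒳) : Nonempty (PairData P Q) := by
  obtain ⟨N, π, aY, e, ha, has, hc, hm⟩ := P.exists_left h𝒳 Q
  obtain ⟨N', π', aY', e', ha', -, hc', hm'⟩ := Q.exists_left h𝒳 P
  let σ := fpSwap P.g Q.g
  have hσ : FibCat.IsEquivOver σ := isEquivOver_fpSwap P.g Q.g
  obtain ⟨τ, hτ⟩ := exists_iso_of_isCatModuli hm (isCatModuli_precomp hm' hσ)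
  obtain ⟨a, rfl⟩ := (AlgSp.yon S).map_surjective aY
  obtain ⟨b, hb⟩ := (AlgSp.yon S).map_surjective (τ.hom ≫ aY')
  have hb' : AlgSp.LocP @Etale ((AlgSp.yon S).map b) := by
    have := (stableBaseChange_locP (S := S) (P := @Etale)).respectsIso
    rw [hb]
    exact (MorphismProperty.cancel_left_of_respectsIso _ _ _).2 (locP_of_isEtaleMor ha')
  have hval : ∀ {T : Over S} (w : (P.inter Q).obj) (hw : (P.inter Q).p.obj w = T),
      valAt π' (σ.obj w) ((σ.w_obj w).trans hw) = valAt π w hw ≫ τ.hom := fun w hw => by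
    rw [← valAt_comp σ π' w hw, valAt, hτ, ← Category.assoc]
  refine ⟨
    { N := N, π := π, a := a, b := b, moduli := hm, eA := e, cartA := hc
      etale_a := left_prop_of_locP_yon (P := @Etale) (locP_of_isEtaleMor ha)
      etale_b := left_prop_of_locP_yon (P := @Etale) hb'
      sep_a := (AlgSp.isSeparatedMor_yon_map_iff a).1 has
      commA := fun w hw => valAt_comm e w hw
      commB := fun w hw => ?_
      liftA := fun a₀ ha₀ m hm₀ => exists_lift_of_twoCart hc a₀ ha₀ m hm₀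
      liftB := fun b₀ hb₀ m hm₀ => ?_
      homA := fun hw hw' α hα hv => exists_hom_of_twoCart hc hw hw' α hα hv }⟩
  · rw [hb, ← Category.assoc, ← hval w hw]
    exact valAt_comm e' (σ.obj w) ((σ.w_obj w).trans hw)
  · obtain ⟨w', hw', β, hβ, hv⟩ := exists_lift_of_twoCart hc' b₀ hb₀ (m ≫ τ.hom)
      (by rw [hm₀, hb, Category.assoc])
    let w := (fpSwap Q.g P.g).obj w'
    have hw : (P.inter Q).p.obj w = _ := ((fpSwap Q.g P.g).w_obj w').trans hw'
    refine ⟨w, hw, β, hβ, (cancel_mono τ.hom).1 ?_⟩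
    rw [← hval w hw, ← hv]
    refine valAt_vert π' (fpObjIso (x := σ.obj w) (y := w') (Iso.refl _) (Iso.refl _) ?_).hom
      ((isVert_fp_iff _).2 (isVert_id _)) _ _
    simp [σ, w, fpSwap]

end Groth.KeelMori
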