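import Groth.Agent.GitQuot.KeelMori.SepEtale
import Groth.Agent.GitQuot.KeelMori.CartLift
import Groth.Agent.GitQuot.StkInertia.Etale
import Groth.Agent.EtaleBase.PushStalkInt

/-!
# Well-nigh affine pieces of a stack with finite inertia, and their pairwise overlaps
-/

set_option autoImplicit false
set_option backward.isDefEq.respectTransparency false
set_option backward.isDefEq.respectTransparency.types false

universe u

open CategoryTheory CategoryTheory.Limits AlgebraicGeometry Opposite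
open Groth.StkBase Groth.AlgStBasic Groth.AlgSpBasic

noncomputable section

namespace Groth.KeelMori

variable {S : Scheme.{u}} {𝒳 𝒴 : AlgSt.Cat S}

/-- Objects over an algebraically closed field with the same value are isomorphic. -/
def GeomInj {M : AlgSp.Sp S} (π : 𝒳 ⥤ᵇ AlgSt.ofSp M) : Prop :=
  ∀ (k : Type u) [Field k] [IsAlgClosed k] (s : Spec (CommRingCat.of k) ⟶ S) (a₁ a₂ : 𝒳.obj)
    (h₁ : 𝒳.p.obj a₁ = Over.mk s) (h₂ : 𝒳.p.obj a₂ = Over.mk s),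
    valAt π a₁ h₁ = valAt π a₂ h₂ → ∃ α : a₁ ⟶ a₂, IsVert 𝒳.p α

/-- Every point over an algebraically closed field is a value. -/
def GeomSurj {M : AlgSp.Sp S} (π : 𝒳 ⥤ᵇ AlgSt.ofSp M) : Prop :=
  ∀ (k : Type u) [Field k] [IsAlgClosed k] (s : Spec (CommRingCat.of k) ⟶ S)
    (m : (AlgSp.yon S).obj (Over.mk s) ⟶ M),
    ∃ (a : 𝒳.obj) (ha : 𝒳.p.obj a = Over.mk s), valAt π a ha = m

theorem geomPtBij_of (hX : FibCat.IsFibGrpd 𝒳.p) {M : AlgSp.Sp S} {π : 𝒳 ⥤ᵇ AlgSt.ofSp M} (hi : GeomInj π) (hs : GeomSurj π) :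
    AlgSt.GeomPtBij π := by
  intro Ω _ _ t
  have key : ∀ (x : 𝒳.p.Fiber (Over.mk t)),
      valAt π x.1 x.2 = yEquiv.symm (AlgSt.fibSec π x) := fun x => by
    rw [valAt, homOf_eq, ← Category.assoc, ← Functor.map_comp, eqToHom_trans, yon_map_yEquiv_symm]
    rfl
  refine ⟨fun m => ?_, fun x y e => ?_⟩
  · obtain ⟨a, ha, hv⟩ := hs Ω t (yEquiv.symm m)
    exact ⟨⟨a, ha⟩, yEquiv.symm.injective ((key _).symm.trans hv)⟩
  · obtain ⟨α, hα⟩ := hi Ω t x.1 y.1 x.2 y.2 (by rw [key, key, e])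
    have := hα.isIso hX
    exact ⟨{ hom := ⟨α, hα.isHomLift x.2⟩
             inv := ⟨inv α, (IsVert.inv (φ := asIso α) hα).isHomLift y.2⟩
             hom_inv_id := Functor.Fiber.hom_ext (IsIso.hom_inv_id α)
             inv_hom_id := Functor.Fiber.hom_ext (IsIso.inv_hom_id α) }⟩

/-- The moduli space of a well-nigh affine stack. -/
theorem exists_wna_moduli (h𝒳 : AlgSt.IsAlgStack Scheme.fppfPrecoverage 𝒳)
    (hw : AlgSt.IsWellNighAffine 𝒳) :
    ∃ (M : Over S) (π : 𝒳 ⥤ᵇ AlgSt.ofSch M), IsAffine M.left ∧ AlgSt.IsUnifCatModuli π ∧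
      AlgSt.IsSeparatedMor π ∧ AlgSt.IsUnivHomeo Scheme.fppfPrecoverage π ∧ GeomInj π ∧ GeomSurj π := by
  obtain ⟨U, x, hU, hx⟩ := hw
  obtain ⟨R, ω, hω, hfin, hflat, hlfp, -⟩ := exists_finite_chart_groupoid h𝒳.isStack.1 hx
  have : IsAffine R.left := isAffine_of_isAffineHom ω.src.left
  refine ⟨_, toModuli hω hx, inferInstanceAs (IsAffine (Spec _)), isUnifCatModuli_toModuli hω hx,
    isSeparatedMor_toModuli hω hx h𝒳, isUnivHomeo_toModuli hω hx h𝒳, ?_, ?_⟩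
  · intro k _ _ s a₁ a₂ h₁ h₂ e
    exact exists_vert_of_algClosed hω hx k s a₁ a₂ h₁ h₂ e
  · intro k _ _ s m
    obtain ⟨m₀, rfl⟩ := (AlgSp.yon S).map_surjective m
    have : IsIntegralHom (chartQuot hω).left := isIntegralHom_toQuot (StkSlice.groupoid hω)
    let η : Spec (CommRingCat.of k) ⟶ (Mo (StkSlice.groupoid hω)).left := m₀.left
    obtain ⟨u, hu⟩ := (surjective_chartQuot hω).surj (η.base default)
    obtain ⟨ξ, hξ, -⟩ := EtaleBase.exists_lift_point (chartQuot hω).left η u hu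
    let a : Over.mk s ⟶ U := Over.homMk ξ (by
      show ξ ≫ U.hom = s
      rw [← Over.w (chartQuot hω), ← Category.assoc]
      exact (congrArg (· ≫ _) hξ).trans (Over.w m₀))
    refine ⟨x.obj (Over.mk a), x.w_obj _, (toModuli_chart hω hx a).trans (congrArg _ ?_)⟩
    exact Over.OverMorphism.ext hξ

/-- A well-nigh affine piece of `𝒳`, etale and preserving automorphisms, with its moduli space. -/
structure Piece (𝒳 : AlgSt.Cat S) where
  W : AlgSt.Cat S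
  g : W ⥤ᵇ 𝒳
  alg : AlgSt.IsAlgStack Scheme.fppfPrecoverage W
  wna : AlgSt.IsWellNighAffine W
  et : AlgSt.RepByAlgSpWith AlgSp.IsEtaleMor g
  sep : AlgSt.IsSeparatedMor g
  aut : ∀ w : W.obj, Function.Bijective (Gerb.autMap g w)
  M : Over S
  π : W ⥤ᵇ AlgSt.ofSch M
  aff : IsAffine M.left
  unif : AlgSt.IsUnifCatModuli π
  sepπ : AlgSt.IsSeparatedMor π
  homeo : AlgSt.IsUnivHomeo Scheme.fppfPrecoverage π
  inj : GeomInj π
  surj : GeomSurj π

theorem exists_piece (h𝒳 : AlgSt.IsAlgStack Scheme.fppfPrecoverage 𝒳)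
    (hI : AlgSt.RepByAlgSpWith AlgSp.IsFiniteMor (FibCat.inertiaToBase (FibCat.toSelf 𝒳)))
    (z : AlgSt.Points 𝒳) : ∃ P : Piece 𝒳, z ∈ Set.range (AlgSt.Points.map P.g) := by
  obtain ⟨W, g, hz, hW, hwna, haut, het, hsep⟩ := exists_wna_etale_nhd h𝒳 hI z
  obtain ⟨M, π, h₁, h₂, h₃, h₄, h₅, h₆⟩ := exists_wna_moduli hW hwna
  exact ⟨⟨W, g, hW, hwna, het, hsep, haut, M, π, h₁, h₂, h₃, h₄, h₅, h₆⟩, hz⟩

/-- The pullback of a categorical moduli space along an equivalence. -/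
theorem isCatModuli_precomp {M : AlgSp.Sp S} {π : 𝒳 ⥤ᵇ AlgSt.ofSp M} (hπ : AlgSt.IsCatModuli π)
    {E : 𝒴 ⥤ᵇ 𝒳} (hE : FibCat.IsEquivOver E) : AlgSt.IsCatModuli (BasedFunctor.comp E π) := by
  obtain ⟨F, -, ⟨a⟩, ⟨b⟩⟩ := isEquivOver_symm hE
  refine ⟨hπ.1, fun N hN φ => ?_⟩
  obtain ⟨v, ⟨i⟩, hu⟩ := hπ.2 N hN (BasedFunctor.comp F φ)
  refine ⟨v, ⟨(whiskerLeftIso E i).trans (whiskerRightIso a φ)⟩, fun v' ⟨j⟩ => hu v' ⟨?_⟩⟩
  exact (whiskerRightIso b (BasedFunctor.comp π (AlgSt.ofSpMap v'))).symm.trans (whiskerLeftIso F j)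

/-- A faithful functor lifting automorphisms is bijective on them. -/
theorem bijective_autMap_of (hY : FibCat.IsFibGrpd 𝒴.p) {f : 𝒴 ⥤ᵇ 𝒳} (hf : f.toFunctor.Faithful)
    (hl : ∀ w, LiftsAut f w) (w : 𝒴.obj) : Function.Bijective (Gerb.autMap f w) := by
  refine ⟨fun a b e => Aut.ext (Functor.Fiber.hom_ext (hf.map_injective
    (congrArg (fun c : Gerb.AutO (f.obj w) => c.hom.1) e))), fun b => ?_⟩
  obtain ⟨α, hα, he⟩ := hl w b.hom.1 (@isVert_of_isHomLift _ _ _ _ _ _ _ _ _ b.hom.2)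
  have := hα.isIso hY
  exact ⟨
    { hom := ⟨α, hα.isHomLift rfl⟩
      inv := ⟨(asIso α).inv, (IsVert.inv (φ := asIso α) hα).isHomLift rfl⟩
      hom_inv_id := Functor.Fiber.hom_ext (asIso α).hom_inv_id
      inv_hom_id := Functor.Fiber.hom_ext (asIso α).inv_hom_id },
    Aut.ext (Functor.Fiber.hom_ext he)⟩

/-- A functor bijective on automorphisms lifts them. -/
theorem liftsAut_of_bijective (hX : FibCat.IsFibGrpd 𝒳.p) {f : 𝒴 ⥤ᵇ 𝒳} {w : 𝒴.obj}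
    (h : Function.Bijective (Gerb.autMap f w)) : LiftsAut f w := fun β hβ => by
  have := hβ.isIso hX
  let b : Gerb.AutO (f.obj w) :=
    { hom := ⟨β, hβ.isHomLift rfl⟩
      inv := ⟨(asIso β).inv, (IsVert.inv (φ := asIso β) hβ).isHomLift rfl⟩
      hom_inv_id := Functor.Fiber.hom_ext (asIso β).hom_inv_id
      inv_hom_id := Functor.Fiber.hom_ext (asIso β).inv_hom_id }
  obtain ⟨a, ha⟩ := h.2 b
  exact ⟨a.hom.1, @isVert_of_isHomLift _ _ _ _ _ _ _ _ _ a.hom.2,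
    congrArg (fun c : Gerb.AutO (f.obj w) => c.hom.1) ha⟩

namespace Piece

variable (h𝒳 : AlgSt.IsAlgStack Scheme.fppfPrecoverage 𝒳) (P Q : Piece 𝒳)

theorem rep1 : AlgSt.RepByAlgSp1 P.g := repWith_repByAlgSp1 P.et

theorem sep' : AlgSt.RepByAlgSpWith AlgSp.IsSeparatedMor P.g :=
  ((tfae_separated P.rep1).out 2 0).1 P.sep

include h𝒳 in
theorem faithful : P.g.toFunctor.Faithful := faithful_of_repByAlgSp1 P.alg.isStack.1 h𝒳.isStack.1 P.g P.rep1

include h𝒳 in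
theorem lifts (w : P.W.obj) : LiftsAut P.g w := liftsAut_of_bijective h𝒳.isStack.1 (P.aut w)

/-- The overlap of two pieces. -/
abbrev inter : AlgSt.Cat S := FibCat.fp P.g Q.g

include h𝒳 in
theorem alg_inter : AlgSt.IsAlgStack Scheme.fppfPrecoverage (P.inter Q) :=
  isAlgStack_of_repByAlgSp1 (isFibGrpd_fp P.alg.isStack.1 Q.alg.isStack.1 h𝒳.isStack.1) P.alg
    (FibCat.fpFst P.g Q.g) (repByAlgSp1_fpFst Q.g P.g Q.rep1)

include h𝒳 in
theorem exists_left : ∃ (N : Over S) (π : P.inter Q ⥤ᵇ AlgSt.ofSch N) (a : (AlgSp.yon S).obj N ⟶ (AlgSp.yon S).obj P.M)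
    (e : BasedFunctor.comp (FibCat.fpFst P.g Q.g) P.π ≅ BasedFunctor.comp π (AlgSt.ofSpMap a)),
      AlgSp.IsEtaleMor a ∧ AlgSp.IsSeparatedMor a ∧
        FibCat.IsTwoCartOver (FibCat.fpFst P.g Q.g) π e ∧ AlgSt.IsCatModuli π := by
  have hI := isFibGrpd_fp P.alg.isStack.1 Q.alg.isStack.1 h𝒳.isStack.1 (F := P.g) (G := Q.g)
  have hrep := repByAlgSp1_fpFst Q.g P.g Q.rep1
  have hl : ∀ w, LiftsAut (FibCat.fpFst P.g Q.g) w := fun w α hα => by
    obtain ⟨γ, hγ, e⟩ := Q.lifts h𝒳 w.obj.snd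
      (w.obj.iso.inv ≫ P.g.map α ≫ w.obj.iso.hom)
      ((IsVert.inv (fp_isVert w)).comp ((isVert_map hα).comp (fp_isVert w)))
    exact ⟨fpHom (x := w) (y := w) α γ (by rw [e]; simp), (isVert_fp_iff _).2 hα, rfl⟩
  obtain ⟨N, π', a, e, ha, has, hc⟩ := exists_scheme_isTwoCartOver P.alg (P.alg_inter h𝒳 Q) P.wna
    (FibCat.fpFst P.g Q.g) (repWith_fpFst Q.g P.g Q.et)
    (((tfae_separated hrep).out 0 2).1 (repWith_fpFst Q.g P.g Q.sep'))
    (bijective_autMap_of hI (faithful_of_repByAlgSp1 hI P.alg.isStack.1 _ hrep) hl)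
    _ P.π P.unif.1
  refine ⟨N, π', a, e, ha, has, hc, ?_⟩
  have hm := P.unif.2 _ (AlgSp.IsAlgSpace.yon_obj N) a
    (locP_mono (fun _ _ f (_ : Etale f) => (inferInstance : Flat f)) (locP_of_isEtaleMor ha))
  exact isCatModuli_precomp (π := FibCat.fpFst (AlgSt.ofSpMap a) P.π) hm
    (E := BasedFunctor.comp (FibCat.fpLift (FibCat.fpFst P.g Q.g) π' e) (fpSwap P.π (AlgSt.ofSpMap a)))
    (isEquivOver_comp hc (isEquivOver_fpSwap _ _))

end Piece

end Groth.KeelMori
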