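import Groth.Agent.GitQuot.KeelMori.PairRel
import Groth.Agent.AlgSpBasic.Quotient
import Groth.Agent.AlgSpBasic.FpqcSheaf
import Groth.Agent.HenselPoint.SigmaRep

/-!
# The quotient of the moduli spaces of the pieces by the relation of their overlaps
-/

set_option autoImplicit false
set_option backward.isDefEq.respectTransparency false
set_option backward.isDefEq.respectTransparency.types false

universe u

open CategoryTheory CategoryTheory.Limits AlgebraicGeometry Opposite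
open Groth.StkBase Groth.AlgStBasic Groth.AlgSpBasic

noncomputable section

namespace Groth.KeelMori

variable {S : Scheme.{u}}

section Sigma

variable {ι : Type u} {V : ι → Over S}

/-- The map out of a disjoint union. -/
def sigmaDesc {W : Over S} (f : ∀ i, V i ⟶ W) : AlgSp2.sigmaObj V ⟶ W :=
  Over.homMk (Sigma.desc fun i => (f i).left) (Sigma.hom_ext _ _ fun i => by
    show Sigma.ι _ i ≫ Sigma.desc _ ≫ W.hom = Sigma.ι _ i ≫ Sigma.desc _
    rw [← Category.assoc, Sigma.ι_desc, Sigma.ι_desc]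
    exact Over.w (f i))

@[reassoc (attr := simp)]
theorem sigmaIncl_desc {W : Over S} (f : ∀ i, V i ⟶ W) (i : ι) :
    AlgSp2.sigmaIncl V i ≫ sigmaDesc f = f i :=
  Over.OverMorphism.ext (Sigma.ι_desc (fun i => (f i).left) i)

theorem sigma_index_unique {w : (AlgSp2.sigmaObj V).left} {i j : ι}
    (hi : w ∈ Set.range (AlgSp2.sigmaIncl V i).left) (hj : w ∈ Set.range (AlgSp2.sigmaIncl V j).left) :
    i = j := by
  by_contra h
  obtain ⟨a, rfl⟩ := hi
  obtain ⟨b, hb⟩ := hj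
  have := (disjoint_iff.1 (disjoint_opensRange_sigmaι (fun i => (V i).left) i j h))
  exact (this.le ⟨⟨a, rfl⟩, ⟨b, hb⟩⟩ : _)

theorem sigmaIncl_cancel {T : Over S} {i : ι} {a b : T ⟶ V i}
    (h : a ≫ AlgSp2.sigmaIncl V i = b ≫ AlgSp2.sigmaIncl V i) : a = b :=
  Over.OverMorphism.ext ((cancel_mono (Sigma.ι (fun i => (V i).left) i)).1 (congrArg Over.Hom.left h))

theorem exists_factor_incl {T : Over S} (r : T ⟶ AlgSp2.sigmaObj V) (i : ι)
    (h : ∀ w : T.left, r.left w ∈ Set.range (AlgSp2.sigmaIncl V i).left) :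
    ∃ r' : T ⟶ V i, r' ≫ AlgSp2.sigmaIncl V i = r := by
  let e := Sigma.ι (fun i => (V i).left) i
  have hr : Set.range r.left ⊆ Set.range e := by rintro _ ⟨w, rfl⟩; exact h w
  let l : T.left ⟶ (V i).left := IsOpenImmersion.lift e r.left hr
  have hl : l ≫ e = r.left := IsOpenImmersion.lift_fac e r.left hr
  refine ⟨Over.homMk l ?_, Over.OverMorphism.ext hl⟩
  rw [← Over.w (AlgSp2.sigmaIncl V i), ← Category.assoc]
  exact (congrArg (· ≫ _) hl).trans (Over.w r)

/-- The restriction to an open. -/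
abbrev openObj {T : Over S} (O : T.left.Opens) : Over S := Over.mk (O.ι ≫ T.hom)

/-- The inclusion of an open. -/
abbrev openIncl {T : Over S} (O : T.left.Opens) : openObj O ⟶ T := Over.homMk O.ι rfl

instance {T : Over S} (O : T.left.Opens) : Etale (openIncl O).left := inferInstanceAs (Etale O.ι)

end Sigma

variable {𝒳 : AlgSt.Cat S} (h𝒳 : AlgSt.IsAlgStack Scheme.fppfPrecoverage 𝒳)
  {ι : Type u} (P : ι → Piece 𝒳)

/-- The disjoint union of the moduli spaces. -/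
abbrev U₀ : Over S := AlgSp2.sigmaObj fun i => (P i).M

/-- The inclusion of a moduli space. -/
abbrev inclU (i : ι) : (P i).M ⟶ U₀ P := AlgSp2.sigmaIncl (fun i => (P i).M) i

/-- The disjoint union of the overlaps. -/
abbrev R₀ : Over S := AlgSp2.sigmaObj fun q : ι × ι => (pairData h𝒳 (P q.1) (P q.2)).N

/-- The inclusion of an overlap. -/
abbrev inclR (q : ι × ι) : (pairData h𝒳 (P q.1) (P q.2)).N ⟶ R₀ h𝒳 P :=
  AlgSp2.sigmaIncl (fun q : ι × ι => (pairData h𝒳 (P q.1) (P q.2)).N) q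

/-- The first map of the relation. -/
def rT : R₀ h𝒳 P ⟶ U₀ P := sigmaDesc fun q => (pairData h𝒳 (P q.1) (P q.2)).a ≫ inclU P q.1

/-- The second map of the relation. -/
def rS : R₀ h𝒳 P ⟶ U₀ P := sigmaDesc fun q => (pairData h𝒳 (P q.1) (P q.2)).b ≫ inclU P q.2

theorem etale_rT : Etale (rT h𝒳 P).left := by
  refine IsZariskiLocalAtSource.sigmaDesc (P := @Etale) fun q => ?_
  have := (pairData h𝒳 (P q.1) (P q.2)).etale_a
  exact inferInstanceAs (Etale ((pairData h𝒳 (P q.1) (P q.2)).a.left ≫ Sigma.ι (fun i => (P i).M.left) q.1))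

theorem etale_rS : Etale (rS h𝒳 P).left := by
  refine IsZariskiLocalAtSource.sigmaDesc (P := @Etale) fun q => ?_
  have := (pairData h𝒳 (P q.1) (P q.2)).etale_b
  exact inferInstanceAs (Etale ((pairData h𝒳 (P q.1) (P q.2)).b.left ≫ Sigma.ι (fun i => (P i).M.left) q.2))

variable {h𝒳 P}

theorem exists_index {T : Over S} (r : T ⟶ R₀ h𝒳 P) {a b : T ⟶ U₀ P} (ha : r ≫ rT h𝒳 P = a)
    (hb : r ≫ rS h𝒳 P = b) (w : T.left) :
    ∃ q : ι × ι, r.left w ∈ Set.range (inclR h𝒳 P q).left ∧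
      a.left w ∈ Set.range (inclU P q.1).left ∧ b.left w ∈ Set.range (inclU P q.2).left := by
  obtain ⟨q, v, hv⟩ := HenselPoint.exists_sigmaIncl_eq (r.left w)
  refine ⟨q, ⟨v, hv⟩, ⟨(pairData h𝒳 (P q.1) (P q.2)).a.left v, ?_⟩,
    ⟨(pairData h𝒳 (P q.1) (P q.2)).b.left v, ?_⟩⟩
  · show ((pairData h𝒳 (P q.1) (P q.2)).a ≫ inclU P q.1).left v = _
    rw [← ha, Over.comp_left, Scheme.Hom.comp_apply]
    show _ = (rT h𝒳 P).left (r.left w)
    rw [← hv]
    have e := sigmaIncl_desc (V := fun q : ι × ι => (pairData h𝒳 (P q.1) (P q.2)).N)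
      (fun q => (pairData h𝒳 (P q.1) (P q.2)).a ≫ inclU P q.1) q
    exact congrArg (fun f : _ ⟶ U₀ P => f.left v) e.symm
  · show ((pairData h𝒳 (P q.1) (P q.2)).b ≫ inclU P q.2).left v = _
    rw [← hb, Over.comp_left, Scheme.Hom.comp_apply]
    show _ = (rS h𝒳 P).left (r.left w)
    rw [← hv]
    have e := sigmaIncl_desc (V := fun q : ι × ι => (pairData h𝒳 (P q.1) (P q.2)).N)
      (fun q => (pairData h𝒳 (P q.1) (P q.2)).b ≫ inclU P q.2) q
    exact congrArg (fun f : _ ⟶ U₀ P => f.left v) e.symm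

/-- Related points of two given components. -/
theorem relU_iff {T : Over S} {i j : ι} {x : T ⟶ (P i).M} {y : T ⟶ (P j).M} :
    (∃ r : T ⟶ R₀ h𝒳 P, r ≫ rT h𝒳 P = x ≫ inclU P i ∧ r ≫ rS h𝒳 P = y ≫ inclU P j) ↔
      Rel h𝒳 (P i) (P j) x y := by
  constructor
  · rintro ⟨r, hr₁, hr₂⟩
    obtain ⟨r', hr'⟩ := exists_factor_incl r (i, j) fun w => by
      obtain ⟨q, hq, hq₁, hq₂⟩ := exists_index r hr₁ hr₂ w
      have e₁ : q.1 = i := sigma_index_unique hq₁ ⟨x.left w, rfl⟩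
      have e₂ : q.2 = j := sigma_index_unique hq₂ ⟨y.left w, rfl⟩
      exact (Prod.ext e₁ e₂ : q = (i, j)) ▸ hq
    refine ⟨r', sigmaIncl_cancel (V := fun i => (P i).M) ?_, sigmaIncl_cancel (V := fun i => (P i).M) ?_⟩
    · show _ = x ≫ inclU P i
      rw [← hr₁, ← hr', Category.assoc, Category.assoc, rT, sigmaIncl_desc]
    · show _ = y ≫ inclU P j
      rw [← hr₂, ← hr', Category.assoc, Category.assoc, rS, sigmaIncl_desc]
  · rintro ⟨r, rfl, rfl⟩
    exact ⟨r ≫ inclR h𝒳 P (i, j), by rw [Category.assoc, rT, sigmaIncl_desc, Category.assoc],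
      by rw [Category.assoc, rS, sigmaIncl_desc, Category.assoc]⟩

theorem rel_injective (T : Over S) (r r' : T ⟶ R₀ h𝒳 P) (ha : r ≫ rT h𝒳 P = r' ≫ rT h𝒳 P)
    (hb : r ≫ rS h𝒳 P = r' ≫ rS h𝒳 P) : r = r' := by
  let O : ι × ι → T.left.Opens := fun q =>
    r.left ⁻¹ᵁ (Sigma.ι (fun q : ι × ι => (pairData h𝒳 (P q.1) (P q.2)).N.left) q).opensRange
  have hcov : ∀ w, ∃ q, w ∈ Set.range (openIncl (O q)).left := fun w => by
    obtain ⟨q, hq, -⟩ := exists_index r rfl rfl w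
    exact ⟨q, ⟨w, hq⟩, rfl⟩
  refine (AlgSp.yon S).map_injective (eq_of_fppf (fun q => openIncl (O q))
    (ofArrows_mem_fppf_of_etale _ hcov) fun q => ?_)
  rw [← Functor.map_comp, ← Functor.map_comp]
  refine congrArg _ ?_
  obtain ⟨r₁, hr₁⟩ := exists_factor_incl (openIncl (O q) ≫ r) q fun w => w.2
  obtain ⟨r₂, hr₂⟩ := exists_factor_incl (openIncl (O q) ≫ r') q fun w => by
    obtain ⟨q', hq', ha', hb'⟩ := exists_index r' ha.symm hb.symm w.1
    obtain ⟨q'', hq'', ha'', hb''⟩ := exists_index r (rfl : r ≫ rT h𝒳 P = _) rfl w.1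
    have e : q'' = q := sigma_index_unique hq'' w.2
    have e₁ : q' = q'' := Prod.ext (sigma_index_unique ha' ha'') (sigma_index_unique hb' hb'')
    exact (e₁.trans e) ▸ hq'
  have hrel : r₁ = r₂ := by
    refine (pairData h𝒳 (P q.1) (P q.2)).ext h𝒳 r₁ r₂ (sigmaIncl_cancel (V := fun i => (P i).M) ?_)
      (sigmaIncl_cancel (V := fun i => (P i).M) ?_)
    · have := congrArg (openIncl (O q) ≫ ·) ha
      simp only [← Category.assoc, ← hr₁, ← hr₂] at this
      simpa only [Category.assoc, rT, sigmaIncl_desc] using this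
    · have := congrArg (openIncl (O q) ≫ ·) hb
      simp only [← Category.assoc, ← hr₁, ← hr₂] at this
      simpa only [Category.assoc, rS, sigmaIncl_desc] using this
  rw [← hr₁, ← hr₂, hrel]

theorem rel_equivalence (T : Over S) :
    _root_.Equivalence fun a b : T ⟶ U₀ P => ∃ r : T ⟶ R₀ h𝒳 P, r ≫ rT h𝒳 P = a ∧ r ≫ rS h𝒳 P = b where
  refl a := by
    choose d hd₁ hd₂ using fun i => rel_refl h𝒳 (P i) (𝟙 _)
    refine ⟨a ≫ sigmaDesc fun i => d i ≫ inclR h𝒳 P (i, i), ?_, ?_⟩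
    · rw [Category.assoc]
      refine (congrArg (a ≫ ·) ((AlgSp.yon S).map_injective (AlgSp2.sigma_hom_ext _ fun i => ?_))).trans
        (Category.comp_id a)
      rw [← Functor.map_comp, ← Functor.map_comp, sigmaIncl_desc_assoc, Category.assoc, rT, sigmaIncl_desc,
        ← Category.assoc, hd₁, Category.id_comp, Category.comp_id]
    · rw [Category.assoc]
      refine (congrArg (a ≫ ·) ((AlgSp.yon S).map_injective (AlgSp2.sigma_hom_ext _ fun i => ?_))).trans
        (Category.comp_id a)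
      rw [← Functor.map_comp, ← Functor.map_comp, sigmaIncl_desc_assoc, Category.assoc, rS, sigmaIncl_desc,
        ← Category.assoc, hd₂, Category.id_comp, Category.comp_id]
  symm := by
    intro a b h
    obtain ⟨r, rfl, rfl⟩ := h
    choose d hd₁ hd₂ using fun q : ι × ι => rel_symm h𝒳 (P := P q.1) (Q := P q.2)
      ⟨𝟙 _, Category.id_comp _, Category.id_comp _⟩
    refine ⟨r ≫ sigmaDesc fun q => d q ≫ inclR h𝒳 P (q.2, q.1), ?_, ?_⟩
    · rw [Category.assoc]
      refine congrArg (r ≫ ·) ((AlgSp.yon S).map_injective (AlgSp2.sigma_hom_ext _ fun q => ?_))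
      rw [← Functor.map_comp, ← Functor.map_comp, sigmaIncl_desc_assoc, Category.assoc, rT, sigmaIncl_desc,
        ← Category.assoc, hd₁, rS, sigmaIncl_desc]
    · rw [Category.assoc]
      refine congrArg (r ≫ ·) ((AlgSp.yon S).map_injective (AlgSp2.sigma_hom_ext _ fun q => ?_))
      rw [← Functor.map_comp, ← Functor.map_comp, sigmaIncl_desc_assoc, Category.assoc, rS, sigmaIncl_desc,
        ← Category.assoc, hd₂, rT, sigmaIncl_desc]
  trans := by
    intro a b c hab hbc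
    obtain ⟨r₁, rfl, hr₁⟩ := hab
    obtain ⟨r₂, hr₂, rfl⟩ := hbc
    subst hr₁
    let O : ι × ι × ι → T.left.Opens := fun k =>
      (r₁ ≫ rT h𝒳 P).left ⁻¹ᵁ (Sigma.ι (fun i => (P i).M.left) k.1).opensRange ⊓
        ((r₁ ≫ rS h𝒳 P).left ⁻¹ᵁ (Sigma.ι (fun i => (P i).M.left) k.2.1).opensRange ⊓
          (r₂ ≫ rS h𝒳 P).left ⁻¹ᵁ (Sigma.ι (fun i => (P i).M.left) k.2.2).opensRange)
    have hcov : ∀ w, ∃ k, w ∈ Set.range (openIncl (O k)).left := fun w => by
      obtain ⟨i, hi⟩ := HenselPoint.exists_sigmaIncl_eq (V := fun i => (P i).M) ((r₁ ≫ rT h𝒳 P).left w)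
      obtain ⟨j, hj⟩ := HenselPoint.exists_sigmaIncl_eq (V := fun i => (P i).M) ((r₁ ≫ rS h𝒳 P).left w)
      obtain ⟨k, hk⟩ := HenselPoint.exists_sigmaIncl_eq (V := fun i => (P i).M) ((r₂ ≫ rS h𝒳 P).left w)
      exact ⟨(i, j, k), ⟨w, hi, hj, hk⟩, rfl⟩
    have hloc : ∀ k, ∃ r : openObj (O k) ⟶ R₀ h𝒳 P, r ≫ rT h𝒳 P = openIncl (O k) ≫ r₁ ≫ rT h𝒳 P ∧
        r ≫ rS h𝒳 P = openIncl (O k) ≫ r₂ ≫ rS h𝒳 P := fun k => by
      obtain ⟨x, hx⟩ := exists_factor_incl (V := fun i => (P i).M)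
        (openIncl (O k) ≫ r₁ ≫ rT h𝒳 P) k.1 fun w => w.2.1
      obtain ⟨y, hy⟩ := exists_factor_incl (V := fun i => (P i).M)
        (openIncl (O k) ≫ r₁ ≫ rS h𝒳 P) k.2.1 fun w => w.2.2.1
      obtain ⟨z, hz⟩ := exists_factor_incl (V := fun i => (P i).M)
        (openIncl (O k) ≫ r₂ ≫ rS h𝒳 P) k.2.2 fun w => w.2.2.2
      have hxy : Rel h𝒳 (P k.1) (P k.2.1) x y := relU_iff.1
        ⟨openIncl (O k) ≫ r₁, by rw [Category.assoc, ← hx], by rw [Category.assoc, ← hy]⟩
      have hyz : Rel h𝒳 (P k.2.1) (P k.2.2) y z := relU_iff.1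
        ⟨openIncl (O k) ≫ r₂, by rw [Category.assoc, hr₂, ← hy], by rw [Category.assoc, ← hz]⟩
      obtain ⟨r, hra, hrb⟩ := relU_iff.2 (rel_trans h𝒳 hxy hyz)
      exact ⟨r, hra.trans hx, hrb.trans hz⟩
    choose rk hka hkb using hloc
    obtain ⟨g, hg⟩ := exists_glue_of_fppf (fun k => openIncl (O k)) (ofArrows_mem_fppf_of_etale _ hcov)
      (fun k => (AlgSp.yon S).map (rk k)) fun i j T' p q e => by
        rw [← Functor.map_comp, ← Functor.map_comp]
        refine congrArg _ (rel_injective T' _ _ ?_ ?_)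
        · rw [Category.assoc, Category.assoc, hka, hka, ← Category.assoc, e, Category.assoc]
        · rw [Category.assoc, Category.assoc, hkb, hkb, ← Category.assoc, e, Category.assoc]
    obtain ⟨r, rfl⟩ := (AlgSp.yon S).map_surjective g
    refine ⟨r, ?_, ?_⟩
    · refine (AlgSp.yon S).map_injective (eq_of_fppf _ (ofArrows_mem_fppf_of_etale _ hcov) fun k => ?_)
      rw [Functor.map_comp, ← Category.assoc, hg, ← Functor.map_comp, ← Functor.map_comp, hka]
    · refine (AlgSp.yon S).map_injective (eq_of_fppf _ (ofArrows_mem_fppf_of_etale _ hcov) fun k => ?_)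
      rw [Functor.map_comp, ← Category.assoc, hg, ← Functor.map_comp, ← Functor.map_comp, hkb]

theorem isEqvRel_rS_rT : AlgSp.IsEqvRel (rS h𝒳 P) (rT h𝒳 P) :=
  ⟨fun T r r' ha hb => rel_injective T r r' ha hb, fun T => rel_equivalence T⟩

variable (h𝒳 P)

/-- The glued moduli space. -/
abbrev gluedM : AlgSp.Sp S := QuotSh.quot Scheme.fppfPrecoverage (rS h𝒳 P) (rT h𝒳 P)

/-- The map of a moduli space to the glued one. -/
def inclM (i : ι) : (AlgSp.yon S).obj (P i).M ⟶ gluedM h𝒳 P :=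
  (AlgSp.yon S).map (inclU P i) ≫ yonQuotπ (rS h𝒳 P) (rT h𝒳 P)

theorem gluedM_spec : AlgSp.IsAlgSpace (gluedM h𝒳 P) ∧
    AlgSp.RepWith @Etale (yonQuotπ (rS h𝒳 P) (rT h𝒳 P)) ∧
    AlgSp.RepWith @Surjective (yonQuotπ (rS h𝒳 P) (rT h𝒳 P)) := by
  have := isLocallySurjective_yonQuotπ (rS h𝒳 P) (rT h𝒳 P)
  have := etale_rS h𝒳 P
  have := etale_rT h𝒳 P
  exact isAlgSpace_of_kernelPair (isPullback_yonQuot isEqvRel_rS_rT)

theorem isAlgSpace_gluedM : AlgSp.IsAlgSpace (gluedM h𝒳 P) := (gluedM_spec h𝒳 P).1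

theorem etale_inclM (i : ι) : AlgSp.RepWith @Etale (inclM h𝒳 P i) :=
  repWith_comp ((AlgSp.repWith_yon_map_iff @Etale _).2
    (inferInstanceAs (Etale (Sigma.ι (fun i => (P i).M.left) i)))) (gluedM_spec h𝒳 P).2.1

/-- Two points of the moduli spaces have the same image exactly when they are related. -/
theorem inclM_eq_iff {T : Over S} {i j : ι} (x : T ⟶ (P i).M) (y : T ⟶ (P j).M) :
    (AlgSp.yon S).map x ≫ inclM h𝒳 P i = (AlgSp.yon S).map y ≫ inclM h𝒳 P j ↔
      Rel h𝒳 (P i) (P j) x y := by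
  have sq := isPullback_yonQuot (isEqvRel_rS_rT (h𝒳 := h𝒳) (P := P))
  rw [inclM, inclM, ← Category.assoc ((AlgSp.yon S).map x), ← Category.assoc ((AlgSp.yon S).map y),
    ← Functor.map_comp, ← Functor.map_comp]
  constructor
  · intro e
    obtain ⟨r, hr⟩ := (AlgSp.yon S).map_surjective (sq.lift _ _ e)
    refine relU_iff.1 ⟨r, (AlgSp.yon S).map_injective ?_, (AlgSp.yon S).map_injective ?_⟩
    · rw [Functor.map_comp, hr, sq.lift_fst]
    · rw [Functor.map_comp, hr, sq.lift_snd]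
  · intro h
    obtain ⟨r, hr₁, hr₂⟩ := relU_iff.2 h
    rw [← hr₁, ← hr₂, Functor.map_comp, Functor.map_comp, Category.assoc, Category.assoc, sq.w]

/-- Points of the glued space lift etale locally to the moduli spaces. -/
theorem exists_local_lift {T : Over S} (x : (AlgSp.yon S).obj T ⟶ gluedM h𝒳 P) :
    ∃ (V : ι → Over S) (c : ∀ i, V i ⟶ T) (y : ∀ i, V i ⟶ (P i).M),
      (∀ i, Etale (c i).left) ∧ (∀ w, ∃ i, w ∈ Set.range (c i).left) ∧
        ∀ i, (AlgSp.yon S).map (c i) ≫ x = (AlgSp.yon S).map (y i) ≫ inclM h𝒳 P i := by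
  obtain ⟨-, he, hs⟩ := gluedM_spec h𝒳 P
  obtain ⟨V₀, c₀, fst, sq⟩ := he.rep x
  obtain ⟨v, rfl⟩ := (AlgSp.yon S).map_surjective fst
  have : Etale c₀.left := he.property x _ c₀ sq
  have : Surjective c₀.left := hs.property x _ c₀ sq
  let O : ι → V₀.left.Opens := fun i => v.left ⁻¹ᵁ (Sigma.ι (fun i => (P i).M.left) i).opensRange
  choose y hy using fun i => exists_factor_incl (V := fun i => (P i).M) (openIncl (O i) ≫ v) i fun w => w.2
  refine ⟨fun i => openObj (O i), fun i => openIncl (O i) ≫ c₀, y, fun i => ?_, fun w => ?_, fun i => ?_⟩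
  · exact inferInstanceAs (Etale ((O i).ι ≫ c₀.left))
  · obtain ⟨w₀, rfl⟩ := Surjective.surj (f := c₀.left) w
    obtain ⟨i, hi⟩ := HenselPoint.exists_sigmaIncl_eq (V := fun i => (P i).M) (v.left w₀)
    exact ⟨i, ⟨w₀, hi⟩, rfl⟩
  · rw [inclM, ← Category.assoc ((AlgSp.yon S).map (y i)), ← Functor.map_comp, hy, Functor.map_comp,
      Functor.map_comp, Category.assoc, Category.assoc, ← sq.w]

end Groth.KeelMori
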