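import Groth.Agent.GitQuot.KeelMori.WnaEtale
import Groth.Agent.GitQuot.GrpdQuotient
import Groth.Agent.GitQuot.QSplit.Loops

/-!
# Quotients of groupoids cartesian and separated etale over an affine groupoid
-/

set_option autoImplicit false
set_option backward.isDefEq.respectTransparency false
set_option backward.isDefEq.respectTransparency.types false

universe u

open CategoryTheory CategoryTheory.Limits AlgebraicGeometry Opposite

noncomputable section

namespace Groth.KeelMori

open Groth.GrpdQuotient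

section Quotient

variable {S : Scheme.{u}} {G' G : Grpd.GroupoidScheme S} (f : Grpd.GroupoidScheme.Hom G' G)

/-- The restriction of a morphism to an invariant open. -/
def restrictHom (W : InvAff G') : Grpd.GroupoidScheme.Hom W.grpd G where
  fU := W.W.ι ≫ f.fU
  fR := GrpdBasic.arrowsι G' W.W ≫ f.fR
  fU_over := by rw [Category.assoc, f.fU_over]
  comm_s := by
    show _ = (G'.s ∣_ W.W) ≫ _
    rw [Category.assoc, f.comm_s, morphismRestrict_ι_assoc]
  comm_t := by
    show _ = GrpdBasic.restrictT G' W.W W.inv ≫ _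
    rw [Category.assoc, f.comm_t, GrpdBasic.restrictT_ι_assoc]
  comm_c a b h := by
    refine (Category.assoc _ _ _).symm.trans ?_
    erw [GrpdBasic.lift_restrictC G' W.W W.inv a b h]
    refine (f.comm_c _ _ _).trans ?_
    exact congrArg (· ≫ G.c) (pullback.hom_ext (by simp) (by simp))

theorem isPullback_arrowsι_t (W : InvAff G') :
    IsPullback (GrpdBasic.arrowsι G' W.W) W.grpd.t G'.t W.W.ι :=
  (IsOpenImmersion.isPullback _ _ _ _ (GrpdBasic.restrictT_ι G' W.W W.inv).symm
    (TopologicalSpace.Opens.ext (by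
      show ⇑G'.t ⁻¹' Set.range W.W.ι = Set.range (GrpdBasic.arrowsι G' W.W)
      rw [Scheme.Opens.range_ι, GrpdBasic.range_arrowsι, Scheme.Opens.range_ι]
      exact (congrArg (fun O : G'.R.Opens => (O : Set G'.R)) W.inv).symm))).flip

variable [IsAffine G.U] [IsAffine G.R] [IsFinite G.s] [Flat G.s] [LocallyOfFinitePresentation G.s]
  [IsFinite G'.s] [Flat G'.s] [LocallyOfFinitePresentation G'.s] [Etale f.fU] [IsSeparated f.fU]
  (hs : IsPullback f.fR G'.s G.s f.fU) (ht : IsPullback f.fR G'.t G.t f.fU)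
  (hloop : ∀ {T : Scheme.{u}} (r : T ⟶ G'.R),
    (r ≫ f.fR) ≫ G.t = (r ≫ f.fR) ≫ G.s → r ≫ G'.t = r ≫ G'.s)

include f

omit [IsAffine G.R] [IsFinite G.s] [Flat G.s] [LocallyOfFinitePresentation G.s] [Flat G'.s]
  [LocallyOfFinitePresentation G'.s] in
theorem orbitsInAffine : OrbitsInAffine G' := by
  intro x
  have : LocallyQuasiFinite f.fU := Groth.AlgSp2.locallyQuasiFinite_of_etale _
  obtain ⟨V, hV, hEV, -⟩ := QSplit.exists_affine_qf f.fU (⇑G'.t '' (⇑G'.s ⁻¹' {x}))
    ((G'.s.finite_preimage_singleton x).image _) fun z _ =>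
      Scheme.Hom.quasiFiniteAt_iff_isOpen_singleton_asFiber.1 (f.fU.quasiFiniteAt z)
  exact ⟨V, hV, hEV⟩

include hs ht hloop

omit [IsSeparated f.fU] in
theorem etale_quotMap_restrict (W : InvAff G') :
    Etale (EtQuot.quotMap (restrictHom f W)) ∧
      IsPullback (W.W.ι ≫ f.fU) W.π G.toQuot (EtQuot.quotMap (restrictHom f W)) := by
  have : Etale (restrictHom f W).fU := inferInstanceAs (Etale (W.W.ι ≫ f.fU))
  have hs' : IsPullback (restrictHom f W).fR W.grpd.s G.s (restrictHom f W).fU :=
    (isPullback_morphismRestrict G'.s W.W).flip.paste_horiz hs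
  exact EtQuot.etale_isPullback (restrictHom f W) hs' ((isPullback_arrowsι_t W).paste_horiz ht)
    (exists_stabilizer_isPullback_of_loops _ hs' fun {T} r e => by
      have e' := hloop (r ≫ GrpdBasic.arrowsι G' W.W) (by
        simpa [restrictHom, Category.assoc] using e)
      rw [← cancel_mono W.W.ι]
      show (r ≫ GrpdBasic.restrictT G' W.W W.inv) ≫ W.W.ι = (r ≫ (G'.s ∣_ W.W)) ≫ W.W.ι
      rw [Category.assoc, GrpdBasic.restrictT_ι, Category.assoc, morphismRestrict_ι]
      simpa [Category.assoc] using e')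

/-- **The quotient is a scheme, separated and etale over the affine quotient, with a cartesian square.** -/
theorem exists_quotient_etale :
    ∃ (Q : Scheme.{u}) (p : G'.U ⟶ Q) (g : Q ⟶ Spec (CommRingCat.of G.invariants)),
      G'.t ≫ p = G'.s ≫ p ∧ Etale g ∧ IsSeparated g ∧ IsPullback f.fU p G.toQuot g ∧
        ∃ pQ : Q ⟶ S, p ≫ pQ = G'.pU ∧ g ≫ quotBase G = pQ := by
  have hb := orbitsInAffine f
  have hQ := GrpdQuotient.isQuot hb
  obtain ⟨pQ, hpQ⟩ := hQ.exists_desc G'.pU (G'.t_over.trans G'.s_over.symm)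
  obtain ⟨g, hg⟩ := hQ.exists_desc (f.fU ≫ G.toQuot) (by
    rw [← Category.assoc, ← Category.assoc, ← f.comm_s, ← f.comm_t, Category.assoc, Category.assoc,
      AffGpd.t_toQuot])
  have hW := etale_quotMap_restrict f hs ht hloop
  have hιg : ∀ W, ι W ≫ g = EtQuot.quotMap (restrictHom f W) := fun W => W.isQuot.epi (by
    rw [← Category.assoc, ← ι_p hb, Category.assoc, hg]
    exact ((Category.assoc _ _ _).symm.trans (EtQuot.toQuot_quotMap (restrictHom f W)).symm))
  let p := GrpdQuotient.p hb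
  have hget : Etale g := IsZariskiLocalAtSource.of_openCover (P := @Etale)
    (Scheme.IsLocallyDirected.openCover (diagram G')) fun W => by
      show Etale (ι W ≫ g)
      rw [hιg]; exact (hW W).1
  -- the square is cartesian
  let P := pullback G.toQuot g
  let c : G'.U ⟶ P := pullback.lift f.fU p hg.symm
  have hc₁ : c ≫ pullback.fst _ _ = f.fU := pullback.lift_fst _ _ _
  have hc₂ : c ≫ pullback.snd _ _ = p := pullback.lift_snd _ _ _
  let d : ∀ W : InvAff G', W.W.toScheme ⟶ P := fun W => W.W.ι ≫ c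
  have hd : ∀ W : InvAff G', IsPullback (d W) W.π (pullback.snd G.toQuot g) (ι W) := fun W => by
    refine IsPullback.of_right ?_ (by rw [Category.assoc, hc₂]; exact ι_p hb W)
      (IsPullback.of_hasPullback G.toQuot g)
    rw [Category.assoc, hc₁, hιg]
    exact (hW W).2
  have : ∀ W, IsOpenImmersion (d W) := fun W =>
    MorphismProperty.of_isPullback (P := @IsOpenImmersion) (hd W).flip inferInstance
  let 𝒰 : P.OpenCover :=
    { I₀ := InvAff G'
      X := fun W => W.W.toScheme
      f := d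
      mem₀ := by
        rw [Scheme.presieve₀_mem_precoverage_iff]
        refine ⟨fun q => ?_, fun W => inferInstance⟩
        obtain ⟨W, z, hz⟩ := ι_jointly_surjective (pullback.snd G.toQuot g q)
        obtain ⟨w, hw, -⟩ := Scheme.Pullback.exists_preimage_pullback q z hz.symm
        exact ⟨W, (hd W).isoPullback.inv w, by
          rw [← Scheme.Hom.comp_apply, (hd W).isoPullback_inv_fst, hw]⟩ }
  have hci : IsIso c := IsZariskiLocalAtTarget.of_openCover (P := MorphismProperty.isomorphisms Scheme)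
    𝒰 fun W => by
    have sq : IsPullback W.W.ι (𝟙 _) c (d W) :=
      IsPullback.of_bot (by rw [Category.id_comp, hc₂]; exact isPullback_ι hb W)
        (Category.id_comp _).symm (hd W)
    show IsIso (pullback.snd c (d W))
    rw [← sq.isoPullback_inv_snd]
    infer_instance
  have hsq : IsPullback f.fU p G.toQuot g :=
    IsPullback.of_iso_pullback ⟨hg.symm⟩ (asIso c) hc₁ hc₂
  -- separated
  have hint : IsIntegralHom p := isIntegralHom_p hb
  have hsurj : Surjective p := ⟨hQ.surj⟩
  have : IsIntegralHom G.toQuot := isIntegralHom_toQuot G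
  let h₀ := f.fU ≫ G.toQuot
  have hsep₀ : IsSeparated h₀ := inferInstance
  let m : pullback h₀ h₀ ⟶ pullback g g :=
    pullback.map h₀ h₀ g g p p (𝟙 _) (by rw [Category.comp_id]; exact hg.symm)
      (by rw [Category.comp_id]; exact hg.symm)
  have hm : pullback.diagonal h₀ ≫ m = p ≫ pullback.diagonal g := by
    apply pullback.hom_ext <;> simp [m]
  have hcl : IsClosedMap m := by
    let m₁ : pullback h₀ h₀ ⟶ pullback g h₀ :=
      pullback.map h₀ h₀ g h₀ p (𝟙 _) (𝟙 _) (by rw [Category.comp_id]; exact hg.symm) (by simp)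
    let m₂ : pullback g h₀ ⟶ pullback g g :=
      pullback.map g h₀ g g (𝟙 _) p (𝟙 _) (by simp) (by rw [Category.comp_id]; exact hg.symm)
    have : m = m₁ ≫ m₂ := by apply pullback.hom_ext <;> simp [m, m₁, m₂]
    have hg' : p ≫ g = h₀ := hg
    have s₁ : IsPullback m₁ (pullback.fst h₀ h₀) (pullback.fst g h₀) p :=
      IsPullback.of_right (by
        rw [show m₁ ≫ pullback.snd g h₀ = pullback.snd h₀ h₀ by simp [m₁], hg']
        exact (IsPullback.of_hasPullback h₀ h₀).flip) (by simp [m₁])
        (IsPullback.of_hasPullback g h₀).flip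
    have s₂ : IsPullback m₂ (pullback.snd g h₀) (pullback.snd g g) p :=
      IsPullback.of_right (by
        rw [show m₂ ≫ pullback.fst g g = pullback.fst g h₀ by simp [m₂], hg']
        exact IsPullback.of_hasPullback g h₀) (by simp [m₂]) (IsPullback.of_hasPullback g g)
    have : IsIntegralHom m₁ := MorphismProperty.of_isPullback (P := @IsIntegralHom) s₁.flip hint
    have : IsIntegralHom m₂ := MorphismProperty.of_isPullback (P := @IsIntegralHom) s₂.flip hint
    rw [‹m = m₁ ≫ m₂›]
    exact (m₁ ≫ m₂).isClosedMap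
  have hsep : IsSeparated g := ⟨by
    refine IsClosedImmersion.of_isPreimmersion _ ?_
    have e : Set.range (pullback.diagonal g) = ⇑m '' Set.range (pullback.diagonal h₀) := by
      rw [← Set.range_comp]
      have := congrArg (fun k : G'.U ⟶ pullback g g => Set.range ⇑k) hm
      simp only [Scheme.Hom.comp_base, TopCat.coe_comp, Set.range_comp, hsurj.surj.range_eq,
        Set.image_univ] at this
      rw [Set.range_comp]
      exact this.symm
    rw [e]
    exact hcl _ (pullback.diagonal h₀).isClosedEmbedding.isClosed_range⟩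
  exact ⟨_, p, g, (GrpdQuotient.w hb), hget, hsep, hsq, pQ, hpQ, hQ.epi (by
    rw [← Category.assoc, hg, Category.assoc, toQuot_quotBase, hpQ, f.fU_over])⟩

end Quotient

section Stack

open Groth.StkBase Groth.AlgStBasic Groth.AlgSpBasic Groth.StkSlice

/-- **A separated stabilizer preserving etale stack over a well-nigh affine one is the pullback of a
scheme separated and etale over the moduli space.** -/
theorem exists_scheme_isTwoCartOver {S : Scheme.{u}} {𝒳 𝒳' : AlgSt.Cat S}
    (h𝒳 : AlgSt.IsAlgStack Scheme.fppfPrecoverage 𝒳)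
    (h𝒳' : AlgSt.IsAlgStack Scheme.fppfPrecoverage 𝒳')
    (hw : AlgSt.IsWellNighAffine 𝒳) (h : 𝒳' ⥤ᵇ 𝒳)
    (het : AlgSt.RepByAlgSpWith AlgSp.IsEtaleMor h) (hsep : AlgSt.IsSeparatedMor h)
    (haut : ∀ x' : 𝒳'.obj, Function.Bijective (Gerb.autMap h x'))
    (M : AlgSp.Sp S) (π : 𝒳 ⥤ᵇ AlgSt.ofSp M) (hπ : AlgSt.IsCatModuli π) :
    ∃ (M' : Over S) (π' : 𝒳' ⥤ᵇ AlgSt.ofSch M') (g : (AlgSp.yon S).obj M' ⟶ M)
      (e : BasedFunctor.comp h π ≅ BasedFunctor.comp π' (AlgSt.ofSpMap g)),
      AlgSp.IsEtaleMor g ∧ AlgSp.IsSeparatedMor g ∧ FibCat.IsTwoCartOver h π' e := by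
  have hX := h𝒳.isStack.1
  have hX' := h𝒳'.isStack.1
  have hh : AlgSt.RepByAlgSp1 h := repWith_repByAlgSp1 het
  have hfaith := faithful_of_repByAlgSp1 hX' hX h hh
  obtain ⟨U, x, hU, hx⟩ := hw
  have hsep' : AlgSt.RepByAlgSpWith AlgSp.IsSeparatedMor h := ((tfae_separated hh).out 2 0).1 hsep
  have het' : AlgSt.RepByAlgSpWith (AlgSp.LocP @Etale) h :=
    repWith_mono (fun _ _ _ _ _ hq => locP_of_isEtaleMor hq) het
  obtain ⟨U', u, E₀, hE, ⟨α⟩, hP⟩ := exists_scheme_chart (f := h)
    (repWith_inf stableBaseChange_sep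
      (repWith_mono (fun _ _ _ _ _ hq => locP_mono (fun _ _ k (_ : Etale k) =>
        (⟨Groth.AlgSp2.locallyQuasiFinite_of_etale k, inferInstance⟩ :
          LocallyQuasiFinite k ∧ LocallyOfFiniteType k)) hq) het') hsep') x
  have hsu : IsSeparated u.left :=
    (AlgSp.isSeparatedMor_yon_map_iff u).1 (hP _ stableBaseChange_sep hsep')
  have heu : Etale u.left := left_prop_of_locP_yon (P := @Etale) (hP _ stableBaseChange_locP het')
  have hx' : AlgSt.RepByAlgSpWith (FinCov S) (bcChart E₀) :=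
    (repWith_precomp_equiv hE _).2 (repWith_fpSnd x h hx)
  obtain ⟨R, ω, hω, hfin, hflat, hlfp, -⟩ := exists_finite_chart_groupoid hX hx
  obtain ⟨R', ω', hω', hfin', hflat', hlfp', -⟩ := exists_finite_chart_groupoid hX' hx'
  have : IsAffine R.left := isAffine_of_isAffineHom ω.src.left
  let f := bcHom α hω hω'
  have : IsFinite (groupoid hω').s := hfin'
  have : Flat (groupoid hω').s := hflat'
  have : LocallyOfFinitePresentation (groupoid hω').s := hlfp'
  have : Etale f.fU := heu
  have : IsSeparated f.fU := hsu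
  obtain ⟨Q, p, g', hinv, heg, hsg, hsq, pQ, hpQ, hgQ⟩ := exists_quotient_etale f
    (isPullback_bcHom_s α hω hω' hE hfaith) (isPullback_bcHom_t α hω hω' hE hfaith)
    fun {_} r => hom_reflects_loops α hω hω' hE hfaith haut r
  let M' : Over S := Over.mk pQ
  let q : U' ⟶ M' := Over.homMk p hpQ
  let g₀ : M' ⟶ Mo (groupoid hω) := Over.homMk g' hgQ
  have hψ : (AlgSp.yon S).map ω'.tgt ≫ (AlgSp.yon S).map q =
      (AlgSp.yon S).map ω'.src ≫ (AlgSp.yon S).map q := by
    rw [← Functor.map_comp, ← Functor.map_comp]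
    exact congrArg _ (Over.OverMorphism.ext hinv)
  let π' : 𝒳' ⥤ᵇ AlgSt.ofSch M' := descFunctor hX' hx' hω' _ hψ
  have hπ' := isDesc_homOf hX' hx' hω' _ hψ
  obtain ⟨θ, hθ⟩ := exists_iso_of_isCatModuli (isCatModuli_toModuli hω hx) hπ
  let g : (AlgSp.yon S).obj M' ⟶ M := (AlgSp.yon S).map g₀ ≫ θ.hom
  have hqg : u ≫ chartQuot hω = q ≫ g₀ := Over.OverMorphism.ext hsq.w
  have hg₀ : AlgSp.LocP @Etale ((AlgSp.yon S).map g₀) :=
    locP_of_repWith ((AlgSp.repWith_yon_map_iff @Etale g₀).2 heg)
  have hg : AlgSp.LocP @Etale g := by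
    have := (stableBaseChange_locP (S := S) (P := @Etale)).respectsIso
    exact (MorphismProperty.cancel_right_of_respectsIso _ _ _).2 hg₀
  have hgs : AlgSp.IsSeparatedMor g :=
    ColimitSep.isSeparatedMor_comp ((AlgSp.isSeparatedMor_yon_map_iff g₀).2 hsg)
      (ColimitSep.isSeparatedMor_of_mono θ.hom)
  have hψ' : (AlgSp.yon S).map ω'.tgt ≫ (AlgSp.yon S).map q ≫ g =
      (AlgSp.yon S).map ω'.src ≫ (AlgSp.yon S).map q ≫ g := by
    rw [← Category.assoc, hψ, Category.assoc]
  obtain ⟨e⟩ : Nonempty (BasedFunctor.comp h π ≅ BasedFunctor.comp π' (AlgSt.ofSpMap g)) := by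
    refine nonempty_iso_of_homOf fun z => ?_
    refine (existsUnique_isDesc hX' hx' hω' _ hψ' z).unique (fun P a c φ hφ => ?_) fun P a c φ hφ => ?_
    · have h₂ : 𝒳.p.map ((kap α a).hom ≫ h.map φ) =
          eqToHom (x.w_obj (Over.mk (a ≫ u))) ≫ (c ≫ eqToHom (h.w_obj z).symm) := by
        rw [Functor.map_comp, (isVert_kap α a).map_eq, map_map, hφ]
        simp
      have e := toModuli_spec hω hx _ h₂
      rw [homOf_comp_left, hθ, ← Category.assoc, ← Category.assoc, ← Functor.map_comp, e,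
        Category.assoc a, hqg]
      simp [g]
    · rw [homOf_comp, ← Category.assoc, hπ' z P a c φ hφ, Category.assoc]
  refine ⟨M', π', g, e, isEtaleMor_of_locP hπ.1 hg, hgs, isTwoCartOver_of_chart α π π' g e hX hX' hh hE hx
    (repWith_repByAlgSp1 (repWith_ofPshMap_of_stable
      (F := ⟨_, AlgSp.IsAlgSpace.yon_obj M'⟩) (G := ⟨M, hπ.1⟩) stableBaseChange_locP g hg)) ?_⟩
  have hval : chartVal x π = (AlgSp.yon S).map (chartQuot hω) ≫ θ.hom := by
    rw [chartVal, hθ, ← Category.assoc]
    refine congrArg (· ≫ θ.hom) ((toModuli_chart hω hx (𝟙 U)).trans ?_)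
    rw [Category.id_comp]
  have hval' : chartVal (bcChart E₀) π' = (AlgSp.yon S).map q := by
    refine (hπ' _ U' (𝟙 U') (eqToHom ((bcChart E₀).w_obj (idObj U')).symm) (𝟙 _) ?_).trans ?_
    · rw [CategoryTheory.Functor.map_id]
      exact ((eqToHom_trans _ _).trans (eqToHom_refl _ _)).symm
    · rw [CategoryTheory.Functor.map_id, Category.id_comp]
  rw [hval, hval']
  have sq : IsPullback u q (chartQuot hω) g₀ := IsPullback.of_map (Over.forget S) hqg hsq
  refine (sq.map (AlgSp.yon S)).of_iso (Iso.refl _) (Iso.refl _) (Iso.refl _) θ ?_ ?_ ?_ ?_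
  · exact (Category.comp_id _).trans (Category.id_comp _).symm
  · exact (Category.comp_id _).trans (Category.id_comp _).symm
  · exact (Category.id_comp _).symm
  · exact (Category.id_comp _).symm

end Stack

end Groth.KeelMori
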