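import Groth.Agent.GitQuot.KeelMori.GrpdCart
import Groth.Agent.GitQuot.KeelMori.FlatQuot
import Groth.Agent.GitQuot.EtQuot.OfScheme
import Groth.Agent.GitQuot.GrpdFinAffine
import Groth.Agent.GitQuot.FiniteAffine
import Groth.Agent.AlgSpBasic.FpqcSheaf
import Groth.Agent.AlgSpBasic.LocPInst
import Groth.Agent.AlgSp2.InfGlue

/-!
# The affine quotient of a groupoid is a uniform categorical quotient among algebraic spaces
-/

set_option autoImplicit false
set_option backward.isDefEq.respectTransparency false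
set_option backward.isDefEq.respectTransparency.types false

universe u

open CategoryTheory CategoryTheory.Limits AlgebraicGeometry Opposite AlgSp
open Groth.AlgSpBasic

noncomputable section

namespace Groth.KeelMori

variable {S : Scheme.{u}} (G : Grpd.GroupoidScheme S)

instance isIso_i : IsIso G.i := ⟨⟨G.i, GrpdBasic.i_i G, GrpdBasic.i_i G⟩⟩

theorem isFinite_t [IsFinite G.s] : IsFinite G.t := by
  rw [← G.i_s]; infer_instance

/-- The objects, over the base. -/
abbrev Uo : Over S := Over.mk G.pU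

/-- The arrows, over the base. -/
abbrev Ro : Over S := Over.mk G.pR

/-- The source, over the base. -/
abbrev sO : Ro G ⟶ Uo G := Over.homMk G.s G.s_over

/-- The target, over the base. -/
abbrev tO : Ro G ⟶ Uo G := Over.homMk G.t G.t_over

variable [IsAffine G.U] [IsAffine G.R] [IsFinite G.s] [Flat G.s] [LocallyOfFinitePresentation G.s]

/-- The structure map of the quotient. -/
def quotBase : Spec (CommRingCat.of G.invariants) ⟶ S :=
  ((AffGpd.isQuot_toQuot G).exists_desc G.pU (G.t_over.trans G.s_over.symm)).choose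

theorem toQuot_quotBase : G.toQuot ≫ quotBase G = G.pU :=
  ((AffGpd.isQuot_toQuot G).exists_desc G.pU (G.t_over.trans G.s_over.symm)).choose_spec

/-- The quotient, over the base. -/
abbrev Mo : Over S := Over.mk (quotBase G)

/-- The quotient map, over the base. -/
abbrev qO : Uo G ⟶ Mo G := Over.homMk G.toQuot (toQuot_quotBase G)

variable {G}

/-- The objects over `E`. -/
abbrev UE {E : Over S} (e : E ⟶ Mo G) : Over S :=
  Over.mk (pullback.snd G.toQuot e.left ≫ E.hom)

/-- The arrows over `E`. -/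
abbrev RE {E : Over S} (e : E ⟶ Mo G) : Over S :=
  Over.mk (pullback.snd (G.s ≫ G.toQuot) e.left ≫ E.hom)

/-- The projection to `E`. -/
abbrev pE {E : Over S} (e : E ⟶ Mo G) : UE e ⟶ E := Over.homMk (pullback.snd G.toQuot e.left) rfl

/-- The projection to the objects. -/
abbrev uE {E : Over S} (e : E ⟶ Mo G) : UE e ⟶ Uo G :=
  Over.homMk (pullback.fst G.toQuot e.left) (by
    show pullback.fst _ _ ≫ G.pU = pullback.snd _ _ ≫ E.hom
    rw [← toQuot_quotBase G, reassoc_of% (pullback.condition (f := G.toQuot) (g := e.left))]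
    exact congrArg _ (Over.w e))

/-- The source over `E`. -/
abbrev sE {E : Over S} (e : E ⟶ Mo G) : RE e ⟶ UE e :=
  Over.homMk (pullback.map (G.s ≫ G.toQuot) e.left G.toQuot e.left G.s (𝟙 E.left) (𝟙 _) (by simp)
    (by simp)) (by
      show _ ≫ pullback.snd _ _ ≫ E.hom = pullback.snd _ _ ≫ E.hom
      exact (Category.assoc _ _ _).symm.trans
        (congrArg (· ≫ E.hom) ((pullback.lift_snd _ _ _).trans (Category.comp_id _))))

/-- The target over `E`. -/
abbrev tE {E : Over S} (e : E ⟶ Mo G) : RE e ⟶ UE e :=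
  Over.homMk (pullback.map (G.s ≫ G.toQuot) e.left G.toQuot e.left G.t (𝟙 E.left) (𝟙 _)
    (by simp [AffGpd.t_toQuot G]) (by simp)) (by
      show _ ≫ pullback.snd _ _ ≫ E.hom = pullback.snd _ _ ≫ E.hom
      exact (Category.assoc _ _ _).symm.trans
        (congrArg (· ≫ E.hom) ((pullback.lift_snd _ _ _).trans (Category.comp_id _))))

theorem sE_pE_eq {E : Over S} (e : E ⟶ Mo G) : tE e ≫ pE e = sE e ≫ pE e :=
  Over.OverMorphism.ext ((pullback.lift_snd _ _ _).trans (pullback.lift_snd _ _ _).symm)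

variable {N : Sp S}

/-- Maps out of a scheme flat over the quotient are detected on the objects over it. -/
theorem hom_ext_of_flat (hN : IsAlgSpace N) {E : Over S} (e : E ⟶ Mo G) [Flat e.left]
    {χ χ' : (yon S).obj E ⟶ N} (h : (yon S).map (pE e) ≫ χ = (yon S).map (pE e) ≫ χ') : χ = χ' := by
  obtain ⟨W, a, ha, has⟩ := hN.atlas
  obtain ⟨D, dW, dE, sq⟩ := exists_pullback_yon ha.rep χ
  obtain ⟨D', dW', dE', sq'⟩ := exists_pullback_yon ha.rep χ'
  have : Etale dE.left := repWith_fst_of_isPullback sq ha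
  have : Surjective dE.left := repWith_fst_of_isPullback sq has
  let ε : D ⟶ Mo G := dE ≫ e
  have : Flat ε.left := inferInstanceAs (Flat (dE.left ≫ e.left))
  let k : UE ε ⟶ UE e :=
    Over.homMk (pullback.map G.toQuot ε.left G.toQuot e.left (𝟙 _) dE.left (𝟙 _) (by simp) (by simp [ε]))
      (by
        show _ ≫ pullback.snd _ _ ≫ E.hom = pullback.snd _ _ ≫ D.hom
        rw [← Category.assoc]
        refine (congrArg (· ≫ E.hom) (pullback.lift_snd _ _ _)).trans ?_
        rw [Category.assoc, Over.w dE])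
  have hk : k ≫ pE e = pE ε ≫ dE := Over.OverMorphism.ext (pullback.lift_snd _ _ _)
  obtain ⟨f, hf⟩ := (yon S).map_surjective (sq'.lift ((yon S).map (pE ε ≫ dW)) ((yon S).map (pE ε ≫ dE)) (by
    rw [Functor.map_comp, Category.assoc, sq.w, ← Category.assoc, ← Functor.map_comp, ← hk,
      Functor.map_comp, Category.assoc, Category.assoc, h]))
  have hfW : f ≫ dW' = pE ε ≫ dW := (yon S).map_injective (by
    rw [Functor.map_comp, hf]; exact sq'.lift_fst _ _ _)
  have hfE : f ≫ dE' = pE ε ≫ dE := (yon S).map_injective (by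
    rw [Functor.map_comp, hf]; exact sq'.lift_snd _ _ _)
  have hinv : tE ε ≫ f = sE ε ≫ f := by
    apply (yon S).map_injective
    apply sq'.hom_ext
    · rw [← Functor.map_comp, ← Functor.map_comp, Category.assoc, Category.assoc, hfW,
        ← Category.assoc, ← Category.assoc, sE_pE_eq]
    · rw [← Functor.map_comp, ← Functor.map_comp, Category.assoc, Category.assoc, hfE,
        ← Category.assoc, ← Category.assoc, sE_pE_eq]
  have hQ := isQuot_baseChange G ε.left
  obtain ⟨g, hg⟩ := hQ.exists_desc f.left (congrArg Over.Hom.left hinv)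
  let g' : D ⟶ D' := Over.homMk g (hQ.epi (by
    rw [← Category.assoc, hg]; exact Over.w f))
  have hgW : g' ≫ dW' = dW := Over.OverMorphism.ext (hQ.epi (by
    show pullback.snd _ _ ≫ g ≫ dW'.left = _
    rw [← Category.assoc]
    exact (congrArg (· ≫ dW'.left) hg).trans (congrArg Over.Hom.left hfW)))
  have hgE : g' ≫ dE' = dE := Over.OverMorphism.ext (hQ.epi (by
    show pullback.snd _ _ ≫ g ≫ dE'.left = _
    rw [← Category.assoc]
    exact (congrArg (· ≫ dE'.left) hg).trans (congrArg Over.Hom.left hfE)))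
  refine AlgSp2.hom_ext_of_fppf dE ?_
  rw [← sq.w, ← hgW, Functor.map_comp, Category.assoc, sq'.w, ← Category.assoc, ← Functor.map_comp, hgE]

/-- Around each point the invariant map factors through a scheme etale over the quotient. -/
theorem exists_local (hN : IsAlgSpace N) (ψ : (yon S).obj (Uo G) ⟶ N)
    (hψ : (yon S).map (tO G) ≫ ψ = (yon S).map (sO G) ≫ ψ) (u : G.U) :
    ∃ (P V : Over S) (h : P ⟶ Mo G) (x : (yon S).obj P ⟶ N) (v : V ⟶ Uo G) (qv : V ⟶ P),
      Etale h.left ∧ Etale v.left ∧ IsPullback v.left qv.left G.toQuot h.left ∧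
        (yon S).map qv ≫ x = (yon S).map v ≫ ψ ∧ u ∈ Set.range v.left := by
  obtain ⟨ι, A, a, hsep, ha, hcov⟩ := exists_separated_charts hN
  obtain ⟨i, V₀, w, e, t₀, sq, rfl⟩ := hcov (Uo G) ψ u
  have : Etale e.left := repWith_fst_of_isPullback sq (ha i)
  have hext : ∀ {T : Scheme.{u}} (x y : T ⟶ V₀.left), x ≫ e.left = y ≫ e.left →
      x ≫ w.left = y ≫ w.left → x = y := fun {T} x y h₁ h₂ => by
    let x' : Over.mk (x ≫ V₀.hom) ⟶ V₀ := Over.homMk x rfl
    let y' : Over.mk (x ≫ V₀.hom) ⟶ V₀ := Over.homMk y (by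
      show y ≫ V₀.hom = x ≫ V₀.hom
      rw [← Over.w e, ← Category.assoc, ← h₁, Category.assoc])
    refine congrArg Over.Hom.left ((yon S).map_injective (sq.hom_ext (k := (yon S).map x')
      (l := (yon S).map y') ?_ ?_) : x' = y')
    · rw [← Functor.map_comp, ← Functor.map_comp]; exact congrArg _ (Over.OverMorphism.ext h₂)
    · rw [← Functor.map_comp, ← Functor.map_comp]; exact congrArg _ (Over.OverMorphism.ext h₁)
  have : IsSeparated e.left := by
    let m : V₀.left ⟶ pullback G.pU (A i).hom :=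
      pullback.lift e.left w.left ((Over.w e).trans (Over.w w).symm)
    have h₁ : m ≫ pullback.fst _ _ = e.left := pullback.lift_fst _ _ _
    have h₂ : m ≫ pullback.snd _ _ = w.left := pullback.lift_snd _ _ _
    have : Mono m := ⟨fun x y h => hext x y (by rw [← h₁, reassoc_of% h])
      (by rw [← h₂, reassoc_of% h])⟩
    have := hsep i
    rw [← h₁]; infer_instance
  let R₀ : Over S := Over.mk (pullback.fst G.s e.left ≫ G.pR)
  let r₁ : R₀ ⟶ Ro G := Over.homMk (pullback.fst G.s e.left) rfl
  let r₂ : R₀ ⟶ V₀ := Over.homMk (pullback.snd G.s e.left) (by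
    show pullback.snd _ _ ≫ V₀.hom = pullback.fst _ _ ≫ G.pR
    rw [← Over.w e, ← reassoc_of% (pullback.condition (f := G.s) (g := e.left))]
    exact congrArg _ G.s_over)
  have hr : r₁ ≫ sO G = r₂ ≫ e := Over.OverMorphism.ext pullback.condition
  obtain ⟨t', ht'⟩ := (yon S).map_surjective (sq.lift ((yon S).map (r₂ ≫ w)) ((yon S).map (r₁ ≫ tO G)) (by
    rw [Functor.map_comp, Category.assoc, sq.w, Functor.map_comp (f := r₁), Category.assoc, hψ,
      ← Category.assoc, ← Category.assoc, ← Functor.map_comp, ← Functor.map_comp, hr]))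
  have ht₁ : t' ≫ w = r₂ ≫ w := (yon S).map_injective (by
    rw [Functor.map_comp, ht']; exact sq.lift_fst _ _ _)
  have ht₂ : t' ≫ e = r₁ ≫ tO G := (yon S).map_injective (by
    rw [Functor.map_comp, ht']; exact sq.lift_snd _ _ _)
  let D₀ : CartData G :=
    { U' := V₀.left, R' := R₀.left, W := (A i).left, u := e.left, g := w.left, fR := r₁.left
      s := r₂.left, t := t'.left
      sq := IsPullback.of_hasPullback G.s e.left
      comm := (congrArg Over.Hom.left ht₂).symm
      inv := congrArg Over.Hom.left ht₁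
      ext := hext }
  have : IsFinite D₀.grpd.s := MorphismProperty.of_isPullback (P := @IsFinite) D₀.sq ‹_›
  have : Flat D₀.grpd.s := MorphismProperty.of_isPullback (P := @Flat) D₀.sq ‹_›
  have : LocallyOfFinitePresentation D₀.grpd.s :=
    MorphismProperty.of_isPullback (P := @LocallyOfFinitePresentation) D₀.sq ‹_›
  have : IsFinite D₀.grpd.t := isFinite_t D₀.grpd
  have : IsAffine (Uo G).left := ‹IsAffine G.U›
  have : LocallyQuasiFinite e.left := locallyQuasiFinite_of_formallyUnramified _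
  obtain ⟨V₁, hV₁, hTV⟩ := GitQuot.exists_affineOpen_of_finite e.left
    (⇑D₀.grpd.t '' (⇑D₀.grpd.s ⁻¹' {t₀}))
    ((D₀.grpd.s.finite_preimage (Set.finite_singleton t₀)).image _)
  obtain ⟨W, hW, hWt, -, hinv⟩ := GrpdFinAffine.exists_invariant_affineOpen_of_norm D₀.grpd {t₀}
    (Set.finite_singleton t₀) V₁ hV₁ (fun r hr => hTV ⟨r, hr, rfl⟩) ⊤ rfl (fun _ _ => trivial)
    fun D hD _ b => GrpdBasic.exists_affineOpen_forall_fibre D₀.grpd.s D hD b
  let tR : (D₀.s ⁻¹ᵁ W).toScheme ⟶ W.toScheme := D₀.t.resLE W _ hinv.le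
  let D₁ := D₀.restrict W.ι (D₀.s ⁻¹ᵁ W).ι (D₀.s ∣_ W) tR
    (isPullback_morphismRestrict D₀.s W).flip (D₀.t.resLE_comp_ι _).symm
  have : IsAffine D₁.grpd.U := hW
  have : IsAffine D₁.grpd.R := hW.preimage D₀.s
  have : IsFinite D₁.grpd.s := MorphismProperty.of_isPullback (P := @IsFinite) D₁.sq ‹_›
  have : Flat D₁.grpd.s := MorphismProperty.of_isPullback (P := @Flat) D₁.sq ‹_›
  have : LocallyOfFinitePresentation D₁.grpd.s :=
    MorphismProperty.of_isPullback (P := @LocallyOfFinitePresentation) D₁.sq ‹_›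
  have : Etale D₁.hom.fU := inferInstanceAs (Etale (W.ι ≫ e.left))
  obtain ⟨het, hpb⟩ := EtQuot.etale_isPullback D₁.hom D₁.sq D₁.isPullback_t
    D₁.exists_stabilizer_isPullback
  have hQ := AffGpd.isQuot_toQuot D₁.grpd
  obtain ⟨c, hc⟩ := hQ.exists_desc D₁.g D₁.inv
  let P : Over S := Over.mk (EtQuot.quotMap D₁.hom ≫ quotBase G)
  let V : Over S := Over.mk (W.ι ≫ V₀.hom)
  let jV : V ⟶ V₀ := Over.homMk W.ι rfl
  have hq : D₁.grpd.toQuot ≫ EtQuot.quotMap D₁.hom ≫ quotBase G = W.ι ≫ V₀.hom := by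
    rw [reassoc_of% (EtQuot.toQuot_quotMap D₁.hom), toQuot_quotBase, ← Over.w e]
    exact Category.assoc _ _ _
  let qv : V ⟶ P := Over.homMk D₁.grpd.toQuot hq
  let c' : P ⟶ A i := Over.homMk c (hQ.epi (by
    rw [← Category.assoc, hc]
    refine ((Category.assoc _ _ _).trans ?_).trans hq.symm
    exact congrArg _ (Over.w w)))
  refine ⟨P, V, Over.homMk (EtQuot.quotMap D₁.hom) rfl, (yon S).map c' ≫ a i, jV ≫ e, qv, het,
    inferInstanceAs (Etale (W.ι ≫ e.left)), hpb, ?_, ⟨⟨t₀, hWt t₀ rfl⟩, ?_⟩⟩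
  · rw [← Category.assoc, ← Functor.map_comp, show qv ≫ c' = jV ≫ w from Over.OverMorphism.ext hc,
      Functor.map_comp, Category.assoc, sq.w, ← Category.assoc, ← Functor.map_comp]
  · exact Scheme.Hom.comp_apply _ _ _

/-- **The affine quotient is a categorical quotient among algebraic spaces.** -/
theorem existsUnique_desc (hN : IsAlgSpace N) (ψ : (yon S).obj (Uo G) ⟶ N)
    (hψ : (yon S).map (tO G) ≫ ψ = (yon S).map (sO G) ≫ ψ) :
    ∃! χ : (yon S).obj (Mo G) ⟶ N, (yon S).map (qO G) ≫ χ = ψ := by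
  choose P V h x v qv het hev hsq hx hu using fun u => exists_local hN ψ hψ u
  obtain ⟨χ, hχ⟩ := exists_glue_of_fppf h (ofArrows_mem_fppf_of_etale _ fun y => by
    obtain ⟨u, rfl⟩ := AffGpd.toQuot_surjective G y
    obtain ⟨z, hz⟩ := hu u
    exact ⟨u, (qv u).left z, by rw [← Scheme.Hom.comp_apply, ← (hsq u).w, Scheme.Hom.comp_apply, hz]; rfl⟩)
    x fun i j T g g' hg => by
      let PP : Over S := Over.mk ((pullback.fst (h i).left (h j).left ≫ (h i).left) ≫ quotBase G)
      let p₁ : PP ⟶ P i := Over.homMk (pullback.fst _ _) (by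
        show pullback.fst _ _ ≫ (P i).hom = _
        rw [← Over.w (h i)]; exact (Category.assoc _ _ _).symm)
      let p₂ : PP ⟶ P j := Over.homMk (pullback.snd _ _) (by
        show pullback.snd _ _ ≫ (P j).hom = (pullback.fst _ _ ≫ (h i).left) ≫ quotBase G
        rw [← Over.w (h j), ← Category.assoc, ← pullback.condition]; rfl)
      have hp : p₁ ≫ h i = p₂ ≫ h j := Over.OverMorphism.ext pullback.condition
      have := het i
      have := het j
      have : Flat (p₁ ≫ h i).left := inferInstanceAs (Flat (pullback.fst (h i).left (h j).left ≫ (h i).left))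
      have side : ∀ (k : G.U) (p : PP ⟶ P k), p ≫ h k = p₁ ≫ h i →
          (yon S).map (pE (p₁ ≫ h i)) ≫ (yon S).map p ≫ x k =
            (yon S).map (uE (p₁ ≫ h i)) ≫ ψ := by
        intro k p hp'
        have hc : (uE (p₁ ≫ h i)).left ≫ G.toQuot = (pE (p₁ ≫ h i) ≫ p).left ≫ (h k).left := by
          show _ = ((pE (p₁ ≫ h i) ≫ p) ≫ h k).left
          rw [Category.assoc, hp']
          exact pullback.condition
        let l : UE (p₁ ≫ h i) ⟶ V k := Over.homMk ((hsq k).lift _ _ hc) (by
          rw [← Over.w (v k), ← Category.assoc, (hsq k).lift_fst]; exact Over.w (uE (p₁ ≫ h i)))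
        have l₁ : l ≫ v k = uE (p₁ ≫ h i) := Over.OverMorphism.ext ((hsq k).lift_fst _ _ hc)
        have l₂ : l ≫ qv k = pE (p₁ ≫ h i) ≫ p := Over.OverMorphism.ext ((hsq k).lift_snd _ _ hc)
        rw [← Category.assoc, ← Functor.map_comp, ← l₂, Functor.map_comp, Category.assoc, hx k,
          ← Category.assoc, ← Functor.map_comp, l₁]
      have key : (yon S).map p₁ ≫ x i = (yon S).map p₂ ≫ x j :=
        hom_ext_of_flat hN (p₁ ≫ h i) ((side i p₁ rfl).trans (side j p₂ hp.symm).symm)
      let l : T ⟶ PP := Over.homMk (pullback.lift g.left g'.left (congrArg Over.Hom.left hg)) (by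
        show pullback.lift _ _ _ ≫ (pullback.fst _ _ ≫ (h i).left) ≫ quotBase G = T.hom
        rw [Category.assoc, pullback.lift_fst_assoc]
        exact (congrArg _ (Over.w (h i))).trans (Over.w g))
      have l₁ : g = l ≫ p₁ := Over.OverMorphism.ext (pullback.lift_fst _ _ _).symm
      have l₂ : g' = l ≫ p₂ := Over.OverMorphism.ext (pullback.lift_snd _ _ _).symm
      rw [l₁, l₂, Functor.map_comp, Functor.map_comp, Category.assoc, Category.assoc, key]
  have hq : (yon S).map (qO G) ≫ χ = ψ := by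
    have := hev
    refine eq_of_fppf v (ofArrows_mem_fppf_of_etale _ fun u => ⟨u, hu u⟩) fun u => ?_
    rw [← Category.assoc, ← Functor.map_comp,
      show v u ≫ qO G = qv u ≫ h u from Over.OverMorphism.ext (hsq u).w, Functor.map_comp,
      Category.assoc, hχ u, hx u]
  refine ⟨χ, hq, fun χ' hχ' => ?_⟩
  have h1 : pE (𝟙 (Mo G)) = uE (𝟙 (Mo G)) ≫ qO G :=
    Over.OverMorphism.ext (by
      show _ = pullback.fst _ _ ≫ G.toQuot
      rw [pullback.condition]; exact (Category.comp_id _).symm)
  refine hom_ext_of_flat hN (𝟙 (Mo G)) ?_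
  rw [h1, Functor.map_comp, Category.assoc, Category.assoc, hχ', hq]

/-- **The affine quotient is uniform**: descent over affine schemes flat over it. -/
theorem existsUnique_desc_of_flat (hN : IsAlgSpace N) {E : Over S} [IsAffine E.left] (e : E ⟶ Mo G)
    [Flat e.left] (ψ : (yon S).obj (UE e) ⟶ N)
    (hψ : (yon S).map (tE e) ≫ ψ = (yon S).map (sE e) ≫ ψ) :
    ∃! χ : (yon S).obj E ⟶ N, (yon S).map (pE e) ≫ χ = ψ := by
  have hs₁ : (sE e).left ≫ pullback.fst G.toQuot e.left = pullback.fst _ _ ≫ G.s :=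
    pullback.lift_fst _ _ _
  have hs₂ : (sE e).left ≫ pullback.snd G.toQuot e.left = pullback.snd _ _ :=
    (pullback.lift_snd _ _ _).trans (Category.comp_id _)
  let D : CartData G :=
    { U' := (UE e).left, R' := (RE e).left, W := E.left, u := pullback.fst G.toQuot e.left
      g := pullback.snd G.toQuot e.left, fR := pullback.fst (G.s ≫ G.toQuot) e.left
      s := (sE e).left, t := (tE e).left
      sq := IsPullback.of_bot (by rw [hs₂]; exact IsPullback.of_hasPullback _ _) hs₁.symm
        (IsPullback.of_hasPullback G.toQuot e.left)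
      comm := (pullback.lift_fst _ _ _).symm
      inv := congrArg Over.Hom.left (sE_pE_eq e)
      ext := fun x y => pullback.hom_ext }
  have : IsAffine D.grpd.U := inferInstanceAs (IsAffine (pullback G.toQuot e.left))
  have : IsAffine D.grpd.R := inferInstanceAs (IsAffine (pullback (G.s ≫ G.toQuot) e.left))
  have : IsFinite D.grpd.s := MorphismProperty.of_isPullback (P := @IsFinite) D.sq ‹_›
  have : Flat D.grpd.s := MorphismProperty.of_isPullback (P := @Flat) D.sq ‹_›
  have : LocallyOfFinitePresentation D.grpd.s :=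
    MorphismProperty.of_isPullback (P := @LocallyOfFinitePresentation) D.sq ‹_›
  let κ : Uo D.grpd ⟶ UE e := Over.homMk (𝟙 _) (by
    rw [Category.id_comp]; exact (Over.w (uE e)).symm)
  let κ' : UE e ⟶ Uo D.grpd := Over.homMk (𝟙 _) (by
    rw [Category.id_comp]; exact Over.w (uE e))
  have hκ : κ' ≫ κ = 𝟙 _ := Over.OverMorphism.ext (Category.comp_id _)
  let ρ : Ro D.grpd ⟶ RE e := Over.homMk (𝟙 _) (by
    rw [Category.id_comp]
    show pullback.snd _ _ ≫ E.hom = pullback.fst _ _ ≫ G.pR
    rw [← Over.w e, ← reassoc_of% (pullback.condition (f := G.s ≫ G.toQuot) (g := e.left)),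
      ← G.s_over]
    exact congrArg _ (congrArg _ (toQuot_quotBase G)))
  have hρs : sO D.grpd ≫ κ = ρ ≫ sE e :=
    Over.OverMorphism.ext ((Category.comp_id _).trans (Category.id_comp _).symm)
  have hρt : tO D.grpd ≫ κ = ρ ≫ tE e :=
    Over.OverMorphism.ext ((Category.comp_id _).trans (Category.id_comp _).symm)
  obtain ⟨χ, hχ, -⟩ := existsUnique_desc hN ((yon S).map κ ≫ ψ) (by
    rw [← Category.assoc, ← Category.assoc, ← Functor.map_comp, ← Functor.map_comp, hρs, hρt,
      Functor.map_comp, Functor.map_comp, Category.assoc, Category.assoc, hψ])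
  have hQE := isQuot_baseChange G e.left
  obtain ⟨i, hi⟩ := (AffGpd.isQuot_toQuot D.grpd).exists_iso hQE.nonempty_isColimit.some
  have hi' : pullback.snd G.toQuot e.left ≫ i.inv = D.grpd.toQuot := (Iso.comp_inv_eq i).2 hi.symm
  let j : E ⟶ Mo D.grpd := Over.homMk i.inv (hQE.epi (by
    rw [← Category.assoc, hi']
    exact (toQuot_quotBase D.grpd).trans (Over.w (uE e))))
  have hj : pE e ≫ j = κ' ≫ qO D.grpd := Over.OverMorphism.ext (by
    show _ = 𝟙 _ ≫ D.grpd.toQuot
    rw [Category.id_comp]; exact hi')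
  have hj' : (yon S).map (pE e) ≫ (yon S).map j ≫ χ = ψ := by
    rw [← Category.assoc, ← Functor.map_comp, hj, Functor.map_comp, Category.assoc, hχ,
      ← Category.assoc, ← Functor.map_comp, hκ, CategoryTheory.Functor.map_id, Category.id_comp]
  exact ⟨_, hj', fun χ' hχ' => hom_ext_of_flat hN e (hχ'.trans hj'.symm)⟩

end Groth.KeelMori
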