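import Groth.Agent.GitQuot.KeelMori.GluedOpen
import Groth.Agent.AlgStBasic.StUniv
import Groth.Agent.ConstQuot.Transport

/-!
# Transport of moduli maps along an isomorphism of the target
-/

set_option autoImplicit false
set_option backward.isDefEq.respectTransparency false
set_option backward.isDefEq.respectTransparency.types false

universe u

open CategoryTheory CategoryTheory.Limits AlgebraicGeometry Opposite
open Groth.StkBase Groth.AlgStBasic Groth.AlgSpBasic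

noncomputable section

namespace Groth.KeelMori

variable {S : Scheme.{u}} {𝒳 : AlgSt.Cat S} {M N : AlgSp.Sp S}

theorem isCatModuli_transfer {π : 𝒳 ⥤ᵇ AlgSt.ofSp M} (h : AlgSt.IsCatModuli π) (θ : M ≅ N)
    (hN : AlgSp.IsAlgSpace N) : AlgSt.IsCatModuli (BasedFunctor.comp π (AlgSt.ofSpMap θ.hom)) := by
  refine ⟨hN, fun L hL φ => ?_⟩
  obtain ⟨v, ⟨i⟩, hu⟩ := h.2 L hL φ
  refine ⟨θ.inv ≫ v, nonempty_iso_of_homOf fun z => ?_, fun v' hv' => ?_⟩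
  · rw [homOf_comp, homOf_comp, Category.assoc, Iso.hom_inv_id_assoc, ← homOf_eq_of_iso i z, homOf_comp]
  · obtain ⟨j⟩ := hv'
    rw [← hu (θ.hom ≫ v') (nonempty_iso_of_homOf fun z => ?_), Iso.inv_hom_id_assoc]
    rw [← homOf_eq_of_iso j z, homOf_comp, homOf_comp, homOf_comp, Category.assoc]

/-- The base change of the transported map is the base change of the map. -/
theorem exists_equiv_fp_transfer {𝒵 : AlgSt.Cat S} (π : 𝒳 ⥤ᵇ AlgSt.ofSp M) (θ : M ≅ N)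
    (g : 𝒵 ⥤ᵇ AlgSt.ofSp N) (g₀ : 𝒵 ⥤ᵇ AlgSt.ofSp M)
    (hg : Nonempty (BasedFunctor.comp g (AlgSt.ofSpMap θ.inv) ≅ g₀)) :
    ∃ E : FibCat.fp g (BasedFunctor.comp π (AlgSt.ofSpMap θ.hom)) ⥤ᵇ FibCat.fp g₀ π,
      FibCat.IsEquivOver E ∧ BasedFunctor.comp E (FibCat.fpFst g₀ π) =
        FibCat.fpFst g (BasedFunctor.comp π (AlgSt.ofSpMap θ.hom)) := by
  obtain ⟨α⟩ := hg
  obtain ⟨β⟩ : Nonempty (BasedFunctor.comp (BasedFunctor.comp π (AlgSt.ofSpMap θ.hom))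
      (AlgSt.ofSpMap θ.inv) ≅ π) := nonempty_iso_of_homOf fun z => by
    rw [homOf_comp, homOf_comp, Category.assoc, θ.hom_inv_id, Category.comp_id]
  have hθ : FibCat.IsEquivOver (AlgSt.ofSpMap θ.inv) := AlgStImm.isEquivOver_ofSpMap θ.symm
  have := full_of_isEquivOver hθ
  have := faithful_of_isEquivOver hθ
  exact ⟨BasedFunctor.comp (fpPost g _ (AlgSt.ofSpMap θ.inv)) (fpCongr α β),
    isEquivOver_comp (isEquivOver_fpPost g _ _) (isEquivOver_fpCongr α β), rfl⟩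

theorem isUnivHomeo_transfer (hX : AlgSt.IsAlgStack Scheme.fppfPrecoverage 𝒳)
    (hM : AlgSp.IsAlgSpace M) (hN : AlgSp.IsAlgSpace N) {π : 𝒳 ⥤ᵇ AlgSt.ofSp M}
    (h : AlgSt.IsUnivHomeo Scheme.fppfPrecoverage π) (θ : M ≅ N) :
    AlgSt.IsUnivHomeo Scheme.fppfPrecoverage (BasedFunctor.comp π (AlgSt.ofSpMap θ.hom)) := by
  intro 𝒵 hZ g
  obtain ⟨E, hE, hE'⟩ := exists_equiv_fp_transfer π θ g _ ⟨Iso.refl _⟩
  have hMs := isAlgStack_ofSp hM
  have hNs := isAlgStack_ofSp hN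
  have hA := isAlgStack_fp hNs.isStack hNs.diag hZ hX g (BasedFunctor.comp π (AlgSt.ofSpMap θ.hom))
  have hB := isAlgStack_fp hMs.isStack hMs.diag hZ hX (BasedFunctor.comp g (AlgSt.ofSpMap θ.inv)) π
  rw [← hE', show AlgSt.Points.map (BasedFunctor.comp E (FibCat.fpFst _ π)) =
    AlgSt.Points.map (FibCat.fpFst _ π) ∘ AlgSt.Points.map E from funext fun x => AlgStBasic.map_comp _ _ x]
  exact (h 𝒵 hZ _).comp (isHomeomorph_map_of_isEquivOver hA hB hE)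

theorem isUnifCatModuli_transfer_fp {π : 𝒳 ⥤ᵇ AlgSt.ofSp M} (h : AlgSt.IsUnifCatModuli π) (θ : M ≅ N)
    {M' : AlgSp.Sp S} (hM' : AlgSp.IsAlgSpace M') (g : M' ⟶ N) (hg : AlgSp.LocP @Flat g) :
    AlgSt.IsCatModuli (FibCat.fpFst (AlgSt.ofSpMap g) (BasedFunctor.comp π (AlgSt.ofSpMap θ.hom))) := by
  have hg' : AlgSp.LocP @Flat (g ≫ θ.inv) := by
    have := (stableBaseChange_locP (S := S) (P := @Flat)).respectsIso
    exact (MorphismProperty.cancel_right_of_respectsIso _ g θ.inv).2 hg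
  obtain ⟨E, hE, hE'⟩ := exists_equiv_fp_transfer π θ (AlgSt.ofSpMap g) (AlgSt.ofSpMap (g ≫ θ.inv))
    ⟨eqToIso (ConstQuot.ofSpMap_comp g θ.inv)⟩
  rw [← hE']
  exact isCatModuli_precomp (h.2 M' hM' (g ≫ θ.inv) hg') hE

theorem geomInj_transfer {π : 𝒳 ⥤ᵇ AlgSt.ofSp M} (h : GeomInj π) (θ : M ≅ N) :
    GeomInj (BasedFunctor.comp π (AlgSt.ofSpMap θ.hom)) := fun k _ _ s a₁ a₂ h₁ h₂ e => by
  rw [valAt_ofSpMap, valAt_ofSpMap, cancel_mono] at e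
  exact h k s a₁ a₂ h₁ h₂ e

theorem geomSurj_transfer {π : 𝒳 ⥤ᵇ AlgSt.ofSp M} (h : GeomSurj π) (θ : M ≅ N) :
    GeomSurj (BasedFunctor.comp π (AlgSt.ofSpMap θ.hom)) := fun k _ _ s m => by
  obtain ⟨a, ha, hv⟩ := h k s (m ≫ θ.inv)
  exact ⟨a, ha, by rw [valAt_ofSpMap, hv, Category.assoc, θ.inv_hom_id, Category.comp_id]⟩

end Groth.KeelMori
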