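import Groth.Agent.GitQuot.KeelMori.EtaleQuot
import Groth.Agent.AlgStBasic.SepRep
import Groth.Agent.AlgStBasic.LocalLift
import Groth.Agent.ResGerbe.Mono

/-!
# A square of moduli maps is 2-cartesian when it is cartesian on a chart
-/

set_option autoImplicit false
set_option backward.isDefEq.respectTransparency false
set_option backward.isDefEq.respectTransparency.types false

universe u

open CategoryTheory CategoryTheory.Limits AlgebraicGeometry Opposite
open Groth.StkBase Groth.AlgStBasic Groth.AlgSpBasic Groth.StkSlice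

noncomputable section

namespace Groth.KeelMori

theorem isEquivOver_of_comp_left {C : Type*} [Category C] {𝒳 : BasedCategory C} {𝒴 : BasedCategory C}
    {𝒵 : BasedCategory C} {E : 𝒳 ⥤ᵇ 𝒴} {F : 𝒴 ⥤ᵇ 𝒵} (hE : FibCat.IsEquivOver E)
    (hEF : FibCat.IsEquivOver (BasedFunctor.comp E F)) : FibCat.IsEquivOver F := by
  obtain ⟨E', hE', -, ⟨b⟩⟩ := isEquivOver_symm hE
  exact isEquivOver_of_iso (F := BasedFunctor.comp E' (BasedFunctor.comp E F))
    (whiskerRightIso b F) (isEquivOver_comp hE' hEF)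

variable {S : Scheme.{u}} {𝒳 𝒳' : AlgSt.Cat S} {U U' : Over S} {x : FibCat.overCat U ⥤ᵇ 𝒳}
  {h : 𝒳' ⥤ᵇ 𝒳} {E₀ : FibCat.overCat U' ⥤ᵇ FibCat.fp x h} {u : U' ⟶ U}

/-- The value of a functor on the chart. -/
abbrev chartVal {N : AlgSp.Sp S} {V : Over S} {𝒵 : AlgSt.Cat S} (y : FibCat.overCat V ⥤ᵇ 𝒵)
    (Φ : 𝒵 ⥤ᵇ AlgSt.ofSp N) : (AlgSp.yon S).obj V ⟶ N :=
  (AlgSp.yon S).map (eqToHom (y.w_obj (idObj V)).symm) ≫ homOf Φ (y.obj (idObj V))

theorem homOf_eq {N : AlgSp.Sp S} {𝒵 : AlgSt.Cat S} (Φ : 𝒵 ⥤ᵇ AlgSt.ofSp N) (a : 𝒵.obj) :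
    homOf Φ a = (AlgSp.yon S).map (eqToHom (Φ.w_obj a).symm) ≫ yEquiv.symm (Φ.obj a).sec :=
  (yon_map_yEquiv_symm _ _).symm

theorem exists_elt_hom {N : AlgSp.Sp S} (X Y : (AlgSt.ofSp N).obj) (k : X.base ⟶ Y.base)
    (hk : (AlgSp.yon S).map k ≫ yEquiv.symm Y.sec = yEquiv.symm X.sec) :
    ∃ f : X ⟶ Y, f.hom = k := by
  rw [yon_map_yEquiv_symm] at hk
  exact ⟨eltHom (a := X) (b := Y) k (yEquiv.symm.injective hk), rfl⟩

variable (α : BasedFunctor.comp E₀ (FibCat.fpFst x h) ≅ AlgSt.overMap u)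
  {M M' : AlgSp.Sp S} (π : 𝒳 ⥤ᵇ AlgSt.ofSp M) (π' : 𝒳' ⥤ᵇ AlgSt.ofSp M') (g : M' ⟶ M)
  (e : BasedFunctor.comp h π ≅ BasedFunctor.comp π' (AlgSt.ofSpMap g))

include α in
/-- The criterion. -/
theorem isTwoCartOver_of_chart (hX : FibCat.IsFibGrpd 𝒳.p) (hX' : FibCat.IsFibGrpd 𝒳'.p)
    (hh : AlgSt.RepByAlgSp1 h) (hE : FibCat.IsEquivOver E₀)
    (hx : AlgSt.RepByAlgSpWith (FinCov S) x) (hg : AlgSt.RepByAlgSp1 (AlgSt.ofSpMap g))
    (hq : IsPullback ((AlgSp.yon S).map u) (chartVal (bcChart E₀) π') (chartVal x π) g) :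
    FibCat.IsTwoCartOver h π' e := by
  let G := AlgSt.ofSpMap g
  let P := FibCat.fp π G
  have hM : FibCat.IsFibGrpd (AlgSt.ofSp M).p := (isFibSetoid_ofPsh _).1
  have hP : FibCat.IsFibGrpd P.p := isFibGrpd_fp hX (isFibSetoid_ofPsh _).1 hM
  let fst : P ⥤ᵇ 𝒳 := FibCat.fpFst π G
  let Φ : 𝒳' ⥤ᵇ P := FibCat.fpLift h π' e
  have hfst : AlgSt.RepByAlgSp1 fst := repByAlgSp1_fpFst G π hg
  have hΦ : AlgSt.RepByAlgSp1 Φ :=
    repByAlgSp1_of_comp hP hX (f := Φ) (g := fst) hh (repWith_repByAlgSp1 (repWith_sep_diag hfst))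
  let g₀ : FibCat.fp fst x ⥤ᵇ P := FibCat.fpFst fst x
  have hg₀ : AlgSt.RepByAlgSpWith (FinCov S) g₀ := repWith_fpFst x fst hx
  have hZ : FibCat.IsFibSetoid (FibCat.fp fst x).p :=
    (isFibSetoid_iff_of_isEquivOver (isEquivOver_fpSwap x fst)).1
      (isFibSetoid_of_repByAlgSp (hfst U x))
  let L' : FibCat.overCat U' ⥤ᵇ FibCat.fp g₀ Φ :=
    BasedFunctor.comp (BasedFunctor.comp E₀ (fpSwap x h))
      (BasedFunctor.comp (fpUnpaste Φ fst x : FibCat.fp h x ⥤ᵇ _) (fpSwap Φ g₀))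
  have hL' : FibCat.IsEquivOver L' :=
    isEquivOver_comp (isEquivOver_comp hE (isEquivOver_fpSwap x h))
      (isEquivOver_comp (isEquivOver_fpUnpaste Φ fst x) (isEquivOver_fpSwap Φ g₀))
  let L : FibCat.overCat U' ⥤ᵇ FibCat.fp fst x := BasedFunctor.comp L' (FibCat.fpFst g₀ Φ)
  let o := (bcChart E₀).obj (idObj U')
  let z₀ := L.obj (idObj U')
  have h₀ : (FibCat.fp fst x).p.obj z₀ = U' := L.w_obj (idObj U')
  have hz₀ : z₀.obj.fst = Φ.obj o := rfl
  have hz₀' : z₀.obj.snd = (E₀.obj (idObj U')).obj.fst := rfl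
  let j := isoApp α (idObj U')
  have hjU : (E₀.obj (idObj U')).obj.fst.left = U' := (isVert_isoApp α (idObj U')).obj_eq
  have hj : (E₀.obj (idObj U')).obj.fst.hom = eqToHom hjU ≫ u := by
    have h₂ : j.hom.left ≫ (𝟙 U' ≫ u) = (E₀.obj (idObj U')).obj.fst.hom := Over.w j.hom
    rw [← h₂, show j.hom.left = eqToHom hjU from (isVert_isoApp α (idObj U')).map_eq]
    exact congrArg (eqToHom hjU ≫ ·) (Category.id_comp u)
  have hL : FibCat.IsEquivOver L := by
    refine isEquivOver_of_universal hZ L h₀ (Iso.refl _) (isVert_id _) fun z => ?_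
    let w := z.obj.fst
    let y := w.obj.fst
    have hzU : z.obj.snd.left = P.p.obj w := fp_p_snd z
    let b : P.p.obj w ⟶ U := eqToHom hzU.symm ≫ z.obj.snd.hom
    let m : (AlgSp.yon S).obj (P.p.obj w) ⟶ M' := homOf (FibCat.fpSnd π G) w
    have hcompat : (AlgSp.yon S).map b ≫ chartVal x π = m ≫ g := by
      have e₁ : m ≫ g = homOf π y :=
        ((homOf_comp (FibCat.fpSnd π G) g w).symm.trans
          (homOf_eq_of_iso (FibCat.fpIso π G) w).symm).trans ((homOf_comp_left fst π w).trans (by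
            rw [eqToHom_refl, CategoryTheory.Functor.map_id]; exact Category.id_comp _))
      have e₂ := homOf_map π z.obj.iso.hom
      have e₃ := homOf_chart (x := x) π z.obj.snd.hom
      have e₄ : homOf π (x.obj z.obj.snd) = (AlgSp.yon S).map (eqToHom (x.w_obj z.obj.snd)) ≫
          (AlgSp.yon S).map z.obj.snd.hom ≫ chartVal x π := by
        refine Eq.trans ?_ (congrArg ((AlgSp.yon S).map (eqToHom (x.w_obj z.obj.snd)) ≫ ·) e₃)
        erw [← Category.assoc, ← Functor.map_comp, eqToHom_trans, eqToHom_refl,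
          CategoryTheory.Functor.map_id]
        exact (Category.id_comp _).symm
      refine Eq.trans ?_ (e₂.trans e₁.symm)
      erw [(fp_isVert z).map_eq, e₄]
      rw [Functor.map_comp, Category.assoc, eqToHom_map, eqToHom_map, eqToHom_map]
      erw [eqToHom_trans_assoc]
    obtain ⟨q₁, hq₁⟩ := (AlgSp.yon S).map_surjective (hq.lift _ _ hcompat)
    have hqu : q₁ ≫ u = b := (AlgSp.yon S).map_injective (by
      rw [Functor.map_comp, hq₁, hq.lift_fst])
    have hqm : (AlgSp.yon S).map q₁ ≫ chartVal (bcChart E₀) π' = m := by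
      rw [hq₁, hq.lift_snd]
    refine ⟨q₁, ?_, fun q₂ hq₂ => ?_⟩
    · let b₁ : z.obj.snd ⟶ z₀.obj.snd :=
        Over.homMk (eqToHom hzU ≫ q₁ ≫ eqToHom hjU.symm) (by
          show (eqToHom hzU ≫ q₁ ≫ eqToHom hjU.symm) ≫ (E₀.obj (idObj U')).obj.fst.hom = _
          rw [hj]
          simp only [Category.assoc, eqToHom_trans_assoc, eqToHom_refl, Category.id_comp]
          rw [hqu]
          simp [b])
      let γ : y ⟶ h.obj o := z.obj.iso.hom ≫ x.map b₁ ≫ z₀.obj.iso.inv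
      have hγ : 𝒳.p.map γ = q₁ ≫ eqToHom h₀.symm := by
        have e₁ : (FibCat.overCat U).p.map b₁ = eqToHom hzU ≫ q₁ ≫ eqToHom hjU.symm := rfl
        have e₂ : 𝒳.p.map z.obj.iso.hom = _ := (fp_isVert z).map_eq
        have e₃ : 𝒳.p.map z₀.obj.iso.inv = _ := (IsVert.inv (fp_isVert z₀)).map_eq
        show 𝒳.p.map (z.obj.iso.hom ≫ x.map b₁ ≫ z₀.obj.iso.inv) = _
        erw [Functor.map_comp, Functor.map_comp, e₂, e₃, map_map, e₁]
        simp
      let k : w.obj.snd.base ⟶ (π'.obj o).base :=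
        eqToHom ((FibCat.fpSnd π G).w_obj w) ≫ q₁ ≫ eqToHom ((bcChart E₀).w_obj (idObj U')).symm ≫
          eqToHom (π'.w_obj o).symm
      have hk : (AlgSp.yon S).map k ≫ yEquiv.symm (π'.obj o).sec = yEquiv.symm w.obj.snd.sec := by
        have e₁ := hqm
        rw [chartVal, homOf_eq π' o, show m = _ from homOf_eq (FibCat.fpSnd π G) w] at e₁
        simp only [k, Functor.map_comp, Category.assoc]
        erw [e₁]
        erw [← Category.assoc, ← Functor.map_comp, eqToHom_trans, eqToHom_refl,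
          CategoryTheory.Functor.map_id]
        exact Category.id_comp _
      obtain ⟨a₂, ha₂⟩ := exists_elt_hom w.obj.snd (π'.obj o) k hk
      let a₁ : w ⟶ Φ.obj o := fpHom (x := w) (y := Φ.obj o) γ a₂ (elt_hom_ext_p (by
        have e₁ : (π.map γ).hom = _ := map_map π γ
        have e₂ : (Φ.obj o).obj.iso.hom.hom = _ := (fp_isVert (Φ.obj o)).map_eq
        have e₃ : w.obj.iso.hom.hom = _ := (fp_isVert w).map_eq
        show (π.map γ).hom ≫ (Φ.obj o).obj.iso.hom.hom = w.obj.iso.hom.hom ≫ a₂.hom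
        rw [e₁, e₂, e₃, ha₂, hγ]
        simp [k]))
      refine ⟨fpHom (x := z) (y := z₀) a₁ b₁ ?_, hγ⟩
      show γ ≫ z₀.obj.iso.hom = z.obj.iso.hom ≫ x.map b₁
      simp [γ]
    · obtain ⟨φ, hφ⟩ := hq₂
      have hφ₁ : P.p.map φ.hom.fst = q₂ ≫ eqToHom h₀.symm := hφ
      have h₁ : q₂ ≫ u = b := by
        have e₁ := Over.w φ.hom.snd
        have e₂ : φ.hom.snd.left = _ := fp_map_snd φ
        rw [e₂] at e₁
        show q₂ ≫ u = eqToHom hzU.symm ≫ z.obj.snd.hom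
        rw [← e₁, show z₀.obj.snd.hom = _ from hj]
        erw [hφ₁]
        simp
      have h₂ : (AlgSp.yon S).map q₂ ≫ chartVal (bcChart E₀) π' = m := by
        have e₁ : _ = m := homOf_map (FibCat.fpSnd π G) φ.hom.fst
        rw [hφ₁, Functor.map_comp, Category.assoc] at e₁
        rw [← e₁]
        refine congrArg ((AlgSp.yon S).map q₂ ≫ ·) ?_
        show (AlgSp.yon S).map _ ≫ homOf (BasedFunctor.comp Φ (FibCat.fpSnd π G)) o = _
        rw [homOf_comp_left, ← Category.assoc, ← Functor.map_comp, eqToHom_trans]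
        rfl
      apply (AlgSp.yon S).map_injective
      rw [hq₁]
      exact hq.hom_ext (by rw [hq.lift_fst, ← Functor.map_comp, h₁]) (by rw [hq.lift_snd, h₂])
  have hiso : AlgSt.RepByAlgSpWith (MorphismProperty.isomorphisms (AlgSp.Sp S)) Φ :=
    repWith_of_locally ResGerbe.stableBaseChange_isomorphisms
      (isLocalOnBase_fppf_of_fpqc Groth.AlgSp2.isLocalOnBase_fpqc_isomorphisms) hΦ
      (fun T y => exists_lift_of_fppf_surjective (repWith_mono (fun _ _ _ _ _ k => k.1.1.2) hg₀)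
        (repWith_mono (fun _ _ _ _ _ k => k.2) hg₀) (repWith_mono (fun _ _ _ _ _ k => k.1.1.1) hg₀) T y)
      (repWith_of_isEquivOver (fun _ _ _ _ _ hi => hi) (isEquivOver_of_comp_left hL' hL))
  exact ResGerbe.isEquivOver_of_repWith_iso hX' hP hiso

end Groth.KeelMori
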