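import Groth.Agent.GitQuot.KeelMori.Desc
import Groth.Agent.GitQuot.KeelMori.SpQuot
import Groth.Agent.GitQuot.KeelMori.Uniform

/-!
# The affine quotient of a chart groupoid is the uniform categorical moduli space
-/

set_option autoImplicit false
set_option backward.isDefEq.respectTransparency false
set_option backward.isDefEq.respectTransparency.types false

universe u

open CategoryTheory CategoryTheory.Limits AlgebraicGeometry Opposite
open Groth.StkBase Groth.AlgSpBasic Groth.AlgStBasic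

noncomputable section

namespace Groth.KeelMori

variable {S : Scheme.{u}} {𝒳 𝒵 : AlgSt.Cat S} {M M' N : AlgSp.Sp S}

theorem app_eq_iff {T X : Over S} (y : (AlgSp.yon S).obj T ⟶ N) (k : X ⟶ T) (s : N.obj.obj (op X)) :
    y.hom.app (op X) ⟨k⟩ = s ↔ (AlgSp.yon S).map k ≫ y = yEquiv.symm s := by
  have h : ((AlgSp.yon S).map k ≫ y).hom.app (op X) ⟨𝟙 X⟩ = y.hom.app (op X) ⟨k⟩ := by
    rw [app_map, Category.id_comp]
  constructor
  · intro e
    apply hom_ext_app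
    rw [h, e, app_yEquiv_symm]
    simp
  · intro e
    rw [← h, e, app_yEquiv_symm]
    simp

/-- A chart of `p` over a scheme determines the extension there. -/
theorem existsUnique_ext (p : 𝒵 ⥤ᵇ AlgSt.ofSp M) (φ : 𝒵 ⥤ᵇ AlgSt.ofSp N) {T U' R' : Over S}
    (xT : (AlgSp.yon S).obj T ⟶ M) (O : 𝒵.obj) (hU : 𝒵.p.obj O = U') (pT : U' ⟶ T)
    (hO : (AlgSp.yon S).map (eqToHom hU ≫ pT) ≫ xT = homOf p O) (s t : R' ⟶ U')
    (hst : ∃ (w : 𝒵.obj) (hw : 𝒵.p.obj w = R') (l l' : w ⟶ O),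
      𝒵.p.map l = eqToHom hw ≫ s ≫ eqToHom hU.symm ∧ 𝒵.p.map l' = eqToHom hw ≫ t ≫ eqToHom hU.symm)
    (hdesc : ∀ ψ : (AlgSp.yon S).obj U' ⟶ N, (AlgSp.yon S).map t ≫ ψ = (AlgSp.yon S).map s ≫ ψ →
      ∃! χ : (AlgSp.yon S).obj T ⟶ N, (AlgSp.yon S).map pT ≫ χ = ψ)
    (hcov : ∀ (z : 𝒵.obj) (k : 𝒵.p.obj z ⟶ T), (AlgSp.yon S).map k ≫ xT = homOf p z →
      ∃ (P : Over S) (c : P ⟶ 𝒵.p.obj z) (w : 𝒵.obj) (hw : 𝒵.p.obj w = P) (l : P ⟶ U') (f : w ⟶ z)
        (g : w ⟶ O), l ≫ pT = c ≫ k ∧ Surjective c.left ∧ Flat c.left ∧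
          LocallyOfFinitePresentation c.left ∧ 𝒵.p.map f = eqToHom hw ≫ c ∧
          𝒵.p.map g = eqToHom hw ≫ l ≫ eqToHom hU.symm) :
    ∃! y, Ext p φ T xT y := by
  let ψ : (AlgSp.yon S).obj U' ⟶ N := (AlgSp.yon S).map (eqToHom hU.symm) ≫ homOf φ O
  have hψ : (AlgSp.yon S).map t ≫ ψ = (AlgSp.yon S).map s ≫ ψ := by
    obtain ⟨w, hw, l, l', hl, hl'⟩ := hst
    have h := homOf_map' φ l hw hl
    have h' := homOf_map' φ l' hw hl'
    rw [Functor.map_comp, Category.assoc] at h h'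
    exact h'.trans h.symm
  obtain ⟨χ, hχ, hu⟩ := hdesc ψ hψ
  refine ⟨χ, fun z k hk => ?_, fun y hy => hu y ?_⟩
  · rw [app_eq_iff] at hk ⊢
    obtain ⟨P, c, w, hw, l, f, g, hl, _, _, _, hf, hg⟩ := hcov z k hk
    refine AlgSp2.hom_ext_of_fppf c ?_
    have h := homOf_map' φ g hw hg
    rw [← Category.assoc, ← Functor.map_comp, ← hl, Functor.map_comp, Category.assoc, hχ,
      show (AlgSp.yon S).map c ≫ homOf φ z = _ from homOf_map' φ f hw hf, ← h,
      Functor.map_comp, Category.assoc]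
  · have h := (app_eq_iff y _ _).1 (hy O (eqToHom hU ≫ pT) ((app_eq_iff xT _ _).2 hO))
    show _ = (AlgSp.yon S).map (eqToHom hU.symm) ≫ homOf φ O
    rw [show homOf φ O = _ from h.symm, ← Category.assoc, ← Functor.map_comp, eqToHom_trans_assoc,
      eqToHom_refl, Category.id_comp]

theorem homOf_comp_left {𝒴 : AlgSt.Cat S} (Ψ : 𝒵 ⥤ᵇ 𝒴) (Φ : 𝒴 ⥤ᵇ AlgSt.ofSp M) (z : 𝒵.obj) :
    homOf (BasedFunctor.comp Ψ Φ) z =
      (AlgSp.yon S).map (eqToHom (Ψ.w_obj z).symm) ≫ homOf Φ (Ψ.obj z) := by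
  refine Eq.trans ?_ (yon_map_yEquiv_symm _ _).symm
  refine congrArg yEquiv.symm ?_
  refine Eq.trans ?_ (map_op_comp M.obj _ _ _).symm
  exact congrArg (fun t => M.obj.map t.op (Φ.obj (Ψ.obj z)).sec) (eqToHom_trans _ _).symm

section Fp

variable (π : 𝒳 ⥤ᵇ AlgSt.ofSp M) (g : M' ⟶ M)

theorem homOf_fpFst (z : (FibCat.fp (AlgSt.ofSpMap g) π).obj) :
    homOf (FibCat.fpFst (AlgSt.ofSpMap g) π) z = yEquiv.symm z.obj.fst.sec :=
  congrArg yEquiv.symm (map_op_id M'.obj _ rfl _)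

theorem fp_rel (z : (FibCat.fp (AlgSt.ofSpMap g) π).obj) :
    homOf (FibCat.fpFst (AlgSt.ofSpMap g) π) z ≫ g =
      (AlgSp.yon S).map (eqToHom (fp_p_snd z).symm) ≫ homOf π z.obj.snd :=
  ((homOf_comp _ g z).symm.trans
    (homOf_eq_of_iso (FibCat.fpIso (AlgSt.ofSpMap g) π) z)).trans (homOf_comp_left _ π z)

variable {π g}

theorem exists_mkFp {T : Over S} (m : (AlgSp.yon S).obj T ⟶ M') (b : 𝒳.obj) (hb : 𝒳.p.obj b = T)
    (h : m ≫ g = (AlgSp.yon S).map (eqToHom hb.symm) ≫ homOf π b) :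
    ∃ e : (AlgSt.ofSpMap g).obj ⟨T, yEquiv m⟩ ≅ π.obj b, IsVert (AlgSt.ofSp M).p e.hom := by
  have hbase : T = (π.obj b).base := hb.symm.trans (π.w_obj b).symm
  have hs : M.obj.map (eqToHom hbase).op (π.obj b).sec = g.hom.app (op T) (yEquiv m) := by
    apply yEquiv.symm.injective
    rw [← yEquiv_symm_comp, Equiv.symm_apply_apply, h, homOf, yon_map_yEquiv_symm]
    refine congrArg yEquiv.symm (Eq.trans ?_ (map_op_comp M.obj _ _ _).symm)
    exact congrArg (fun t => M.obj.map t.op (π.obj b).sec) (eqToHom_trans _ _).symm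
  let f : (AlgSt.ofSpMap g).obj ⟨T, yEquiv m⟩ ⟶ π.obj b :=
    eltHom (a := ⟨T, g.hom.app (op T) (yEquiv m)⟩) (eqToHom hbase) hs
  have hf : IsVert (AlgSt.ofSp M).p f := ⟨hbase, rfl⟩
  have := hf.isIso (isFibSetoid_ofPsh M.obj).1
  exact ⟨asIso f, hf⟩

/-- An object of the fibre product. -/
def mkFp {T : Over S} (m : (AlgSp.yon S).obj T ⟶ M') (b : 𝒳.obj) (hb : 𝒳.p.obj b = T)
    (h : m ≫ g = (AlgSp.yon S).map (eqToHom hb.symm) ≫ homOf π b) :
    (FibCat.fp (AlgSt.ofSpMap g) π).obj :=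
  fpMk (F := AlgSt.ofSpMap g) (G := π) ⟨T, yEquiv m⟩ b (exists_mkFp m b hb h).choose
    (exists_mkFp m b hb h).choose_spec

theorem exists_mkFp_hom {T : Over S} (m : (AlgSp.yon S).obj T ⟶ M') (b : 𝒳.obj) (hb : 𝒳.p.obj b = T)
    (h : m ≫ g = (AlgSp.yon S).map (eqToHom hb.symm) ≫ homOf π b)
    (z : (FibCat.fp (AlgSt.ofSpMap g) π).obj) (f : T ⟶ (FibCat.fp (AlgSt.ofSpMap g) π).p.obj z)
    (hf : (AlgSp.yon S).map f ≫ homOf (FibCat.fpFst (AlgSt.ofSpMap g) π) z = m)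
    (β : b ⟶ z.obj.snd) (hβ : 𝒳.p.map β = eqToHom hb ≫ f ≫ eqToHom (fp_p_snd z).symm) :
    ∃ F : mkFp m b hb h ⟶ z, (FibCat.fp (AlgSt.ofSpMap g) π).p.map F = f := by
  have hs : M'.obj.map f.op z.obj.fst.sec = yEquiv m := by
    apply yEquiv.symm.injective
    rw [Equiv.symm_apply_apply, ← hf, homOf_fpFst]
    exact (yon_map_yEquiv_symm f _).symm
  let a : (⟨T, yEquiv m⟩ : (AlgSt.ofSp M').obj) ⟶ z.obj.fst :=
    eltHom (a := ⟨T, yEquiv m⟩) (b := z.obj.fst) f hs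
  refine ⟨fpHom (x := mkFp m b hb h) (y := z) a β (elt_hom_ext_p ?_), rfl⟩
  have h₁ : z.obj.iso.hom.hom = eqToHom (fp_isVert z).obj_eq := (fp_isVert z).map_eq
  have h₂ : (exists_mkFp m b hb h).choose.hom.hom = eqToHom _ :=
    (exists_mkFp m b hb h).choose_spec.map_eq
  have h₃ : (π.map β).hom = _ := map_map π β
  show f ≫ z.obj.iso.hom.hom = (exists_mkFp m b hb h).choose.hom.hom ≫ (π.map β).hom
  rw [h₁, h₂, h₃, hβ]
  simp

end Fp

variable {U : Over S} {x : FibCat.overCat U ⥤ᵇ 𝒳}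

/-- The arrows of a finite locally free chart form a scheme, finite locally free over the chart. -/
theorem exists_finite_chart_groupoid (hX : FibCat.IsFibGrpd 𝒳.p)
    (hx : AlgSt.RepByAlgSpWith (FinCov S) x) :
    ∃ (R : Over S) (ω : StkSlice.Arr x R), StkSlice.Univ hX ω ∧ IsFinite ω.src.left ∧
      Flat ω.src.left ∧ LocallyOfFinitePresentation ω.src.left ∧ Surjective ω.src.left := by
  obtain ⟨R, c, E, hE, ⟨α⟩, h₁, h₂, h₃, h₄⟩ := exists_rep hx x
  obtain ⟨ω, j, hj, hω⟩ := StkSlice.exists_univ hX E hE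
  have hs : ω.src = c :=
    (StkSlice.hom_isVert_eq (U := U) (a := ω.src) (b := 𝟙 R ≫ c)
      (j.hom.hom.fst ≫ (isoApp α (idObj R)).hom)
      (((isVert_fp_iff j.hom).1 hj).comp (isVert_isoApp α _))).trans (Category.id_comp _)
  subst hs
  exact ⟨R, ω, hω, h₁, h₂, h₃, h₄⟩

section Moduli

variable {hX : FibCat.IsFibGrpd 𝒳.p} {R : Over S} {ω : StkSlice.Arr x R} (hω : StkSlice.Univ hX ω)
  [IsAffine U.left] [IsAffine R.left] [IsFinite ω.src.left] [Flat ω.src.left]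
  [LocallyOfFinitePresentation ω.src.left]

instance : IsAffine (StkSlice.groupoid hω).U := ‹IsAffine U.left›
instance : IsAffine (StkSlice.groupoid hω).R := ‹IsAffine R.left›
instance : IsFinite (StkSlice.groupoid hω).s := ‹IsFinite ω.src.left›
instance : Flat (StkSlice.groupoid hω).s := ‹Flat ω.src.left›
instance : LocallyOfFinitePresentation (StkSlice.groupoid hω).s :=
  ‹LocallyOfFinitePresentation ω.src.left›

/-- The quotient map from the chart. -/
abbrev chartQuot : U ⟶ Mo (StkSlice.groupoid hω) :=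
  Over.homMk (StkSlice.groupoid hω).toQuot (toQuot_quotBase (StkSlice.groupoid hω))

theorem chartQuot_inv : (AlgSp.yon S).map ω.tgt ≫ (AlgSp.yon S).map (chartQuot hω) =
    (AlgSp.yon S).map ω.src ≫ (AlgSp.yon S).map (chartQuot hω) := by
  rw [← Functor.map_comp, ← Functor.map_comp]
  exact congrArg _ (Over.OverMorphism.ext (AffGpd.t_toQuot (StkSlice.groupoid hω)))

variable (hx : AlgSt.RepByAlgSpWith (FinCov S) x)

/-- The map to the affine quotient. -/
def toModuli : 𝒳 ⥤ᵇ AlgSt.ofSch (Mo (StkSlice.groupoid hω)) :=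
  descFunctor hX hx hω _ (chartQuot_inv hω)

theorem toModuli_spec {P : Over S} {a : P ⟶ U} {z : 𝒳.obj} {c : P ⟶ 𝒳.p.obj z}
    (φ : x.obj (Over.mk a) ⟶ z) (hφ : 𝒳.p.map φ = eqToHom (x.w_obj _) ≫ c) :
    (AlgSp.yon S).map c ≫ homOf (toModuli hω hx) z =
      (AlgSp.yon S).map (a ≫ chartQuot hω) := by
  rw [Functor.map_comp]
  exact isDesc_homOf hX hx hω _ (chartQuot_inv hω) z P a c φ hφ

theorem toModuli_chart {P : Over S} (a : P ⟶ U) :
    (AlgSp.yon S).map (eqToHom (x.w_obj (Over.mk a)).symm) ≫ homOf (toModuli hω hx) (x.obj (Over.mk a))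
      = (AlgSp.yon S).map (a ≫ chartQuot hω) :=
  toModuli_spec hω hx (𝟙 _) ((𝒳.p.map_id _).trans (by simp))

/-- **The affine quotient is a categorical moduli space.** -/
theorem isCatModuli_toModuli : AlgSt.IsCatModuli (toModuli hω hx) := by
  refine ⟨AlgSp.IsAlgSpace.yon_obj _, fun N hN φ => ?_⟩
  let G := StkSlice.groupoid hω
  let ψ : (AlgSp.yon S).obj U ⟶ N :=
    (AlgSp.yon S).map (eqToHom (x.w_obj (idObj U)).symm) ≫ homOf φ (x.obj (idObj U))
  have hval : ∀ (z : 𝒳.obj), IsDesc x ψ z (homOf φ z) := fun z P a c f hf => by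
    rw [homOf_map' φ f (x.w_obj _) hf]
    exact homOf_chart φ a
  have hψ : (AlgSp.yon S).map ω.tgt ≫ ψ = (AlgSp.yon S).map ω.src ≫ ψ := by
    rw [← hval _ R ω.src (eqToHom (x.w_obj (Over.mk ω.tgt)).symm) ω.hom
      (by rw [ω.vert.map_eq]; simp), ← hval _ R ω.tgt (eqToHom (x.w_obj (Over.mk ω.tgt)).symm) (𝟙 _)
      ((𝒳.p.map_id _).trans (by simp))]
  obtain ⟨χ, hχ, hu⟩ := existsUnique_desc (G := G) hN ψ hψ
  refine ⟨χ, nonempty_iso_of_homOf fun z => ?_, fun χ' ⟨i⟩ => hu χ' ?_⟩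
  · refine (existsUnique_isDesc hX hx hω ψ hψ z).unique (fun P a c f hf => ?_) (hval z)
    rw [homOf_comp, ← Category.assoc, toModuli_spec hω hx f hf, Functor.map_comp, Category.assoc]
    exact congrArg (fun t => (AlgSp.yon S).map a ≫ t) hχ
  · have h := toModuli_chart hω hx (𝟙 U)
    rw [Category.id_comp] at h
    show (AlgSp.yon S).map (chartQuot hω) ≫ χ' = ψ
    rw [← h, Category.assoc, ← homOf_comp, homOf_eq_of_iso i]

/-- The base change of the chart is a chart of the base change. -/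
theorem existsUnique_ext_fpFst (hN : AlgSp.IsAlgSpace N) {M' : AlgSp.Sp S}
    (g : M' ⟶ (AlgSp.yon S).obj (Mo (StkSlice.groupoid hω)))
    (φ : FibCat.fp (AlgSt.ofSpMap g) (toModuli hω hx) ⥤ᵇ AlgSt.ofSp N)
    {T : Over S} [IsAffine T.left] (xT : (AlgSp.yon S).obj T ⟶ M') (e : T ⟶ Mo (StkSlice.groupoid hω))
    (he : (AlgSp.yon S).map e = xT ≫ g) [Flat e.left] :
    ∃! y, Ext (FibCat.fpFst (AlgSt.ofSpMap g) (toModuli hω hx)) φ T xT y := by
  have rel : ∀ {P : Over S} (a : P ⟶ U) (k : P ⟶ T), a ≫ chartQuot hω = k ≫ e →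
      ((AlgSp.yon S).map k ≫ xT) ≫ g = (AlgSp.yon S).map (eqToHom (x.w_obj (Over.mk a)).symm) ≫
        homOf (toModuli hω hx) (x.obj (Over.mk a)) := fun a k h => by
    rw [toModuli_chart, h, Functor.map_comp, he, Category.assoc]
  have hq : uE e ≫ chartQuot hω = pE e ≫ e := Over.OverMorphism.ext pullback.condition
  have hqs : sE e ≫ uE e ≫ chartQuot hω = (sE e ≫ pE e) ≫ e := by rw [hq, Category.assoc]
  let rU : RE e ⟶ U := sE e ≫ uE e
  let O := mkFp (g := g) (π := toModuli hω hx) ((AlgSp.yon S).map (pE e) ≫ xT)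
    (x.obj (Over.mk (uE e))) (x.w_obj (Over.mk (uE e))) (rel _ _ hq)
  let w := mkFp (g := g) (π := toModuli hω hx) ((AlgSp.yon S).map (sE e ≫ pE e) ≫ xT)
    (x.obj (Over.mk rU)) (x.w_obj (Over.mk rU)) (rel _ _ ((Category.assoc _ _ _).trans hqs))
  have hO₁ : homOf (FibCat.fpFst (AlgSt.ofSpMap g) (toModuli hω hx)) O =
      (AlgSp.yon S).map (pE e) ≫ xT := (homOf_fpFst _ _ O).trans (Equiv.symm_apply_apply _ _)
  refine existsUnique_ext _ φ xT O (rfl : _ = UE e) (pE e)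
    (by rw [hO₁, eqToHom_refl, Category.id_comp]) (sE e) (tE e) ?_
    (fun ψ hψ => existsUnique_desc_of_flat hN e ψ hψ) fun z k hk => ?_
  · -- the two projections of the arrows
    obtain ⟨l, hl⟩ := exists_mkFp_hom (g := g) (π := toModuli hω hx)
      ((AlgSp.yon S).map (sE e ≫ pE e) ≫ xT) (x.obj (Over.mk rU)) (x.w_obj (Over.mk rU))
      (rel _ _ ((Category.assoc _ _ _).trans hqs)) O (sE e)
      (by rw [hO₁, ← Category.assoc, ← Functor.map_comp])
      (StkSlice.Arr.xMap x (sE e) (uE e)) (StkSlice.Arr.xMap_p _ _)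
    let r : RE e ⟶ R := Over.homMk (pullback.fst _ _) (by
      show pullback.fst _ _ ≫ R.hom = pullback.snd _ _ ≫ T.hom
      rw [← Over.w e, ← reassoc_of% (pullback.condition
        (f := (StkSlice.groupoid hω).s ≫ (StkSlice.groupoid hω).toQuot) (g := e.left)), ← Over.w ω.src]
      exact congrArg _ (congrArg _ (toQuot_quotBase (StkSlice.groupoid hω)).symm))
    let A := ω.pull hX r
    have hA₁ : r ≫ ω.src = rU := Over.OverMorphism.ext (pullback.lift_fst _ _ _).symm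
    have hA₂ : r ≫ ω.tgt = tE e ≫ uE e := Over.OverMorphism.ext (pullback.lift_fst _ _ _).symm
    let β : x.obj (Over.mk rU) ⟶ x.obj (Over.mk (uE e)) :=
      eqToHom (congrArg (fun a => x.obj (Over.mk a)) hA₁.symm) ≫ A.hom ≫
        eqToHom (congrArg (fun a => x.obj (Over.mk a)) hA₂) ≫ StkSlice.Arr.xMap x (tE e) (uE e)
    obtain ⟨l', hl'⟩ := exists_mkFp_hom (g := g) (π := toModuli hω hx)
      ((AlgSp.yon S).map (sE e ≫ pE e) ≫ xT) (x.obj (Over.mk rU)) (x.w_obj (Over.mk rU))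
      (rel _ _ ((Category.assoc _ _ _).trans hqs)) O (tE e)
      (by rw [hO₁, ← Category.assoc, ← Functor.map_comp, sE_pE_eq])
      β (by
        simp only [β, Functor.map_comp, eqToHom_map, A.vert.map_eq]
        erw [StkSlice.Arr.xMap_p]
        simp)
    exact ⟨w, rfl, l, l', hl.trans (by simp), hl'.trans (by simp)⟩
  · obtain ⟨P, a, c, β, hβ, hcfin, hcflat, hclfp, hcsurj⟩ := exists_cover hX hx z.obj.snd
    let c' : P ⟶ (FibCat.fp (AlgSt.ofSpMap g) (toModuli hω hx)).p.obj z := c ≫ eqToHom (fp_p_snd z)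
    have hc' : c = c' ≫ eqToHom (fp_p_snd z).symm := by simp [c']
    have hak : a ≫ chartQuot hω = (c' ≫ k) ≫ e := by
      apply (AlgSp.yon S).map_injective
      rw [← toModuli_spec hω hx β hβ, Functor.map_comp, Functor.map_comp, he, Category.assoc,
        ← Category.assoc _ xT g, hk, fp_rel, ← Category.assoc, ← Functor.map_comp, ← hc']
    let l : P ⟶ UE e := Over.homMk (pullback.lift a.left (c' ≫ k).left (congrArg Over.Hom.left hak)) (by
      show pullback.lift _ _ _ ≫ pullback.snd _ _ ≫ T.hom = P.hom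
      rw [pullback.lift_snd_assoc]
      exact Over.w (c' ≫ k))
    have hl₁ : l ≫ uE e = a := Over.OverMorphism.ext (pullback.lift_fst _ _ _)
    have hl₂ : l ≫ pE e = c' ≫ k := Over.OverMorphism.ext (pullback.lift_snd _ _ _)
    let m := (AlgSp.yon S).map (c' ≫ k) ≫ xT
    obtain ⟨F, hF⟩ := exists_mkFp_hom (g := g) (π := toModuli hω hx) m (x.obj (Over.mk a))
      (x.w_obj (Over.mk a)) (rel _ _ hak) z c'
      (show _ = (AlgSp.yon S).map (c' ≫ k) ≫ xT by
        rw [← hk, ← Category.assoc, ← Functor.map_comp]) β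
      (by rw [hβ, ← hc'])
    obtain ⟨F', hF'⟩ := exists_mkFp_hom (g := g) (π := toModuli hω hx) m (x.obj (Over.mk a))
      (x.w_obj (Over.mk a)) (rel _ _ hak) O l
      (by rw [hO₁, ← Category.assoc, ← Functor.map_comp, hl₂])
      (eqToHom (congrArg (fun a => x.obj (Over.mk a)) hl₁.symm) ≫ StkSlice.Arr.xMap x l (uE e)) (by
        rw [Functor.map_comp, eqToHom_map]
        erw [StkSlice.Arr.xMap_p]
        simp)
    refine ⟨P, c', mkFp m (x.obj (Over.mk a)) (x.w_obj (Over.mk a)) (rel _ _ hak), rfl, l, F, F',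
      hl₂, ?_, ?_, ?_, hF.trans (by simp), hF'.trans (by simp)⟩
    · show Surjective (c ≫ eqToHom _).left
      rw [Over.comp_left]; infer_instance
    · show Flat (c ≫ eqToHom _).left
      rw [Over.comp_left]; infer_instance
    · show LocallyOfFinitePresentation (c ≫ eqToHom _).left
      rw [Over.comp_left]; infer_instance

/-- **The affine quotient is a uniform categorical moduli space.** -/
theorem isUnifCatModuli_toModuli : AlgSt.IsUnifCatModuli (toModuli hω hx) := by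
  refine ⟨isCatModuli_toModuli hω hx, fun M' hM' g hg => ⟨hM', fun N hN φ => ?_⟩⟩
  have hZ : FibCat.IsFibGrpd (FibCat.fp (AlgSt.ofSpMap g) (toModuli hω hx)).p :=
    isFibGrpd_fp (isFibSetoid_ofPsh M'.obj).1 hX (isFibSetoid_ofPsh _).1
  obtain ⟨v, hv, huniq⟩ := existsUnique_of_affine (FibCat.fpFst (AlgSt.ofSpMap g) (toModuli hω hx)) φ
    hZ hM' fun T hT xT hxT => by
      obtain ⟨e, he⟩ := (AlgSp.yon S).map_surjective (xT ≫ g)
      have hflat : AlgSp.LocP @Flat ((AlgSp.yon S).map e) := by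
        rw [he]
        exact locP_comp (AlgSp.IsAlgSpace.yon_obj T) hM' (AlgSp.IsAlgSpace.yon_obj _) hxT hg
      have : Flat e.left := left_prop_of_locP_yon hflat
      exact existsUnique_ext_fpFst hω hx hN g φ xT e he
  refine ⟨v, nonempty_iso_of_secOf N.obj fun z => (secOf_comp_ofSpMap _ v z).trans (hv z),
    fun v' ⟨i⟩ => huniq v' fun z => (secOf_comp_ofSpMap _ v' z).symm.trans (secOf_eq_of_iso i z)⟩

end Moduli

end Groth.KeelMori
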