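import Groth.Agent.GitQuot.KeelMori.TwoCart
import Groth.Agent.GitQuot.KeelMori.EtaleNhd

/-!
# Moduli spaces of well-nigh affine stacks along stabilizer preserving etale morphisms
-/

set_option autoImplicit false
set_option backward.isDefEq.respectTransparency false
set_option backward.isDefEq.respectTransparency.types false

universe u

open CategoryTheory CategoryTheory.Limits AlgebraicGeometry Opposite
open Groth.StkBase Groth.AlgStBasic Groth.AlgSpBasic Groth.StkSlice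

noncomputable section

namespace Groth.KeelMori

variable {S : Scheme.{u}} {𝒳 𝒳' : AlgSt.Cat S}

/-- Two categorical moduli spaces are isomorphic. -/
theorem exists_iso_of_isCatModuli {M₀ M : AlgSp.Sp S} {π₀ : 𝒳 ⥤ᵇ AlgSt.ofSp M₀} {π : 𝒳 ⥤ᵇ AlgSt.ofSp M}
    (h₀ : AlgSt.IsCatModuli π₀) (h : AlgSt.IsCatModuli π) :
    ∃ θ : M₀ ≅ M, ∀ z, homOf π z = homOf π₀ z ≫ θ.hom := by
  obtain ⟨a, ⟨i⟩, -⟩ := h₀.2 M h.1 π
  obtain ⟨b, ⟨j⟩, -⟩ := h.2 M₀ h₀.1 π₀
  have ha : ∀ z, homOf π₀ z ≫ a = homOf π z := fun z =>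
    (homOf_comp π₀ a z).symm.trans (homOf_eq_of_iso i z)
  have hb : ∀ z, homOf π z ≫ b = homOf π₀ z := fun z =>
    (homOf_comp π b z).symm.trans (homOf_eq_of_iso j z)
  refine ⟨⟨a, b, ?_, ?_⟩, fun z => (ha z).symm⟩
  · exact (h₀.2 M₀ h₀.1 π₀).unique
      (nonempty_iso_of_homOf fun z => by rw [homOf_comp, ← Category.assoc, ha, hb])
      (nonempty_iso_of_homOf fun z => by rw [homOf_comp, Category.comp_id])
  · exact (h.2 M h.1 π).unique
      (nonempty_iso_of_homOf fun z => by rw [homOf_comp, ← Category.assoc, hb, ha])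
      (nonempty_iso_of_homOf fun z => by rw [homOf_comp, Category.comp_id])

theorem finCov_le_affine {A B : AlgSp.Sp S} (f : A ⟶ B) (h : FinCov S f) : AlgSp.IsAffineMor f :=
  Groth.AlgSp2.isAffineMor_of_repWith (P := @IsFinite) (fun _ _ k (_ : IsFinite k) => inferInstance)
    (isFiniteMor_iff_repWith.1 h.1.2)

/-- **The moduli map of a stabilizer preserving etale morphism of well-nigh affine stacks is etale and
cartesian.** -/
theorem exists_isTwoCartOver_of_etale (h𝒳 : AlgSt.IsAlgStack Scheme.fppfPrecoverage 𝒳)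
    (h𝒳' : AlgSt.IsAlgStack Scheme.fppfPrecoverage 𝒳')
    (hw : AlgSt.IsWellNighAffine 𝒳) (hw' : AlgSt.IsWellNighAffine 𝒳') (h : 𝒳' ⥤ᵇ 𝒳)
    (het : AlgSt.RepByAlgSpWith AlgSp.IsEtaleMor h)
    (haut : ∀ x' : 𝒳'.obj, Function.Bijective (Gerb.autMap h x'))
    (M : AlgSp.Sp S) (π : 𝒳 ⥤ᵇ AlgSt.ofSp M) (hπ : AlgSt.IsCatModuli π)
    (M' : AlgSp.Sp S) (π' : 𝒳' ⥤ᵇ AlgSt.ofSp M') (hπ' : AlgSt.IsCatModuli π') :
    ∃ (g : M' ⟶ M) (e : BasedFunctor.comp h π ≅ BasedFunctor.comp π' (AlgSt.ofSpMap g)),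
      AlgSp.IsEtaleMor g ∧ FibCat.IsTwoCartOver h π' e := by
  have hX := h𝒳.isStack.1
  have hX' := h𝒳'.isStack.1
  have hh : AlgSt.RepByAlgSp1 h := repWith_repByAlgSp1 het
  have hfaith := faithful_of_repByAlgSp1 hX' hX h hh
  obtain ⟨U, x, hU, hx⟩ := hw
  have haff : AlgSt.RepByAlgSpWith AlgSp.IsAffineMor (FibCat.fpSnd x h) :=
    repWith_mono (fun _ _ f _ _ hq => finCov_le_affine f hq) (repWith_fpSnd x h hx)
  obtain ⟨U', e₀, hU', he₀⟩ := Groth.AlgStCover.exists_affine_of_wellNighAffine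
    (Groth.AlgStCover.wellNighAffine_of_affine hX' _ haff hw') (hh U x)
  let E₀ : FibCat.overCat U' ⥤ᵇ FibCat.fp x h := BasedFunctor.comp (AlgSt.ofOverCat U') e₀
  have hE : FibCat.IsEquivOver E₀ := isEquivOver_comp (isEquivOver_ofOverCat U') he₀
  obtain ⟨u, ⟨α⟩⟩ := exists_iso_overMap (BasedFunctor.comp E₀ (FibCat.fpFst x h))
  have : Etale u.left := left_prop_of_locP_yon (P := @Etale)
    (prop_of_repWith_overMap stableBaseChange_locP u (repWith_of_iso α ((repWith_precomp_equiv hE _).2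
      (repWith_fpFst h x (repWith_mono (fun _ _ _ _ _ hq => locP_of_isEtaleMor hq) het)))))
  have hx' : AlgSt.RepByAlgSpWith (FinCov S) (bcChart E₀) :=
    (repWith_precomp_equiv hE _).2 (repWith_fpSnd x h hx)
  obtain ⟨R, ω, hω, hfin, hflat, hlfp, -⟩ := exists_finite_chart_groupoid hX hx
  obtain ⟨R', ω', hω', hfin', hflat', hlfp', -⟩ := exists_finite_chart_groupoid hX' hx'
  have : IsAffine R.left := isAffine_of_isAffineHom ω.src.left
  have : IsAffine R'.left := isAffine_of_isAffineHom ω'.src.left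
  obtain ⟨heq, hsq⟩ := etale_quotMap_bcHom α hω hω' hE hfaith haut
  obtain ⟨θ, hθ⟩ := exists_iso_of_isCatModuli (isCatModuli_toModuli hω hx) hπ
  obtain ⟨θ', hθ'⟩ := exists_iso_of_isCatModuli (isCatModuli_toModuli hω' hx') hπ'
  let g₀ := quotHom α hω hω'
  let g : M' ⟶ M := θ'.inv ≫ (AlgSp.yon S).map g₀ ≫ θ.hom
  have hg₀ : AlgSp.LocP @Etale ((AlgSp.yon S).map g₀) :=
    locP_of_repWith ((AlgSp.repWith_yon_map_iff @Etale g₀).2 heq)
  have hg : AlgSp.LocP @Etale g := by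
    have := (stableBaseChange_locP (S := S) (P := @Etale)).respectsIso
    exact (MorphismProperty.cancel_left_of_respectsIso _ _ _).2
      ((MorphismProperty.cancel_right_of_respectsIso _ _ _).2 hg₀)
  obtain ⟨e⟩ : Nonempty (BasedFunctor.comp h π ≅ BasedFunctor.comp π' (AlgSt.ofSpMap g)) :=
    nonempty_iso_of_homOf fun z => by
      obtain ⟨i⟩ := nonempty_iso_quotHom α hω hω' hx hx'
      have hz := homOf_eq_of_iso i z
      rw [homOf_comp, homOf_comp_left] at hz
      rw [homOf_comp, homOf_comp_left, hθ, hθ', ← Category.assoc, hz]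
      simp [g, g₀]
  refine ⟨g, e, isEtaleMor_of_locP hπ.1 hg, isTwoCartOver_of_chart α π π' g e hX hX' hh hE hx
    (repWith_repByAlgSp1 (repWith_ofPshMap_of_stable (F := ⟨M', hπ'.1⟩) (G := ⟨M, hπ.1⟩)
      stableBaseChange_locP g hg)) ?_⟩
  have hval : chartVal x π = (AlgSp.yon S).map (chartQuot hω) ≫ θ.hom := by
    rw [chartVal, hθ, ← Category.assoc]
    refine congrArg (· ≫ θ.hom) ((toModuli_chart hω hx (𝟙 U)).trans ?_)
    rw [Category.id_comp]
  have hval' : chartVal (bcChart E₀) π' = (AlgSp.yon S).map (chartQuot hω') ≫ θ'.hom := by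
    rw [chartVal, hθ', ← Category.assoc]
    refine congrArg (· ≫ θ'.hom) ((toModuli_chart hω' hx' (𝟙 U')).trans ?_)
    rw [Category.id_comp]
  rw [hval, hval']
  have sq : IsPullback u (chartQuot hω') (chartQuot hω) g₀ :=
    IsPullback.of_map (Over.forget S) (chartQuot_quotHom α hω hω').symm hsq
  refine (sq.map (AlgSp.yon S)).of_iso (Iso.refl _) (Iso.refl _) θ' θ ?_ ?_ ?_ ?_
  · exact (Category.comp_id _).trans (Category.id_comp _).symm
  · exact (Category.id_comp _).symm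
  · exact (Category.id_comp _).symm
  · simp [g]

end Groth.KeelMori
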